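import Cfsg.Agent.Lib.CliffMax93.Block
import Cfsg.Agent.Lib.GeomClasses.Basic

/-!
A group containing both diagonal special linear blocks and a mixing element contains the special linear group.
-/

set_option autoImplicit false
set_option linter.unusedSectionVars false

namespace CfsgLib.CliffMax93

open Cfsg Cfsg.Geo Matrix CfsgLib.GeomClasses
open scoped MatrixGroups

variable {κ : Type} [Fintype κ] [DecidableEq κ] {F : Type*} [Field F]

theorem vecMulVec_elim (v w φ ψ : κ → F) :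
    vecMulVec (Sum.elim v w) (Sum.elim φ ψ) =
      fromBlocks (vecMulVec v φ) (vecMulVec v ψ) (vecMulVec w φ) (vecMulVec w ψ) := by
  ext (x | x) (y | y) <;> simp [vecMulVec_apply]

theorem dd_tv_left {v φ : κ → F} (h : φ ⬝ᵥ v = 0) :
    dd (tv v φ, 1) = tv (Sum.elim v (0 : κ → F)) (Sum.elim φ (0 : κ → F)) := by
  refine Units.ext ?_
  rw [tv_val (by simp [h]), vecMulVec_elim]
  show fromBlocks (mt (tv v φ)) 0 0 (mt 1) = _
  rw [show mt (tv v φ) = _ from tv_val h, ← fromBlocks_one, fromBlocks_add]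
  simp [mt]

theorem dd_tv_right {v φ : κ → F} (h : φ ⬝ᵥ v = 0) :
    dd (1, tv v φ) = tv (Sum.elim (0 : κ → F) v) (Sum.elim (0 : κ → F) φ) := by
  refine Units.ext ?_
  rw [tv_val (by simp [h]), vecMulVec_elim]
  show fromBlocks (mt 1) 0 0 (mt (tv v φ)) = _
  rw [show mt (tv v φ) = _ from tv_val h, ← fromBlocks_one, fromBlocks_add]
  simp [mt]

/-- Diagonal blocks, a swap and a mixing element generate. -/
theorem specialLinear_le_of_mix {X : Subgroup (GL (κ ⊕ κ) F)} (hcard : 3 ≤ Fintype.card κ)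
    (hX : ∀ A ∈ Cfsg.Geo.specialLinear κ F, dd (A, 1) ∈ X) {b P : GL (κ ⊕ κ) F} (hb : b ∈ X)
    (hbv : mt b = fromBlocks 0 1 1 0) (hP : P ∈ X) {α β : F} (hα : α ≠ 0) (hβ : β ≠ 0) (hαβ : α * α - β * β ≠ 0)
    (hPv : mt P = fromBlocks (α • 1) (β • 1) (β • 1) (α • 1)) :
    Cfsg.Geo.specialLinear (κ ⊕ κ) F ≤ X := by
  classical
  have hX' : ∀ A ∈ Cfsg.Geo.specialLinear κ F, dd (1, A) ∈ X := fun A hA => by
    have e : b * dd (A, 1) * b⁻¹ = dd (1, A) := by
      rw [mul_inv_eq_iff_eq_mul, Units.ext_iff, Units.val_mul, Units.val_mul]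
      change mt b * mt (dd (A, 1)) = mt (dd (1, A)) * mt b
      simp [mt_dd, hbv, fromBlocks_multiply]
    exact e ▸ X.mul_mem (X.mul_mem hb (hX A hA)) (X.inv_mem hb)
  have hR : ∀ v φ : κ → F, φ ⬝ᵥ v = 0 → tv (Sum.elim (0 : κ → F) v) (Sum.elim (0 : κ → F) φ) ∈ X := fun v φ h =>
    dd_tv_right h ▸ hX' _ (tv_mem_specialLinear v φ)
  have hL : ∀ v φ : κ → F, φ ⬝ᵥ v = 0 → tv (Sum.elim v (0 : κ → F)) (Sum.elim φ (0 : κ → F)) ∈ X := fun v φ h =>
    dd_tv_left h ▸ hX _ (tv_mem_specialLinear v φ)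
  -- cross transvections
  let C : (κ → F) → (κ → F) → Prop := fun w φ => tv (Sum.elim (0 : κ → F) w) (Sum.elim φ (0 : κ → F)) ∈ X
  have hd : ∀ w φ : κ → F, (Sum.elim φ (0 : κ → F) : κ ⊕ κ → F) ⬝ᵥ Sum.elim (0 : κ → F) w = 0 := fun w φ => by simp
  have Cw : ∀ w w' φ, C w φ → C w' φ → C (w + w') φ := fun w w' φ h h' => by
    have := X.mul_mem h h'
    rw [tv_mul_tv_left (hd w φ) (hd w' φ)] at this
    show tv _ _ ∈ X
    rwa [show (Sum.elim (0 : κ → F) (w + w')) = Sum.elim (0 : κ → F) w + Sum.elim (0 : κ → F) w' by ext (x | x) <;> simp]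
  have Cn : ∀ w φ, C w φ → C (-w) φ := fun w φ h => by
    have := X.inv_mem h
    rw [tv_inv (hd w φ)] at this
    show tv _ _ ∈ X
    rwa [show (Sum.elim (0 : κ → F) (-w)) = -Sum.elim (0 : κ → F) w by ext (x | x) <;> simp]
  have Cφ : ∀ w φ φ', C w φ → C w φ' → C w (φ + φ') := fun w φ φ' h h' => by
    have := X.mul_mem h h'
    rw [tv_mul_tv_right (hd w φ) (hd w φ')] at this
    show tv _ _ ∈ X
    rwa [show (Sum.elim (φ + φ') (0 : κ → F)) = Sum.elim φ (0 : κ → F) + Sum.elim φ' 0 by ext (x | x) <;> simp]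
  have C0 : ∀ φ, C 0 φ := fun φ => by
    show tv _ _ ∈ X
    rw [show (Sum.elim (0 : κ → F) (0 : κ → F)) = 0 by ext (x | x) <;> rfl, tv_zero_left]
    exact X.one_mem
  have C0' : ∀ w, C w 0 := fun w => by
    show tv _ _ ∈ X
    have := (fullAxes X).zero_mem (Sum.elim (0 : κ → F) w) (by simp)
    rwa [show (Sum.elim (0 : κ → F) (0 : κ → F)) = 0 by ext (x | x) <;> rfl]
  have Cs : ∀ w φ (c : F), C (c • w) φ ↔ C w (c • φ) := fun w φ c => by
    show tv _ _ ∈ X ↔ tv _ _ ∈ X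
    rw [show (Sum.elim (0 : κ → F) (c • w)) = c • Sum.elim (0 : κ → F) w by ext (x | x) <;> simp,
      show (Sum.elim (c • φ) (0 : κ → F)) = c • Sum.elim φ (0 : κ → F) by ext (x | x) <;> simp, tv_smul_comm (hd w φ)]
  have Cmove : ∀ w φ u ψ : κ → F, ψ ⬝ᵥ u = 0 → C w φ → C (w + (ψ ⬝ᵥ w) • u) φ := fun w φ u ψ h hC => by
    have := X.mul_mem (X.mul_mem (hR u ψ h) hC) (X.inv_mem (hR u ψ h))
    rw [tv_conj_tv (by simp [h]) (hd w φ)] at this
    show tv _ _ ∈ X
    convert this using 2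
    · ext (x | x) <;> simp
    · ext (x | x) <;> simp
  obtain ⟨k, l, m, hkl, hkm, hlm⟩ := Fintype.two_lt_card_iff.1 hcard
  let e : κ → κ → F := fun j => Pi.single j 1
  have ed : ∀ p q : κ, e p ⬝ᵥ e q = if p = q then 1 else 0 := fun p q => by
    simp [e, Pi.single_apply, eq_comm]
  -- one cross transvection
  obtain ⟨c₀, hc₀, hC₀⟩ : ∃ c : F, c ≠ 0 ∧ C (c • e m) (e l) := by
    have h := hL (e k) (e l) (by rw [ed, if_neg hkl.symm])
    have h2 := X.mul_mem (X.mul_mem hP h) (X.inv_mem hP)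
    rw [conj_tv _ (by simp [ed, hkl.symm])] at h2
    set D := α * α - β * β with hD
    set w : κ ⊕ κ → F := Sum.elim ((α / D) • e l) ((-β / D) • e l) with hw
    have hwP : (Sum.elim (e l) (0 : κ → F)) ᵥ* ((P⁻¹ : GL (κ ⊕ κ) F) : Matrix (κ ⊕ κ) (κ ⊕ κ) F) = w := by
      have : w ᵥ* mt P = Sum.elim (e l) (0 : κ → F) := by
        rw [hPv, vecMul_fromBlocks, hw]
        ext (x | x) <;> simp [vecMul_smul] <;> field_simp <;> ring
      rw [← this, vecMul_vecMul, mt, Units.mul_inv, vecMul_one]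
    rw [hwP, show (P : Matrix (κ ⊕ κ) (κ ⊕ κ) F) = _ from hPv, fromBlocks_mulVec] at h2
    simp only [Sum.elim_comp_inl, Sum.elim_comp_inr, mulVec_zero, add_zero, smul_mulVec, one_mulVec] at h2
    set u : κ ⊕ κ → F := Sum.elim (α • e k) (β • e k) with hu
    have hperp : w ⬝ᵥ u = 0 := by simp [hw, hu, ed, hkl.symm]
    have hg := hR (e m) (e k) (by rw [ed, if_neg hkm])
    have h3 := X.mul_mem (X.mul_mem hg h2) (X.inv_mem hg)
    rw [tv_conj_tv (by simp [ed, hkm]) hperp] at h3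
    have e1 : w ⬝ᵥ Sum.elim (0 : κ → F) (e m) = 0 := by simp [hw, ed, hlm]
    have e2 : (Sum.elim (0 : κ → F) (e k)) ⬝ᵥ u = β := by simp [hu, ed]
    rw [e1, e2, zero_smul, sub_zero] at h3
    have h4 := X.mul_mem (X.inv_mem h2) h3
    rw [tv_inv hperp, tv_mul_tv_left (by simp [hperp]) (by simp [dotProduct_add, hperp, e1]),
      neg_add_cancel_left] at h4
    refine ⟨β * (α / D), mul_ne_zero hβ (div_ne_zero hα hαβ), ?_⟩
    have h5 := hR (β • e m) ((β / D) • e l) (by simp [ed, hlm])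
    rw [show (β • Sum.elim (0 : κ → F) (e m)) = Sum.elim (0 : κ → F) (β • e m) by ext (x | x) <;> simp] at h4
    have h6 := X.mul_mem h4 h5
    rw [tv_mul_tv_right (by simp [hw, ed, hlm]) (by simp [ed, hlm])] at h6
    have e3 : w + Sum.elim (0 : κ → F) ((β / D) • e l) = Sum.elim ((α / D) • e l) (0 : κ → F) := by
      rw [hw]; ext (x | x) <;> simp [neg_div]
    rw [e3] at h6
    rw [mul_comm, ← smul_smul, Cs]
    exact h6
  have hall₁ : ∀ q : κ, ∀ c : F, C (c • e q) (e l) := by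
    have hne : ∀ q, q ≠ m → ∀ c : F, C (c • e q) (e l) := by
      intro q hq c
      have := Cmove _ _ ((c / c₀) • e q) (e m) (by simp [ed, Ne.symm hq]) hC₀
      have := Cw _ _ _ this (Cn _ _ hC₀)
      rwa [dotProduct_smul, ed, if_pos rfl, smul_eq_mul, mul_one, smul_smul, mul_div_cancel₀ _ hc₀,
        add_neg_cancel_comm] at this
    intro q c
    by_cases hq : q = m
    · subst hq
      have h := hne k hkm 1
      have := Cmove _ _ (c • e q) (e k) (by simp [ed, hkm]) h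
      have := Cw _ _ _ this (Cn _ _ h)
      rwa [one_smul, ed, if_pos rfl, one_smul, add_neg_cancel_comm] at this
    · exact hne q hq c
  have hsum : ∀ (P : (κ → F) → Prop), P 0 → (∀ x y, P x → P y → P (x + y)) → (∀ q (c : F), P (c • e q)) →
      ∀ v, P v := by
    intro P h0 hadd hb v
    rw [pi_eq_sum_univ' v]
    exact Finset.sum_induction _ P hadd h0 fun q _ => hb q _
  have hall₂ : ∀ w, C w (e l) := hsum (fun w => C w (e l)) (C0 _) (fun x y => Cw x y _) hall₁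
  have hallφ : ∀ w φ, C w φ := by
    intro w
    have hl : ∀ c : F, C w (c • e l) := fun c => (Cs w _ c).1 (hall₂ _)
    refine hsum (fun φ => C w φ) (C0' w) (Cφ w) fun q c => ?_
    by_cases hq : q = l
    · subst hq; exact hl c
    · have h := hL (-(c • e l)) (e q) (by simp [ed, hq])
      have h0 : C w (e l) := hall₂ w
      have := X.mul_mem (X.mul_mem (hL (-(c • e l)) (e q) (by simp [ed, hq])) h0) (X.inv_mem h)
      rw [tv_conj_tv (by simp [ed, hq]) (hd w _)] at this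
      have h7 : C w (e l + c • e q) := by
        show tv _ _ ∈ X
        convert this using 2
        · ext (x | x) <;> simp
        · ext (x | x) <;> simp [ed]
      have h8 := Cφ _ _ _ h7 ((Cs w _ (-1)).1 (hall₂ _))
      rwa [neg_one_smul, add_neg_cancel_comm] at h8
  -- axes
  have hinl : ∀ φ : κ → F, Sum.elim φ (0 : κ → F) ∈ fullAxes X := by
    intro φ v hv
    obtain ⟨v₁, v₂, rfl⟩ : ∃ v₁ v₂, v = Sum.elim v₁ v₂ := ⟨v ∘ Sum.inl, v ∘ Sum.inr, (Sum.elim_comp_inl_inr v).symm⟩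
    have h₁ : φ ⬝ᵥ v₁ = 0 := by simpa using hv
    have := X.mul_mem (hL v₁ φ h₁) (hallφ v₂ φ)
    rw [tv_mul_tv_left (by simp [h₁]) (hd _ _)] at this
    convert this using 2
    ext (x | x) <;> simp
  refine specialLinear_le_of_fullAxes_eq_top (Submodule.eq_top_iff'.2 fun φ => ?_)
  rw [← Sum.elim_comp_inl_inr φ, show Sum.elim (φ ∘ Sum.inl) (φ ∘ Sum.inr) =
    Sum.elim (φ ∘ Sum.inl) (0 : κ → F) + Sum.elim (0 : κ → F) (φ ∘ Sum.inr) by ext (x | x) <;> simp]
  refine add_mem (hinl _) ?_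
  have := fullAxes_invariant hb (hinl (φ ∘ Sum.inr))
  have hbb : b⁻¹ = b := inv_eq_of_mul_eq_one_right (Units.ext (by
    rw [Units.val_mul, show (b : Matrix (κ ⊕ κ) (κ ⊕ κ) F) = _ from hbv, fromBlocks_multiply]; simp))
  rw [hbb, show (b : Matrix (κ ⊕ κ) (κ ⊕ κ) F) = _ from hbv, vecMul_fromBlocks] at this
  convert this using 1
  ext (x | x) <;> simp

end CfsgLib.CliffMax93
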