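import Mathlib
import Cfsg.Prelude.Def_GeometricClasses

/-!
Clifford-type groups (two-groups of symplectic type with a fourth root of unity) in `GL(ι, F)`:
signs, projective images, the trace criterion and transvection lifts.
-/

set_option autoImplicit false
set_option linter.unusedSectionVars false

namespace CfsgLib.CliffMax93

open Cfsg Cfsg.Geo Matrix
open scoped MatrixGroups

variable {ι : Type} [Fintype ι] [DecidableEq ι] {F : Type*} [Field F]

/-- The matrix of a group element. -/
abbrev mt (g : GL ι F) : Matrix ι ι F := (g : Matrix ι ι F)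

instance instScalarsNormal : (scalars ι F).Normal := by
  refine ⟨fun s hs g => ?_⟩
  obtain ⟨c, hc⟩ := (mem_scalars_iff s).1 hs
  have : g * s = s * g := Units.ext (by rw [Units.val_mul, Units.val_mul, hc]; simp)
  rw [this, mul_inv_cancel_right]
  exact hs

/-- The projective general linear group. -/
abbrev PG (ι : Type) [Fintype ι] [DecidableEq ι] (F : Type*) [Field F] : Type _ := GL ι F ⧸ scalars ι F

/-- The projection. -/
abbrev pg : GL ι F →* PG ι F := QuotientGroup.mk' (scalars ι F)

theorem mt_ne_zero [Nonempty ι] (g : GL ι F) : mt g ≠ 0 := g.isUnit.ne_zero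

theorem smul_inj_mt [Nonempty ι] {g : GL ι F} {c d : F} (h : c • mt g = d • mt g) : c = d := by
  by_contra hne
  have h2 : (c - d) • mt g = 0 := by rw [sub_smul, h, sub_self]
  exact mt_ne_zero g ((smul_eq_zero.1 h2).resolve_left (sub_ne_zero.2 hne))

theorem pg_eq_one_iff (g : GL ι F) : pg g = 1 ↔ ∃ c : F, mt g = c • 1 := by
  rw [pg, QuotientGroup.mk'_apply, QuotientGroup.eq_one_iff, mem_scalars_iff]
  constructor
  · rintro ⟨c, hc⟩; exact ⟨c, hc⟩
  · rintro ⟨c, hc⟩
    rcases isEmpty_or_nonempty ι with hι | hι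
    · exact ⟨1, Subsingleton.elim _ _⟩
    have hc0 : c ≠ 0 := fun h0 => mt_ne_zero g (by rw [hc, h0, zero_smul])
    exact ⟨Units.mk0 c hc0, hc⟩

theorem pg_eq_iff (g h : GL ι F) : pg g = pg h ↔ ∃ c : F, mt g = c • mt h := by
  rw [← mul_inv_eq_one, ← map_inv, ← map_mul, pg_eq_one_iff]
  refine exists_congr fun c => ⟨fun hc => ?_, fun hc => ?_⟩
  · have := congrArg (fun M => M * mt h) hc
    simp only [mt, Units.val_mul, mul_assoc, Units.inv_mul, mul_one, smul_mul_assoc, one_mul] at this
    exact this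
  · show ((g * h⁻¹ : GL ι F) : Matrix ι ι F) = _
    rw [Units.val_mul, show (g : Matrix ι ι F) = _ from hc, smul_mul_assoc, Units.mul_inv]

theorem pg_commute_iff (g h : GL ι F) :
    pg g * pg h = pg h * pg g ↔ ∃ c : F, mt g * mt h = c • (mt h * mt g) := by
  rw [← map_mul, ← map_mul, pg_eq_iff]
  simp only [mt, Units.val_mul]

theorem mt_conj (g s : GL ι F) : mt (g * s * g⁻¹) = mt g * mt s * ((g⁻¹ : GL ι F) : Matrix ι ι F) := by
  simp only [mt, Units.val_mul]

/-- A group of symplectic type for the prime two, with a primitive fourth root of unity. -/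
structure Cliff (R : Subgroup (GL ι F)) (i : F) : Prop where
  hi : i * i = -1
  two : (2 : F) ≠ 0
  card0 : (Fintype.card ι : F) ≠ 0
  scal : ∃ g ∈ R, mt g = i • 1
  comm : ∀ a ∈ R, ∀ b ∈ R, a * b = b * a ∨ mt a * mt b = -(mt b * mt a)
  sq : ∀ a ∈ R, mt a * mt a = 1 ∨ mt a * mt a = -1
  irr : ∀ M : Matrix ι ι F, (∀ a ∈ R, M * mt a = mt a * M) → ∃ c : F, M = c • 1
  card : Nat.card (R.map (pg (ι := ι) (F := F))) = Fintype.card ι ^ 2

open Classical in
/-- The commutation sign. -/
noncomputable def bt (a b : GL ι F) : F := if a * b = b * a then 1 else -1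

variable {R : Subgroup (GL ι F)} {i : F}

theorem Cliff.nonempty (hC : Cliff R i) : Nonempty ι := by
  rw [← Fintype.card_pos_iff, Nat.pos_iff_ne_zero]
  exact fun h => hC.card0 (by rw [h, Nat.cast_zero])

theorem Cliff.i_ne_zero (hC : Cliff R i) : i ≠ 0 := fun h => by
  have := hC.hi; rw [h, zero_mul] at this; exact one_ne_zero (neg_eq_zero.1 this.symm)

theorem Cliff.neg_one_ne_one (hC : Cliff R i) : (-1 : F) ≠ 1 := fun h => hC.two (by linear_combination -h)

theorem bt_pm (a b : GL ι F) : bt a b = 1 ∨ bt a b = -1 := by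
  unfold bt; split <;> simp

theorem bt_sq (a b : GL ι F) : bt a b * bt a b = 1 := by
  rcases bt_pm a b with h | h <;> rw [h] <;> ring

theorem bt_symm (a b : GL ι F) : bt a b = bt b a := by
  unfold bt
  by_cases h : a * b = b * a
  · rw [if_pos h, if_pos h.symm]
  · rw [if_neg h, if_neg (Ne.symm h)]

theorem bt_comm_iff (hC : Cliff R i) (a b : GL ι F) : bt a b = 1 ↔ a * b = b * a := by
  unfold bt
  split_ifs with h
  · simp [h]
  · simp [h, hC.neg_one_ne_one]

theorem Cliff.mul_bt (hC : Cliff R i) {a b : GL ι F} (ha : a ∈ R) (hb : b ∈ R) :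
    mt a * mt b = bt a b • (mt b * mt a) := by
  unfold bt
  split_ifs with h
  · rw [one_smul, ← Units.val_mul, h, Units.val_mul]
  · rw [neg_one_smul]; exact (hC.comm a ha b hb).resolve_left h

theorem bt_eq_of (hC : Cliff R i) {a b : GL ι F} {c : F} (ha : a ∈ R) (hb : b ∈ R)
    (h : mt a * mt b = c • (mt b * mt a)) : bt a b = c := by
  have := hC.nonempty
  rw [hC.mul_bt ha hb, ← Units.val_mul] at h
  exact smul_inj_mt h

theorem bt_mul_left (hC : Cliff R i) {a a' b : GL ι F} (ha : a ∈ R) (ha' : a' ∈ R) (hb : b ∈ R) :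
    bt (a * a') b = bt a b * bt a' b := by
  refine bt_eq_of hC (R.mul_mem ha ha') hb ?_
  simp only [mt, Units.val_mul]
  rw [mul_assoc, show (a' : Matrix ι ι F) * b = _ from hC.mul_bt ha' hb, mul_smul_comm, ← mul_assoc,
    show (a : Matrix ι ι F) * b = _ from hC.mul_bt ha hb, smul_mul_assoc, smul_smul, mul_comm (bt a' b), mul_assoc]

theorem bt_mul_right (hC : Cliff R i) {a a' b : GL ι F} (ha : a ∈ R) (ha' : a' ∈ R) (hb : b ∈ R) :
    bt b (a * a') = bt b a * bt b a' := by
  rw [bt_symm, bt_mul_left hC ha ha' hb, bt_symm a, bt_symm a']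

theorem bt_self (a : GL ι F) : bt a a = 1 := by simp [bt]

theorem Cliff.bt_congr_left (hC : Cliff R i) {a a' b : GL ι F} (ha : a ∈ R) (ha' : a' ∈ R) (hb : b ∈ R)
    (h : pg a = pg a') : bt a b = bt a' b := by
  obtain ⟨c, hc⟩ := (pg_eq_iff a a').1 h
  refine bt_eq_of hC ha hb ?_
  rw [hc, smul_mul_assoc, hC.mul_bt ha' hb, mul_smul_comm, smul_comm]

theorem Cliff.bt_congr (hC : Cliff R i) {a a' b b' : GL ι F} (ha : a ∈ R) (ha' : a' ∈ R) (hb : b ∈ R) (hb' : b' ∈ R)
    (h : pg a = pg a') (h' : pg b = pg b') : bt a b = bt a' b' := by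
  rw [hC.bt_congr_left ha ha' hb h, bt_symm, hC.bt_congr_left hb hb' ha' h', bt_symm]

theorem bt_conj (g a b : GL ι F) : bt (g * a * g⁻¹) (g * b * g⁻¹) = bt a b := by
  unfold bt
  have h1 : g * a * g⁻¹ * (g * b * g⁻¹) = g * (a * b) * g⁻¹ := by group
  have h2 : g * b * g⁻¹ * (g * a * g⁻¹) = g * (b * a) * g⁻¹ := by group
  by_cases h : a * b = b * a
  · rw [if_pos h, if_pos (by rw [h1, h2, h])]
  · rw [if_neg h, if_neg (fun e => h (by rw [h1, h2] at e; exact mul_left_cancel (mul_right_cancel e)))]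

theorem Cliff.pg_comm (hC : Cliff R i) {a b : GL ι F} (ha : a ∈ R) (hb : b ∈ R) : pg a * pg b = pg b * pg a :=
  (pg_commute_iff a b).2 ⟨_, hC.mul_bt ha hb⟩

theorem Cliff.pg_sq (hC : Cliff R i) {a : GL ι F} (ha : a ∈ R) : pg a * pg a = 1 := by
  rw [← map_mul, pg_eq_one_iff]
  rcases hC.sq a ha with h | h
  · exact ⟨1, by rw [one_smul]; exact h⟩
  · exact ⟨-1, by rw [neg_one_smul]; exact h⟩

theorem Cliff.root_mem (hC : Cliff R i) {g : GL ι F} {c : F} (hc : c ^ 4 = 1) (hg : mt g = c • 1) : g ∈ R := by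
  obtain ⟨z, hz, hzi⟩ := hC.scal
  have h : c * c = 1 ∨ c * c = -1 := sq_eq_one_iff.1 (by linear_combination hc)
  have hcases : c = 1 ∨ c = -1 ∨ c = i ∨ c = -i := by
    rcases h with h | h
    · rcases mul_self_eq_one_iff.1 h with h | h <;> simp [h]
    · rcases mul_self_eq_mul_self_iff.1 (show c * c = i * i by rw [h, hC.hi]) with h | h <;> simp [h]
  rcases hcases with rfl | rfl | rfl | rfl
  · rw [show g = 1 from Units.ext (by change mt g = _; rw [hg]; simp)]; exact R.one_mem
  · rw [show g = z * z from Units.ext (by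
      change mt g = _
      rw [hg, Units.val_mul, show (z : Matrix ι ι F) = _ from hzi, smul_mul_smul_comm, hC.hi, one_mul])]
    exact R.mul_mem hz hz
  · rw [show g = z from Units.ext (by change mt g = mt z; rw [hg, hzi])]; exact hz
  · rw [show g = z * z * z from Units.ext (by
      change mt g = _
      rw [hg, Units.val_mul, Units.val_mul, show (z : Matrix ι ι F) = _ from hzi, smul_mul_smul_comm, hC.hi, one_mul,
        smul_mul_smul_comm, one_mul]
      congr 1; ring)]
    exact R.mul_mem (R.mul_mem hz hz) hz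

/-- Membership in the group only depends on the projective class for elements with fourth root squares. -/
theorem Cliff.mem_of_pg_eq (hC : Cliff R i) {g r : GL ι F} (hr : r ∈ R) (h : pg g = pg r)
    (hg : mt g * mt g = 1 ∨ mt g * mt g = -1) : g ∈ R := by
  have := hC.nonempty
  obtain ⟨c, hc⟩ := (pg_eq_iff g r).1 h
  have hc4 : c ^ 4 = 1 := by
    have h4 : (c * c) • (mt r * mt r) = mt g * mt g := by rw [hc, smul_mul_smul_comm]
    have key : ∀ e d : F, e • (1 : Matrix ι ι F) = d • (1 : Matrix ι ι F) → e = d := fun e d he =>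
      smul_inj_mt (g := (1 : GL ι F)) (by simpa [mt] using he)
    have hcc : c * c = 1 ∨ c * c = -1 := by
      rcases hC.sq r hr with h1 | h1 <;> rcases hg with h2 | h2 <;> rw [h1, h2] at h4
      · left; exact key _ _ (by rw [h4, one_smul])
      · right; exact key _ _ (by rw [h4, neg_one_smul])
      · right
        have := key (-(c * c)) 1 (by rw [neg_smul, one_smul, ← smul_neg]; exact h4)
        linear_combination -this
      · left; exact key _ _ (by rw [smul_neg] at h4; rw [neg_inj.1 h4, one_smul])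
    rcases hcc with h1 | h1 <;> rw [show c ^ 4 = (c * c) * (c * c) by ring, h1] <;> ring
  rw [show g = (g * r⁻¹) * r by group]
  refine R.mul_mem (hC.root_mem hc4 ?_) hr
  show ((g * r⁻¹ : GL ι F) : Matrix ι ι F) = _
  rw [Units.val_mul, show (g : Matrix ι ι F) = _ from hc, smul_mul_assoc, Units.mul_inv]

theorem Cliff.exists_lift_one (hC : Cliff R i) {a : GL ι F} (ha : a ∈ R) :
    ∃ b ∈ R, pg b = pg a ∧ mt b * mt b = 1 := by
  rcases hC.sq a ha with h | h
  · exact ⟨a, ha, rfl, h⟩
  obtain ⟨z, hz, hzi⟩ := hC.scal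
  refine ⟨z * a, R.mul_mem hz ha, (pg_eq_iff _ _).2 ⟨i, by simp [mt, Units.val_mul, show (z : Matrix ι ι F) = _ from hzi]⟩, ?_⟩
  simp only [mt, Units.val_mul, show (z : Matrix ι ι F) = _ from hzi, smul_mul_assoc, one_mul, mul_smul_comm, smul_smul]
  rw [show (a : Matrix ι ι F) * a = -1 from h, hC.hi, neg_one_smul, neg_neg]

theorem Cliff.pg_eq_one_of_comm (hC : Cliff R i) {a : GL ι F} (h : ∀ b ∈ R, a * b = b * a) : pg a = 1 := by
  rw [pg_eq_one_iff]
  exact hC.irr _ fun b hb => by rw [← Units.val_mul, h b hb, Units.val_mul]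

theorem Cliff.exists_anti (hC : Cliff R i) {a : GL ι F} (hne : pg a ≠ 1) :
    ∃ b ∈ R, bt a b = -1 := by
  by_contra hall
  push Not at hall
  exact hne (hC.pg_eq_one_of_comm fun b hb =>
    (bt_comm_iff hC a b).1 ((bt_pm a b).resolve_right (hall b hb)))

theorem Cliff.trace_eq_zero (hC : Cliff R i) {a : GL ι F} (ha : a ∈ R) (hne : pg a ≠ 1) : (mt a).trace = 0 := by
  obtain ⟨b, hb, hab⟩ := hC.exists_anti hne
  have h := hC.mul_bt ha hb
  rw [hab, neg_one_smul] at h
  have h1 : mt a = -(mt b * mt a * ((b⁻¹ : GL ι F) : Matrix ι ι F)) := by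
    have := congrArg (fun M => M * ((b⁻¹ : GL ι F) : Matrix ι ι F)) h
    simpa only [neg_mul, mul_assoc, Units.mul_inv, mul_one] using this
  have h2 := congrArg Matrix.trace h1
  rw [Matrix.trace_neg, Matrix.trace_mul_comm, ← mul_assoc, Units.inv_mul, one_mul] at h2
  have : (2 : F) * (mt a).trace = 0 := by linear_combination h2
  exact (mul_eq_zero.1 this).resolve_left hC.two

theorem Cliff.trace_conj (g a : GL ι F) : (mt (g * a * g⁻¹)).trace = (mt a).trace := by
  rw [mt_conj, Matrix.trace_mul_comm, ← mul_assoc, Units.inv_mul, one_mul]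

/-- An element of the normaliser commuting with all lifts of its projective fixed points has non-zero trace. -/
theorem Cliff.trace_ne_zero [Fintype F] (hC : Cliff R i) {y : GL ι F} (hy : y ∈ Subgroup.normalizer (R : Set (GL ι F)))
    (hcom : ∀ u ∈ R, pg y * pg u = pg u * pg y → y * u = u * y) : (mt y).trace ≠ 0 := by
  classical
  have := hC.nonempty
  intro htr
  let W := R.map (pg (ι := ι) (F := F))
  haveI : Fintype W := Fintype.ofFinite _
  have hlift : ∀ w : W, ∃ r ∈ R, pg r = (w : PG ι F) := fun w => w.2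
  choose r hr hrw using hlift
  let f : GL ι F → Matrix ι ι F := fun g => mt (g * y * g⁻¹)
  have hf : ∀ g g' : GL ι F, pg g = pg g' → f g = f g' := by
    intro g g' h
    obtain ⟨c, hc⟩ := (pg_eq_iff g g').1 h
    have hs : g * g'⁻¹ ∈ scalars ι F := by
      rw [← QuotientGroup.eq_one_iff (N := scalars ι F)]
      show pg (g * g'⁻¹) = 1
      rw [map_mul, map_inv, h, mul_inv_cancel]
    obtain ⟨d, hd⟩ := (mem_scalars_iff _).1 hs
    have hcen : ∀ k : GL ι F, (g * g'⁻¹) * k = k * (g * g'⁻¹) := fun k =>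
      Units.ext (by rw [Units.val_mul, Units.val_mul _ (g * g'⁻¹), hd]; simp)
    show mt (g * y * g⁻¹) = mt (g' * y * g'⁻¹)
    congr 1
    calc g * y * g⁻¹ = (g * g'⁻¹) * (g' * y * g'⁻¹) * (g * g'⁻¹)⁻¹ := by group
      _ = _ := by rw [hcen, mul_inv_cancel_right]
  set S : Matrix ι ι F := ∑ w : W, f (r w) with hS
  obtain ⟨c, hc⟩ : ∃ c : F, S = c • 1 := by
    refine hC.irr S fun a ha => ?_
    let e : W ≃ W := Equiv.mulLeft (⟨pg a, a, ha, rfl⟩ : W)
    have h1 : mt a * S * ((a⁻¹ : GL ι F) : Matrix ι ι F) = S := by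
      rw [hS, Finset.mul_sum, Finset.sum_mul]
      refine Fintype.sum_equiv e _ _ fun w => ?_
      rw [hf (r (e w)) (a * r w) (by rw [hrw, map_mul, hrw]; rfl)]
      simp only [f, mt, Units.val_mul, _root_.mul_inv_rev, mul_assoc]
    calc S * mt a = mt a * S * ((a⁻¹ : GL ι F) : Matrix ι ι F) * mt a := by rw [h1]
      _ = mt a * S := by rw [mul_assoc, Units.inv_mul, mul_one]
  have hc0 : c = 0 := by
    have h1 : S.trace = 0 := by
      rw [hS, Matrix.trace_sum]
      exact Finset.sum_eq_zero fun w _ => by simp only [f]; rw [Cliff.trace_conj, htr]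
    rw [hc, Matrix.trace_smul, Matrix.trace_one, smul_eq_mul] at h1
    exact (mul_eq_zero.1 h1).resolve_right hC.card0
  have hd : ∀ w : W, r w * y * (r w)⁻¹ * y⁻¹ ∈ R := by
    intro w
    rw [show r w * y * (r w)⁻¹ * y⁻¹ = r w * (y * (r w)⁻¹ * y⁻¹) by group]
    exact R.mul_mem (hr w) ((Subgroup.mem_normalizer_iff.1 hy _).1 (R.inv_mem (hr w)))
  let U : Subgroup W :=
    { carrier := {w | (w : PG ι F) * pg y = pg y * w}
      one_mem' := by simp
      mul_mem' := fun {a b} ha hb => by
        simp only [Set.mem_ofPred_eq] at ha hb ⊢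
        exact (Commute.mul_left ha hb)
      inv_mem' := fun {a} ha => by
        simp only [Set.mem_ofPred_eq] at ha ⊢
        exact Commute.inv_left ha }
  have hsum : ((S * ((y⁻¹ : GL ι F) : Matrix ι ι F)).trace) = (Nat.card U : F) * (Fintype.card ι : F) := by
    rw [hS, Finset.sum_mul, Matrix.trace_sum]
    have h1 : ∀ w : W, (f (r w) * ((y⁻¹ : GL ι F) : Matrix ι ι F)).trace =
        if w ∈ U then (Fintype.card ι : F) else 0 := by
      intro w
      rw [show f (r w) * ((y⁻¹ : GL ι F) : Matrix ι ι F) = mt (r w * y * (r w)⁻¹ * y⁻¹) from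
        (Units.val_mul _ _).symm]
      split_ifs with hw
      · have h2 : r w * y = y * r w := (hcom _ (hr w) (by rw [hrw]; exact (hw : (w : PG ι F) * pg y = _).symm)).symm
        rw [h2, mul_inv_cancel_right, mul_inv_cancel, mt, Units.val_one, Matrix.trace_one]
      · refine hC.trace_eq_zero (hd w) fun h2 => hw ?_
        show (w : PG ι F) * pg y = pg y * w
        rw [map_mul, map_mul, map_mul, map_inv, map_inv, hrw] at h2
        exact mul_inv_eq_iff_eq_mul.1 (by simpa [mul_inv_eq_one] using h2)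
    rw [Finset.sum_congr rfl fun w _ => h1 w, Finset.sum_ite, Finset.sum_const_zero, add_zero, Finset.sum_const,
      nsmul_eq_mul, Nat.card_eq_fintype_card, Fintype.card_subtype]
  have hU : (Nat.card U : F) ≠ 0 := by
    obtain ⟨k, hk⟩ := Subgroup.card_subgroup_dvd_card U
    intro h
    apply mul_ne_zero hC.card0 hC.card0
    have h3 : ((Fintype.card ι ^ 2 : ℕ) : F) = 0 := by
      rw [← hC.card, hk, Nat.cast_mul, h, zero_mul]
    rw [← pow_two]; exact_mod_cast h3
  rw [hc, hc0, zero_smul, zero_mul, Matrix.trace_zero] at hsum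
  exact mul_ne_zero hU hC.card0 hsum.symm

/-- Elements with pairwise separating eigen-characters under conjugation are linearly independent. -/
theorem linearIndependent_of_signs {κ α : Type*} [Nonempty ι] (v : κ → GL ι F) (g : α → GL ι F) (χ : α → κ → F)
    (h : ∀ a k, mt (g a * v k * (g a)⁻¹) = χ a k • mt (v k))
    (hsep : ∀ k l, k ≠ l → ∃ a, χ a k ≠ χ a l) : LinearIndependent F (fun k => mt (v k)) := by
  classical
  rw [linearIndependent_iff']
  intro T
  induction T using Finset.induction with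
  | empty => simp
  | insert q T hq ih =>
    intro c hc j hj
    rw [Finset.sum_insert hq] at hc
    have hkey : ∀ p ∈ T, c p = 0 := by
      intro p hp
      obtain ⟨a, ha⟩ := hsep q p (fun e => hq (e ▸ hp))
      let L : Matrix ι ι F →ₗ[F] Matrix ι ι F :=
        { toFun := fun M => mt (g a) * M * (((g a)⁻¹ : GL ι F) : Matrix ι ι F)
          map_add' := fun x y => by rw [mul_add, add_mul]
          map_smul' := fun d x => by rw [mul_smul_comm, smul_mul_assoc]; rfl }
      have hL : ∀ k, L (mt (v k)) = χ a k • mt (v k) := fun k => by rw [← h a k, mt_conj]; rfl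
      have h1 := congrArg L hc
      simp only [map_add, map_sum, map_smul, map_zero, hL] at h1
      have h2 := congrArg (fun M => χ a q • M) hc
      simp only [smul_add, smul_zero, Finset.smul_sum, smul_smul] at h1 h2
      have h3 : ∑ p ∈ T, (c p * (χ a p - χ a q)) • mt (v p) = 0 := by
        have h4 := sub_eq_zero.2 (h1.trans h2.symm)
        rw [mul_comm (χ a q) (c q), add_sub_add_left_eq_sub, ← Finset.sum_sub_distrib] at h4
        rw [← h4]
        refine Finset.sum_congr rfl fun p _ => ?_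
        rw [← sub_smul]; congr 1; ring
      exact (mul_eq_zero.1 (ih _ h3 p hp)).resolve_right (sub_ne_zero.2 (Ne.symm ha))
    rcases Finset.mem_insert.1 hj with rfl | hj
    · rw [Finset.sum_eq_zero (fun p hp => by rw [hkey p hp, zero_smul]), add_zero] at hc
      exact (smul_eq_zero.1 hc).resolve_right (mt_ne_zero _)
    · exact hkey j hj

/-- The matrix lifting the transvection along an involution. -/
noncomputable def Tm (i : F) (s : Matrix ι ι F) : Matrix ι ι F := ((1 + i) / 2) • 1 + ((1 - i) / 2) • s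

/-- Being the transvection lift of an element. -/
def IsT (i : F) (t s : GL ι F) : Prop := mt t = Tm i (mt s)

theorem Tm_mul (hi : i * i = -1) (h2 : (2 : F) ≠ 0) {s : Matrix ι ι F} (hs : s * s = 1) :
    Tm i s * Tm i (-s) = i • 1 ∧ Tm i s * Tm i s = s := by
  have e1 : ((1 + i) / 2) * ((1 + i) / 2) - ((1 - i) / 2) * ((1 - i) / 2) = i := by field_simp; ring
  have e2 : ((1 + i) / 2) * ((1 + i) / 2) + ((1 - i) / 2) * ((1 - i) / 2) = 0 := by
    field_simp; linear_combination 2 * hi
  have e3 : 2 * (((1 + i) / 2) * ((1 - i) / 2)) = 1 := by field_simp; linear_combination -hi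
  unfold Tm
  generalize ((1 + i) / 2) = α at e1 e2 e3 ⊢
  generalize ((1 - i) / 2) = β at e1 e2 e3 ⊢
  constructor
  · simp only [smul_neg, mul_add, add_mul, mul_neg, smul_mul_smul_comm, mul_one, one_mul, hs]
    rw [← e1, sub_smul, mul_comm β α]; abel
  · simp only [mul_add, add_mul, smul_mul_smul_comm, mul_one, one_mul, hs]
    rw [mul_comm β α, show (α * α) • (1 : Matrix ι ι F) + (α * β) • s + ((α * β) • s + (β * β) • 1) =
      (α * α + β * β) • (1 : Matrix ι ι F) + (2 * (α * β)) • s by module, e2, e3]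
    simp

theorem exists_isT (hC : Cliff R i) {s : GL ι F} (hs : mt s * mt s = 1) : ∃ t : GL ι F, IsT i t s := by
  have h1 := (Tm_mul hC.hi hC.two hs).1
  have hu : IsUnit (Tm i (mt s)).det := by
    have h2 := congrArg Matrix.det h1
    rw [Matrix.det_mul, Matrix.det_smul, Matrix.det_one, mul_one] at h2
    refine isUnit_iff_ne_zero.2 fun h0 => ?_
    rw [h0, zero_mul] at h2
    exact pow_ne_zero _ hC.i_ne_zero h2.symm
  exact ⟨Matrix.nonsingInvUnit _ hu, rfl⟩

theorem IsT.unique {t t' s : GL ι F} (h : IsT i t s) (h' : IsT i t' s) : t = t' := Units.ext (h.trans h'.symm)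

theorem IsT.conj {t s : GL ι F} (h : IsT i t s) (g : GL ι F) : IsT i (g * t * g⁻¹) (g * s * g⁻¹) := by
  unfold IsT at h ⊢
  rw [mt_conj, mt_conj, h, Tm, Tm, mul_add, add_mul, mul_smul_comm, smul_mul_assoc, mul_one, Units.mul_inv,
    mul_smul_comm, smul_mul_assoc]

theorem IsT.sq (hC : Cliff R i) {t s : GL ι F} (h : IsT i t s) (hs : mt s * mt s = 1) : t * t = s := by
  apply Units.ext
  rw [Units.val_mul, show (t : Matrix ι ι F) = _ from h]
  exact (Tm_mul hC.hi hC.two hs).2

theorem IsT.comm {t s g : GL ι F} (h : IsT i t s) (hg : g * s = s * g) : g * t = t * g := by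
  have h1 : g * t * g⁻¹ = t := IsT.unique (i := i) (s := s) (by
    have := h.conj g
    rwa [hg, mul_inv_cancel_right] at this) h
  exact mul_inv_eq_iff_eq_mul.1 h1

/-- The action of a transvection lift on an element anticommuting with its centre. -/
theorem IsT.conj_anti (hC : Cliff R i) {t s v : GL ι F} (h : IsT i t s) (hs : mt s * mt s = 1)
    (hv : mt s * mt v = -(mt v * mt s)) :
    mt (t * v * t⁻¹) = i • (mt v * mt s) := by
  have h1 : mt t * mt v = mt v * Tm i (-mt s) := by
    show (t : Matrix ι ι F) * v = _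
    rw [show (t : Matrix ι ι F) = _ from h, Tm, Tm, add_mul, mul_add, smul_mul_assoc, one_mul, mul_smul_comm,
      mul_one, smul_mul_assoc, mul_smul_comm, show mt s * mt v = _ from hv, mul_neg]
  have h2 : ((t⁻¹ : GL ι F) : Matrix ι ι F) = (-i) • Tm i (-mt s) := by
    have h3 := (Tm_mul hC.hi hC.two hs).1
    have h4 : mt t * ((-i) • Tm i (-mt s)) = 1 := by
      rw [mul_smul_comm, show mt t = _ from h, h3, smul_smul, neg_mul, hC.hi, neg_neg, one_smul]
    calc ((t⁻¹ : GL ι F) : Matrix ι ι F) = ((t⁻¹ : GL ι F) : Matrix ι ι F) * (mt t * ((-i) • Tm i (-mt s))) := by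
          rw [h4, mul_one]
      _ = _ := by rw [← mul_assoc, Units.inv_mul, one_mul]
  rw [mt_conj, h1, h2, mul_smul_comm, mul_assoc,
    (Tm_mul hC.hi hC.two (s := -mt s) (by rw [neg_mul_neg, hs])).2, mul_neg, neg_smul, smul_neg, neg_neg]

theorem IsT.pg_conj_anti (hC : Cliff R i) {t s v : GL ι F} (h : IsT i t s) (hs : mt s * mt s = 1)
    (hv : mt s * mt v = -(mt v * mt s)) : pg (t * v * t⁻¹) = pg (v * s) :=
  (pg_eq_iff _ _).2 ⟨i, by rw [h.conj_anti hC hs hv]; simp [mt, Units.val_mul]⟩

theorem IsT.pg_conj (hC : Cliff R i) {t s v : GL ι F} (h : IsT i t s) (hs : mt s * mt s = 1) (hsR : s ∈ R) (hv : v ∈ R) :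
    (bt s v = 1 → pg (t * v * t⁻¹) = pg v) ∧ (bt s v = -1 → pg (t * v * t⁻¹) = pg (v * s)) := by
  refine ⟨fun hb => ?_, fun hb => ?_⟩
  · have := (bt_comm_iff hC s v).1 hb
    rw [← h.comm (g := v) this.symm, mul_inv_cancel_right]
  · exact h.pg_conj_anti hC hs ((hC.comm s hsR v hv).resolve_left fun e => hC.neg_one_ne_one (hb.symm.trans ((bt_comm_iff hC s v).2 e)))

theorem mem_normalizer_of_conj [Finite F] {g : GL ι F} (h : ∀ r ∈ R, g * r * g⁻¹ ∈ R) :
    g ∈ Subgroup.normalizer (R : Set (GL ι F)) := by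
  have : Finite R := Subtype.finite
  rw [Subgroup.mem_normalizer_iff]
  intro r
  refine ⟨h r, fun hr => ?_⟩
  let f : R → R := fun x => ⟨g * x * g⁻¹, h x x.2⟩
  have hf : Function.Injective f := fun x y e => by
    have := congrArg Subtype.val e
    exact Subtype.ext (by simpa [f] using this)
  obtain ⟨x, hx⟩ := Finite.surjective_of_injective hf ⟨_, hr⟩
  have h2 : g * x * g⁻¹ = g * r * g⁻¹ := congrArg Subtype.val hx
  have h3 : (x : GL ι F) = r := by simpa using h2
  exact h3 ▸ x.2

theorem IsT.mem_normalizer [Finite F] (hC : Cliff R i) {t s : GL ι F} (h : IsT i t s) (hs : mt s * mt s = 1) (hsR : s ∈ R) :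
    t ∈ Subgroup.normalizer (R : Set (GL ι F)) := by
  refine mem_normalizer_of_conj fun v hv => ?_
  rcases hC.comm s hsR v hv with e | e
  · rw [← h.comm (g := v) e.symm, mul_inv_cancel_right]; exact hv
  · obtain ⟨z, hz, hzi⟩ := hC.scal
    rw [show t * v * t⁻¹ = z * (v * s) from Units.ext (by
      rw [show ((t * v * t⁻¹ : GL ι F) : Matrix ι ι F) = _ from h.conj_anti hC hs e, Units.val_mul, Units.val_mul,
        show (z : Matrix ι ι F) = _ from hzi]; simp [mt])]
    exact R.mul_mem hz (R.mul_mem hv hsR)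

end CfsgLib.CliffMax93
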