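import Cfsg.Agent.Lib.CliffMax93.Gate

/-!
Coordinates adapted to an anticommuting pair, the smaller Clifford group and the projection groups.
-/

set_option autoImplicit false
set_option linter.unusedSectionVars false

namespace CfsgLib.CliffMax93

open Cfsg Cfsg.Geo Matrix
open scoped MatrixGroups

variable {F : Type*} [Field F] {κ : Type} [Fintype κ] [DecidableEq κ]

section Transport

variable {ι ι' : Type} [Fintype ι] [DecidableEq ι] [Fintype ι'] [DecidableEq ι']

/-- The group isomorphism induced by an algebra isomorphism. -/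
def glMap (Φ : Matrix ι ι F ≃ₐ[F] Matrix ι' ι' F) : GL ι F ≃* GL ι' F := Units.mapEquiv Φ.toMulEquiv

theorem mt_glMap (Φ : Matrix ι ι F ≃ₐ[F] Matrix ι' ι' F) (g : GL ι F) : mt (glMap Φ g) = Φ (mt g) := rfl

theorem pg_glMap_eq_iff (Φ : Matrix ι ι F ≃ₐ[F] Matrix ι' ι' F) (g h : GL ι F) :
    pg (glMap Φ g) = pg (glMap Φ h) ↔ pg g = pg h := by
  rw [pg_eq_iff, pg_eq_iff]
  refine exists_congr fun c => ?_
  rw [mt_glMap, mt_glMap, ← map_smul]
  exact Φ.injective.eq_iff

theorem Cliff.map [Finite F] {R : Subgroup (GL ι F)} {i : F} (hC : Cliff R i) (Φ : Matrix ι ι F ≃ₐ[F] Matrix ι' ι' F)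
    (hcard : Fintype.card ι' = Fintype.card ι) : Cliff (R.map (glMap Φ).toMonoidHom) i where
  hi := hC.hi
  two := hC.two
  card0 := by rw [hcard]; exact hC.card0
  scal := by
    obtain ⟨g, hg, h⟩ := hC.scal
    exact ⟨glMap Φ g, ⟨g, hg, rfl⟩, by rw [mt_glMap, h, map_smul, map_one]⟩
  comm := by
    rintro _ ⟨a, ha, rfl⟩ _ ⟨b, hb, rfl⟩
    rcases hC.comm a ha b hb with h | h
    · exact Or.inl (by rw [← map_mul, ← map_mul, h])
    · refine Or.inr ?_
      show mt (glMap Φ a) * mt (glMap Φ b) = -(mt (glMap Φ b) * mt (glMap Φ a))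
      rw [mt_glMap, mt_glMap, ← map_mul, ← map_mul, h, map_neg]
  sq := by
    rintro _ ⟨a, ha, rfl⟩
    show mt (glMap Φ a) * mt (glMap Φ a) = 1 ∨ mt (glMap Φ a) * mt (glMap Φ a) = -1
    rw [mt_glMap, ← map_mul]
    rcases hC.sq a ha with h | h
    · exact Or.inl (by rw [h, map_one])
    · exact Or.inr (by rw [h, map_neg, map_one])
  irr := by
    intro M hM
    obtain ⟨c, hc⟩ := hC.irr (Φ.symm M) fun a ha => Φ.injective (by
      rw [map_mul, map_mul, Φ.apply_symm_apply]; exact hM _ ⟨a, ha, rfl⟩)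
    exact ⟨c, by rw [← Φ.apply_symm_apply M, hc, map_smul, map_one]⟩
  card := by
    rw [hcard, ← hC.card]
    have hsurj : ∀ w : R.map (pg (ι := ι) (F := F)), ∃ r : R, pg (r : GL ι F) = (w : PG ι F) := fun w => by
      obtain ⟨r, hr, e⟩ := w.2; exact ⟨⟨r, hr⟩, e⟩
    choose r hr using hsurj
    refine (Nat.card_congr (Equiv.ofBijective
      (fun w => (⟨pg (glMap Φ (r w : GL ι F)), glMap Φ (r w : GL ι F), ⟨_, (r w).2, rfl⟩, rfl⟩ :
        (R.map (glMap Φ).toMonoidHom).map (pg (ι := ι') (F := F)))) ⟨?_, ?_⟩)).symm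
    · intro w w' e
      have := congrArg Subtype.val e
      simp only [pg_glMap_eq_iff, hr] at this
      exact Subtype.ext this
    · rintro ⟨_, _, ⟨s, hs, rfl⟩, rfl⟩
      refine ⟨⟨pg s, s, hs, rfl⟩, Subtype.ext ?_⟩
      show pg (glMap Φ _) = pg (glMap Φ s)
      rw [pg_glMap_eq_iff, hr]

end Transport

/-- Block diagonal elements. -/
def dd : GL κ F × GL κ F →* GL (κ ⊕ κ) F where
  toFun p :=
    ⟨fromBlocks (mt p.1) 0 0 (mt p.2), fromBlocks (mt p.1⁻¹) 0 0 (mt p.2⁻¹),
      by simp [fromBlocks_multiply, mt, ← Units.val_mul, fromBlocks_one],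
      by simp [fromBlocks_multiply, mt, ← Units.val_mul, fromBlocks_one]⟩
  map_one' := Units.ext (by simp [mt, fromBlocks_one])
  map_mul' p q := Units.ext (by simp [mt, fromBlocks_multiply])

theorem mt_dd (p : GL κ F × GL κ F) : mt (dd p) = fromBlocks (mt p.1) 0 0 (mt p.2) := rfl

theorem dd_injective : Function.Injective (dd : GL κ F × GL κ F →* GL (κ ⊕ κ) F) := by
  intro p q h
  have := congrArg mt h
  rw [mt_dd, mt_dd, fromBlocks_inj] at this
  exact Prod.ext (Units.ext this.1) (Units.ext this.2.2.2)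

/-- The adapted coordinates. -/
structure Std (R : Subgroup (GL (κ ⊕ κ) F)) (i : F) (a b : GL (κ ⊕ κ) F) : Prop where
  cliff : Cliff R i
  aR : a ∈ R
  bR : b ∈ R
  aval : mt a = fromBlocks 1 0 0 (-1)
  bval : mt b = fromBlocks 0 1 1 0

section Basis

variable {ι : Type} [Fintype ι] [DecidableEq ι] {R : Subgroup (GL ι F)} {i : F}

theorem exists_std [Finite F] (hC : Cliff R i) (hcard : Fintype.card ι = 2 * Fintype.card κ) {a b : GL ι F} (ha : a ∈ R)
    (hb : b ∈ R) (ha2 : mt a * mt a = 1) (hb2 : mt b * mt b = 1) (hab : bt a b = -1) :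
    ∃ Φ : Matrix ι ι F ≃ₐ[F] Matrix (κ ⊕ κ) (κ ⊕ κ) F, (∀ M, (Φ M).det = M.det) ∧
      Std (R.map (glMap Φ).toMonoidHom) i (glMap Φ a) (glMap Φ b) := by
  classical
  let A := Matrix.toLin' (mt a)
  let B := Matrix.toLin' (mt b)
  have hAA : ∀ v, A (A v) = v := fun v => by
    simp only [A, Matrix.toLin'_apply, mulVec_mulVec, ha2, one_mulVec]
  have hBB : ∀ v, B (B v) = v := fun v => by
    simp only [B, Matrix.toLin'_apply, mulVec_mulVec, hb2, one_mulVec]
  have hAB : ∀ v, A (B v) = -B (A v) := fun v => by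
    have h := hC.mul_bt ha hb
    rw [hab, neg_one_smul] at h
    simp only [A, B, Matrix.toLin'_apply, mulVec_mulVec, h, neg_mulVec]
  let P : Submodule F (ι → F) := LinearMap.ker (A - LinearMap.id)
  let N : Submodule F (ι → F) := LinearMap.ker (A + LinearMap.id)
  have hP : ∀ v, v ∈ P ↔ A v = v := fun v => by simp [P, sub_eq_zero]
  have hN : ∀ v, v ∈ N ↔ A v = -v := fun v => by simp [N, add_eq_zero_iff_eq_neg]
  have hc : IsCompl P N := by
    refine ⟨disjoint_iff_inf_le.2 fun v hv => ?_, codisjoint_iff_le_sup.2 fun v _ => ?_⟩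
    · have h1 := (hP v).1 hv.1
      have h2 := (hN v).1 hv.2
      rw [h1] at h2
      have : (2 : F) • v = 0 := by rw [two_smul]; nth_rw 1 [h2]; exact neg_add_cancel v
      exact (smul_eq_zero.1 this).resolve_left hC.two
    · refine Submodule.mem_sup.2 ⟨(1 / 2 : F) • (v + A v), (hP _).2 ?_, (1 / 2 : F) • (v - A v), (hN _).2 ?_, ?_⟩
      · rw [map_smul, map_add, hAA, add_comm]
      · rw [map_smul, map_sub, hAA, ← smul_neg, neg_sub]
      · rw [← smul_add, add_add_sub_cancel, ← two_smul F v, smul_smul, one_div, inv_mul_cancel₀ hC.two, one_smul]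
  let e₁ : P ≃ₗ[F] N :=
    { toFun := fun v => ⟨B v, (hN _).2 (by rw [hAB, (hP _).1 v.2])⟩
      invFun := fun v => ⟨B v, (hP _).2 (by rw [hAB, (hN _).1 v.2, map_neg, neg_neg])⟩
      map_add' := fun x y => Subtype.ext (by simp)
      map_smul' := fun c x => Subtype.ext (by simp)
      left_inv := fun v => Subtype.ext (hBB v)
      right_inv := fun v => Subtype.ext (hBB v) }
  have hfin : Module.finrank F P = Fintype.card κ := by
    have := Submodule.finrank_add_eq_of_isCompl hc
    rw [← e₁.finrank_eq, Module.finrank_fintype_fun_eq_card, hcard] at this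
    omega
  let e : Module.Basis κ F P := (Module.finBasisOfFinrankEq F P hfin).reindex (Fintype.equivFin κ).symm
  let E : Module.Basis (κ ⊕ κ) F (ι → F) := (e.prod (e.map e₁)).map (Submodule.prodEquivOfIsCompl P N hc)
  have hl : ∀ k, E (Sum.inl k) = (e k : ι → F) := fun k => by
    simp [E]
  have hr : ∀ k, E (Sum.inr k) = B (e k : ι → F) := fun k => by
    simp [E, e₁]
  let Φ : Matrix ι ι F ≃ₐ[F] Matrix (κ ⊕ κ) (κ ⊕ κ) F :=
    (Matrix.toLinAlgEquiv' (R := F) (n := ι)).trans (LinearMap.toMatrixAlgEquiv E)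
  have hΦ : ∀ M, Φ M = LinearMap.toMatrix E E (Matrix.toLin' M) := fun M => rfl
  have hdet : ∀ M, (Φ M).det = M.det := fun M => by
    rw [hΦ, LinearMap.det_toMatrix, LinearMap.det_toLin']
  have hcol : ∀ (M : Matrix ι ι F) (T : Matrix (κ ⊕ κ) (κ ⊕ κ) F),
      (∀ j, Matrix.toLin' M (E j) = ∑ p, T p j • E p) → Φ M = T := by
    intro M T h
    rw [hΦ]
    ext p j
    rw [LinearMap.toMatrix_apply, h j, map_sum, Finsupp.coe_finset_sum, Finset.sum_apply]
    simp [Finsupp.single_apply]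
  refine ⟨Φ, hdet, hC.map Φ (by rw [Fintype.card_sum, hcard, two_mul]), ⟨a, ha, rfl⟩, ⟨b, hb, rfl⟩, ?_, ?_⟩
  · rw [mt_glMap]
    refine hcol _ _ ?_
    rintro (k | k)
    · change A (E (Sum.inl k)) = _
      rw [Fintype.sum_sum_type, hl, (hP _).1 (e k).2]
      simp [hl, Matrix.one_apply]
    · change A (E (Sum.inr k)) = _
      rw [Fintype.sum_sum_type, hr, hAB, (hP _).1 (e k).2]
      simp [hr, Matrix.one_apply]
  · rw [mt_glMap]
    refine hcol _ _ ?_
    rintro (k | k)
    · change B (E (Sum.inl k)) = _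
      rw [Fintype.sum_sum_type, hl]
      simp [hr, Matrix.one_apply]
    · change B (E (Sum.inr k)) = _
      rw [Fintype.sum_sum_type, hr, hBB]
      simp [hl, Matrix.one_apply]

end Basis

variable {R X : Subgroup (GL (κ ⊕ κ) F)} {i : F} {a b : GL (κ ⊕ κ) F}

theorem Std.sq_a (S : Std R i a b) : mt a * mt a = 1 := by simp [S.aval, fromBlocks_multiply, fromBlocks_one]

theorem Std.sq_b (S : Std R i a b) : mt b * mt b = 1 := by simp [S.bval, fromBlocks_multiply, fromBlocks_one]

theorem Std.nonempty (S : Std R i a b) : Nonempty κ :=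
  S.cliff.nonempty.elim fun j => ⟨j.elim id id⟩

theorem Std.anti (S : Std R i a b) : bt a b = -1 := by
  refine bt_eq_of S.cliff S.aR S.bR ?_
  simp [S.aval, S.bval, fromBlocks_multiply, fromBlocks_neg]

theorem Std.comm_iff (S : Std R i a b) (g : GL (κ ⊕ κ) F) : g * a = a * g ↔ ∃ p, g = dd p := by
  constructor
  · intro h
    obtain ⟨A, B, C, D, hg⟩ : ∃ A B C D, mt g = fromBlocks A B C D := ⟨_, _, _, _, (fromBlocks_toBlocks (mt g)).symm⟩
    have h' := comm_mt h
    rw [hg, S.aval, fromBlocks_multiply, fromBlocks_multiply, fromBlocks_inj] at h'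
    simp only [Matrix.mul_one, Matrix.mul_zero, Matrix.mul_neg, Matrix.one_mul, Matrix.zero_mul, Matrix.neg_mul,
      add_zero, zero_add] at h'
    have h2 : ∀ M : Matrix κ κ F, -M = M → M = 0 := fun M hM => by
      have : (2 : F) • M = 0 := by rw [two_smul]; nth_rw 1 [← hM]; exact neg_add_cancel M
      exact (smul_eq_zero.1 this).resolve_left S.cliff.two
    obtain ⟨-, hB, hC', -⟩ := h'
    have hB0 := h2 B hB
    have hC0 := h2 C hC'.symm
    subst hB0 hC0
    have hu : IsUnit (mt g).det := by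
      rw [← Matrix.isUnit_iff_isUnit_det]; exact g.isUnit
    rw [hg, det_fromBlocks_zero₂₁] at hu
    refine ⟨(nonsingInvUnit A (isUnit_of_mul_isUnit_left hu), nonsingInvUnit D (isUnit_of_mul_isUnit_right hu)),
      Units.ext ?_⟩
    exact hg
  · rintro ⟨p, rfl⟩
    apply Units.ext
    simp only [Units.val_mul]
    change mt (dd p) * mt a = mt a * mt (dd p)
    simp [mt_dd, S.aval, fromBlocks_multiply]

theorem Std.comm_b_iff (S : Std R i a b) (p : GL κ F × GL κ F) : dd p * b = b * dd p ↔ p.1 = p.2 := by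
  rw [Units.ext_iff, Units.val_mul, Units.val_mul]
  change mt (dd p) * mt b = mt b * mt (dd p) ↔ _
  simp [mt_dd, S.bval, fromBlocks_multiply, fromBlocks_inj, Units.ext_iff, eq_comm]

theorem Std.conj_b (S : Std R i a b) (p : GL κ F × GL κ F) : b * dd p * b⁻¹ = dd (p.2, p.1) := by
  rw [mul_inv_eq_iff_eq_mul, Units.ext_iff, Units.val_mul, Units.val_mul]
  change mt b * mt (dd p) = mt (dd (p.2, p.1)) * mt b
  simp [mt_dd, S.bval, fromBlocks_multiply]

/-- The smaller group. -/
def half (R : Subgroup (GL (κ ⊕ κ) F)) : Subgroup (GL κ F) :=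
  R.comap (dd.comp ((MonoidHom.id (GL κ F)).prod (MonoidHom.id (GL κ F))))

theorem mem_half {r : GL κ F} : r ∈ half R ↔ dd (r, r) ∈ R := Iff.rfl

/-- An element of the centraliser of `a` in the group. -/
theorem Std.cent_cases (S : Std R i a b) {p : GL κ F × GL κ F} (hp : dd p ∈ R) :
    p.1 ∈ half R ∧ (p.2 = p.1 ∨ mt p.2 = -mt p.1) := by
  rcases S.cliff.comm _ hp b S.bR with h | h
  · have e := (S.comm_b_iff p).1 h
    exact ⟨by rw [mem_half]; convert hp using 2; exact Prod.ext rfl e, Or.inl e.symm⟩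
  · have e : mt p.2 = -mt p.1 := by
      simp [mt_dd, S.bval, fromBlocks_multiply, fromBlocks_neg, fromBlocks_inj] at h
      exact h.2
    refine ⟨?_, Or.inr e⟩
    rw [mem_half]
    have h2 : dd (p.1, p.1) = dd p * a := Units.ext (by
      rw [Units.val_mul]
      change mt (dd (p.1, p.1)) = mt (dd p) * mt a
      simp [mt_dd, S.aval, fromBlocks_multiply, e])
    rw [h2]; exact R.mul_mem hp S.aR

/-- Decomposition of an arbitrary element. -/
theorem Std.decompose (S : Std R i a b) {g : GL (κ ⊕ κ) F} (hg : g ∈ R) :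
    ∃ r ∈ half R, ∃ d e : Bool, g = dd (r, r) * (if d then a else 1) * (if e then b else 1) := by
  have key : ∀ h ∈ R, h * a = a * h → ∃ r ∈ half R, ∃ d : Bool, h = dd (r, r) * (if d then a else 1) := by
    intro h hh hc
    obtain ⟨p, rfl⟩ := (S.comm_iff h).1 hc
    obtain ⟨h1, h2 | h2⟩ := S.cent_cases hh
    · exact ⟨p.1, h1, false, by simp only [Bool.false_eq_true, ↓reduceIte, mul_one]; congr 1; exact Prod.ext rfl h2⟩
    · refine ⟨p.1, h1, true, Units.ext ?_⟩
      simp only [↓reduceIte, Units.val_mul]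
      change mt (dd p) = mt (dd (p.1, p.1)) * mt a
      simp [mt_dd, S.aval, fromBlocks_multiply, h2]
  rcases S.cliff.comm g hg a S.aR with h | h
  · obtain ⟨r, hr, d, hd⟩ := key g hg h
    exact ⟨r, hr, d, false, by simpa using hd⟩
  · have hb := S.cliff.mul_bt S.aR S.bR
    rw [S.anti, neg_one_smul] at hb
    have hcomm : g * b * a = a * (g * b) := Units.ext (by
      simp only [Units.val_mul]
      change mt g * mt b * mt a = mt a * (mt g * mt b)
      rw [← mul_assoc (mt a), show mt a * mt g = -(mt g * mt a) by rw [h, neg_neg], neg_mul, mul_assoc (mt g) (mt a), hb,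
        mul_neg, neg_neg, mul_assoc])
    obtain ⟨r, hr, d, hd⟩ := key (g * b) (R.mul_mem hg S.bR) hcomm
    refine ⟨r, hr, d, true, ?_⟩
    simp only [↓reduceIte]
    rw [← hd, mul_assoc, show b * b = 1 from Units.ext (by rw [Units.val_mul]; exact S.sq_b), mul_one]

theorem Std.cliff_half [Finite F] (S : Std R i a b) : Cliff (half R) i where
  hi := S.cliff.hi
  two := S.cliff.two
  card0 := fun h => S.cliff.card0 (by rw [Fintype.card_sum, Nat.cast_add, h, add_zero])
  scal := by
    obtain ⟨g, hg, h⟩ := S.cliff.scal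
    have hu : IsUnit (i • (1 : Matrix κ κ F)).det := by
      rw [Matrix.det_smul, Matrix.det_one, mul_one]
      exact (pow_ne_zero _ S.cliff.i_ne_zero).isUnit
    refine ⟨nonsingInvUnit _ hu, ?_, rfl⟩
    rw [mem_half, show dd (nonsingInvUnit _ hu, nonsingInvUnit _ hu) = g from Units.ext ?_]
    · exact hg
    · show fromBlocks (i • (1 : Matrix κ κ F)) 0 0 (i • 1) = mt g
      rw [h, ← fromBlocks_one, fromBlocks_smul, smul_zero]
  comm := fun x hx y hy => by
    rcases S.cliff.comm _ hx _ hy with h | h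
    · left
      have := congrArg mt h
      simp [mt, dd, fromBlocks_multiply, fromBlocks_inj] at this
      exact Units.ext this
    · right
      simp [mt, dd, fromBlocks_multiply, fromBlocks_neg, fromBlocks_inj] at h
      exact h
  sq := fun x hx => by
    rcases S.cliff.sq _ hx with h | h
    · left
      simp [mt, dd, fromBlocks_multiply, ← fromBlocks_one, fromBlocks_inj] at h
      exact h
    · right
      simp [mt, dd, fromBlocks_multiply, ← fromBlocks_one, fromBlocks_neg, fromBlocks_inj] at h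
      exact h
  irr := fun M hM => by
    obtain ⟨c, hc⟩ := S.cliff.irr (fromBlocks M 0 0 M) fun g hg => by
      obtain ⟨r, hr, d, e, rfl⟩ := S.decompose hg
      have h1 : Commute (fromBlocks M 0 0 M) (mt (dd (r, r))) := by
        simp [Commute, SemiconjBy, mt_dd, fromBlocks_multiply, hM r hr]
      have h2 : Commute (fromBlocks M 0 0 M) (mt (if d then a else 1)) := by
        cases d <;> simp [Commute, SemiconjBy, S.aval, fromBlocks_multiply, mt]
      have h3 : Commute (fromBlocks M 0 0 M) (mt (if e then b else 1)) := by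
        cases e <;> simp [Commute, SemiconjBy, S.bval, fromBlocks_multiply, mt]
      have := (h1.mul_right h2).mul_right h3
      simpa only [mt, Units.val_mul] using this.eq
    refine ⟨c, ?_⟩
    rw [← fromBlocks_one, fromBlocks_smul, fromBlocks_inj] at hc
    exact hc.1
  card := by
    classical
    have hC := S.cliff
    have := S.nonempty
    have hl : ∀ w : (half R).map (pg (ι := κ) (F := F)), ∃ r ∈ half R, pg r = (w : PG κ F) := fun w => w.2
    choose r hr hrw using hl
    let f : (half R).map (pg (ι := κ) (F := F)) × Bool × Bool → R.map (pg (ι := κ ⊕ κ) (F := F)) := fun q =>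
      ⟨pg (dd (r q.1, r q.1) * (if q.2.1 then a else 1) * (if q.2.2 then b else 1)), _,
        R.mul_mem (R.mul_mem (hr q.1) (by split; exacts [S.aR, R.one_mem])) (by split; exacts [S.bR, R.one_mem]), rfl⟩
    have hpgr : ∀ p q : GL κ F, pg p = pg q → pg (dd (p, p)) = pg (dd (q, q)) := fun p q h => by
      obtain ⟨c, hc⟩ := (pg_eq_iff p q).1 h
      exact (pg_eq_iff _ _).2 ⟨c, by simp [mt_dd, hc, fromBlocks_smul]⟩
    have hd : ∀ p : GL κ F, dd (p, p) * a = a * dd (p, p) ∧ dd (p, p) * b = b * dd (p, p) := fun p =>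
      ⟨(S.comm_iff _).2 ⟨_, rfl⟩, (S.comm_b_iff _).2 rfl⟩
    have h1 : ∀ g : GL (κ ⊕ κ) F, bt g 1 = 1 := fun g => by simp [bt]
    have hsa : ∀ p ∈ half R, ∀ d e : Bool, bt a (dd (p, p) * (if d then a else 1) * (if e then b else 1)) =
        if e then -1 else 1 := by
      intro p hp₀ d e
      have hp : dd (p, p) ∈ R := hp₀
      rw [bt_mul_right hC (R.mul_mem hp (by split; exacts [S.aR, R.one_mem])) (by split; exacts [S.bR, R.one_mem]) S.aR,
        bt_mul_right hC hp (by split; exacts [S.aR, R.one_mem]) S.aR, (bt_comm_iff hC _ _).2 (hd p).1.symm]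
      cases d <;> cases e <;> simp [h1, bt_self, S.anti]
    have hsb : ∀ p ∈ half R, ∀ d e : Bool, bt b (dd (p, p) * (if d then a else 1) * (if e then b else 1)) =
        if d then -1 else 1 := by
      intro p hp₀ d e
      have hp : dd (p, p) ∈ R := hp₀
      rw [bt_mul_right hC (R.mul_mem hp (by split; exacts [S.aR, R.one_mem])) (by split; exacts [S.bR, R.one_mem]) S.bR,
        bt_mul_right hC hp (by split; exacts [S.aR, R.one_mem]) S.bR, (bt_comm_iff hC _ _).2 (hd p).2.symm]
      cases d <;> cases e <;> simp [h1, bt_self, bt_symm b a, S.anti]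
    have hbij : Function.Bijective f := by
      constructor
      · rintro ⟨w, d, e⟩ ⟨w', d', e'⟩ heq
        have h := congrArg Subtype.val heq
        simp only [f] at h
        have hmem : ∀ (w) (d e : Bool), dd (r w, r w) * (if d then a else 1) * (if e then b else 1) ∈ R := fun w d e =>
          R.mul_mem (R.mul_mem (hr w) (by split; exacts [S.aR, R.one_mem])) (by split; exacts [S.bR, R.one_mem])
        have ha' := hC.bt_congr S.aR S.aR (hmem w d e) (hmem w' d' e') rfl h
        have hb' := hC.bt_congr S.bR S.bR (hmem w d e) (hmem w' d' e') rfl h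
        rw [hsa _ (hr w), hsa _ (hr w')] at ha'
        rw [hsb _ (hr w), hsb _ (hr w')] at hb'
        have hn := hC.neg_one_ne_one
        have he : e = e' := by cases e <;> cases e' <;> simp_all [Ne.symm hn]
        have hd' : d = d' := by cases d <;> cases d' <;> simp_all [Ne.symm hn]
        subst he hd'
        rw [map_mul, map_mul, map_mul, map_mul, mul_left_inj, mul_left_inj] at h
        obtain ⟨c, hc⟩ := (pg_eq_iff _ _).1 h
        rw [mt_dd, mt_dd, fromBlocks_smul, fromBlocks_inj] at hc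
        have : pg (r w) = pg (r w') := (pg_eq_iff _ _).2 ⟨c, hc.1⟩
        rw [hrw, hrw] at this
        rw [Subtype.ext this]
      · rintro ⟨_, g, hg, rfl⟩
        obtain ⟨p, hp, d, e, rfl⟩ := S.decompose hg
        refine ⟨(⟨pg p, p, hp, rfl⟩, d, e), Subtype.ext ?_⟩
        simp only [f, map_mul]
        rw [hpgr _ p (hrw _)]
    have h4 := Nat.card_congr (Equiv.ofBijective f hbij)
    rw [Nat.card_prod, Nat.card_prod, hC.card, Fintype.card_sum] at h4
    simp only [Nat.card_eq_fintype_card, Fintype.card_bool] at h4 ⊢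
    nlinarith

theorem Std.half_irreducible (S : Std R i a b) (hirr : ActsIrreducibly (matrixSet R)) :
    ActsIrreducibly (matrixSet (half R)) := by
  intro W hW
  let WW : Submodule F (κ ⊕ κ → F) :=
    { carrier := {v | v ∘ Sum.inl ∈ W ∧ v ∘ Sum.inr ∈ W}
      add_mem' := fun hx hy => ⟨W.add_mem hx.1 hy.1, W.add_mem hx.2 hy.2⟩
      zero_mem' := ⟨W.zero_mem, W.zero_mem⟩
      smul_mem' := fun c v hv => ⟨W.smul_mem c hv.1, W.smul_mem c hv.2⟩ }
  have h := hirr WW (by
    rintro _ ⟨g, hg, rfl⟩ _ ⟨v, hv, rfl⟩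
    obtain ⟨r, hr, d, e, rfl⟩ := S.decompose hg
    simp only [Matrix.toLin'_apply, Units.val_mul, ← mulVec_mulVec]
    have hdd : ∀ v ∈ WW, mt (dd (r, r)) *ᵥ v ∈ WW := fun v hv => by
      show (mt (dd (r, r)) *ᵥ v) ∘ Sum.inl ∈ W ∧ (mt (dd (r, r)) *ᵥ v) ∘ Sum.inr ∈ W
      have hw : ∀ u ∈ W, mt r *ᵥ u ∈ W := fun u hu => hW _ ⟨r, hr, rfl⟩ ⟨u, hu, Matrix.toLin'_apply _ _⟩
      constructor
      · simpa [mt_dd, fromBlocks_mulVec] using hw _ hv.1
      · simpa [mt_dd, fromBlocks_mulVec] using hw _ hv.2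
    have hda : ∀ v ∈ WW, mt (if d then a else 1) *ᵥ v ∈ WW := fun v hv => by
      cases d
      · simpa [mt] using hv
      · show (mt a *ᵥ v) ∘ Sum.inl ∈ W ∧ (mt a *ᵥ v) ∘ Sum.inr ∈ W
        constructor
        · simpa [S.aval, fromBlocks_mulVec] using hv.1
        · simpa [S.aval, fromBlocks_mulVec, neg_mulVec] using W.neg_mem hv.2
    have hdb : ∀ v ∈ WW, mt (if e then b else 1) *ᵥ v ∈ WW := fun v hv => by
      cases e
      · simpa [mt] using hv
      · show (mt b *ᵥ v) ∘ Sum.inl ∈ W ∧ (mt b *ᵥ v) ∘ Sum.inr ∈ W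
        constructor
        · simpa [S.bval, fromBlocks_mulVec] using hv.2
        · simpa [S.bval, fromBlocks_mulVec] using hv.1
    exact hdd _ (hda _ (hdb _ hv)))
  rcases h with h | h
  · left
    rw [Submodule.eq_bot_iff]
    intro u hu
    have hmem : Sum.elim u 0 ∈ WW := ⟨by simpa using hu, by simp⟩
    rw [h, Submodule.mem_bot] at hmem
    funext k
    exact congrFun hmem (Sum.inl k)
  · right
    rw [Submodule.eq_top_iff']
    intro u
    have hmem : Sum.elim u 0 ∈ WW := h ▸ Submodule.mem_top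
    simpa using hmem.1

/-- The projection group. -/
def proj (X : Subgroup (GL (κ ⊕ κ) F)) : Subgroup (GL κ F) :=
  (X.comap dd).map (MonoidHom.fst (GL κ F) (GL κ F))

theorem mem_proj {A : GL κ F} : A ∈ proj X ↔ ∃ D, dd (A, D) ∈ X := by
  constructor
  · rintro ⟨⟨A', D⟩, h, rfl⟩; exact ⟨D, h⟩
  · rintro ⟨D, h⟩; exact ⟨(A, D), h, rfl⟩

theorem half_le_proj (hRX : R ≤ X) : half R ≤ proj X := fun r hr => mem_proj.2 ⟨r, hRX hr⟩

theorem Std.hasT_half [Finite F] (S : Std R i a b) (hT : HasT R i X) : HasT (half R) i (proj X) := by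
  intro s hs hs1 hs2
  have hs1' : pg (dd (s, s)) ≠ 1 := fun h => hs1 (by
    obtain ⟨c, hc⟩ := (pg_eq_one_iff _).1 h
    rw [mt_dd, ← fromBlocks_one, fromBlocks_smul, fromBlocks_inj] at hc
    exact (pg_eq_one_iff _).2 ⟨c, hc.1⟩)
  have hs2' : mt (dd (s, s)) * mt (dd (s, s)) = 1 := by
    simp [mt_dd, fromBlocks_multiply, hs2, fromBlocks_one]
  obtain ⟨t, ht, hts⟩ := hT _ hs hs1' hs2'
  obtain ⟨p, rfl⟩ := (S.comm_iff t).1 ((hts.comm (g := a) ((S.comm_iff (dd (s, s))).2 ⟨_, rfl⟩).symm).symm)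
  refine ⟨p.1, mem_proj.2 ⟨p.2, ht⟩, ?_⟩
  have h : IsT i (dd p) (dd (s, s)) := hts
  unfold IsT Tm at h ⊢
  rw [mt_dd, mt_dd, ← fromBlocks_one, fromBlocks_smul, fromBlocks_smul, fromBlocks_add, fromBlocks_inj] at h
  exact h.1

theorem Std.good_not_normalizer (S : Std R i a b) {x : GL (κ ⊕ κ) F} (hg : Good R X a x) :
    ∃ A ∈ proj X, A ∉ Subgroup.normalizer (half R : Set (GL κ F)) := by
  obtain ⟨-, -, -, hx, hxa, r, hr, hra, hbad⟩ := hg
  obtain ⟨⟨A, D⟩, rfl⟩ := (S.comm_iff x).1 hxa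
  refine ⟨A, mem_proj.2 ⟨D, hx⟩, fun hA => ?_⟩
  obtain ⟨p, rfl⟩ := (S.comm_iff r).1 hra
  have h1 : A * p.1 * A⁻¹ ∈ half R := (Subgroup.mem_normalizer_iff.1 hA _).1 (S.cent_cases hr).1
  refine hbad (dd (A * p.1 * A⁻¹, A * p.1 * A⁻¹)) h1 ((S.comm_iff _).2 ⟨_, rfl⟩) 1 ?_
  rw [one_smul]
  have hPr : Pr a = fromBlocks (1 : Matrix κ κ F) 0 0 0 := by
    rw [Pr, S.aval, ← fromBlocks_one, fromBlocks_add, fromBlocks_smul]
    simp only [add_zero, smul_zero, add_neg_cancel, ← two_smul F (1 : Matrix κ κ F), smul_smul, one_div,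
      inv_mul_cancel₀ S.cliff.two, one_smul]
  rw [show dd (A, D) * dd p * (dd (A, D))⁻¹ = dd (A * p.1 * A⁻¹, D * p.2 * D⁻¹) by
    rw [← map_inv, ← map_mul, ← map_mul]; rfl, mt_dd, mt_dd, hPr, fromBlocks_multiply, fromBlocks_multiply]
  simp

end CfsgLib.CliffMax93
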