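import Cfsg.Agent.Lib.CliffMax93.Fusion

/-!
Centraliser control: a finite group containing a Clifford-type group and its transvection lifts normalises it
as soon as the centralisers of its non-central elements do.
-/

set_option autoImplicit false
set_option linter.unusedSectionVars false

namespace CfsgLib.CliffMax93

open Cfsg Cfsg.Geo Matrix
open scoped MatrixGroups

variable {ι : Type} [Fintype ι] [DecidableEq ι] {F : Type*} [Field F] {R : Subgroup (GL ι F)} {i : F}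

/-- The image of the Clifford group in the projective group. -/
abbrev Wbar (R : Subgroup (GL ι F)) : Subgroup (PG ι F) := R.map (pg (ι := ι) (F := F))

theorem pg_mem_normalizer [Finite F] {g : GL ι F} (hg : g ∈ Subgroup.normalizer (R : Set (GL ι F))) :
    pg g ∈ Subgroup.normalizer (Wbar R : Set (PG ι F)) := by
  rw [Subgroup.mem_normalizer_iff]
  intro w
  constructor
  · rintro ⟨r, hr, rfl⟩
    exact ⟨g * r * g⁻¹, (Subgroup.mem_normalizer_iff.1 hg r).1 hr, by simp only [map_mul, map_inv]⟩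
  · rintro ⟨r, hr, e⟩
    refine ⟨g⁻¹ * r * (g⁻¹)⁻¹, (Subgroup.mem_normalizer_iff.1 (inv_mem hg) r).1 hr, ?_⟩
    simp only [map_mul, map_inv, e]; group

theorem Cliff.mem_normalizer_of_pg [Finite F] (hC : Cliff R i) {g : GL ι F}
    (hg : pg g ∈ Subgroup.normalizer (Wbar R : Set (PG ι F))) : g ∈ Subgroup.normalizer (R : Set (GL ι F)) := by
  refine mem_normalizer_of_conj fun r hr => ?_
  obtain ⟨r', hr', e⟩ := (Subgroup.mem_normalizer_iff.1 hg _).1 ⟨r, hr, rfl⟩
  refine hC.mem_of_pg_eq hr' (by rw [map_mul, map_mul, map_inv, e]) ?_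
  rw [mt_conj]
  have : mt g * mt r * ((g⁻¹ : GL ι F) : Matrix ι ι F) * (mt g * mt r * ((g⁻¹ : GL ι F) : Matrix ι ι F)) =
      mt g * (mt r * mt r) * ((g⁻¹ : GL ι F) : Matrix ι ι F) := by
    simp only [mul_assoc]
    rw [← mul_assoc ((g⁻¹ : GL ι F) : Matrix ι ι F) (mt g), Units.inv_mul, one_mul]
  rw [this]
  rcases hC.sq r hr with h | h <;> rw [h] <;> simp

theorem Cliff.sign_of_pg_commute (hC : Cliff R i) {a g : GL ι F} (ha : mt a * mt a = 1 ∨ mt a * mt a = -1)
    (h : pg g * pg a = pg a * pg g) : g * a = a * g ∨ mt g * mt a = -(mt a * mt g) := by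
  have := hC.nonempty
  obtain ⟨c, hc⟩ := (pg_commute_iff g a).1 h
  have e : ∀ d : F, mt a * mt a = d • 1 → (c * c) • mt g = mt g ∨ d = 0 := by
    intro d hd
    by_cases hd0 : d = 0
    · exact Or.inr hd0
    refine Or.inl ?_
    have h1 : mt g * mt a * mt a = d • mt g := by rw [mul_assoc, hd, mul_smul_comm, mul_one]
    have h2 : mt g * mt a * mt a = (c * c) • (d • mt g) := by
      rw [hc, smul_mul_assoc, mul_assoc, hc, mul_smul_comm, ← mul_assoc, hd, smul_mul_assoc, one_mul, smul_smul c c]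
    rw [h1, smul_comm] at h2
    exact (smul_right_injective _ hd0 h2).symm
  have hcc : c * c = 1 := by
    refine smul_inj_mt (g := g) ?_
    rw [one_smul]
    rcases ha with h1 | h1
    · exact (e 1 (by rw [one_smul]; exact h1)).resolve_right one_ne_zero
    · exact (e (-1) (by rw [neg_one_smul]; exact h1)).resolve_right (neg_ne_zero.2 one_ne_zero)
  rcases mul_self_eq_one_iff.1 hcc with h1 | h1
  · left; apply Units.ext; rw [Units.val_mul, Units.val_mul]; rw [h1, one_smul] at hc; exact hc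
  · right; rw [h1, neg_one_smul] at hc; exact hc

/-- An element with the same signs as members of a large separated family is one of them projectively. -/
theorem eq_pg_of_signs {κ α : Type*} [Fintype κ] [Nonempty ι] (v : κ → GL ι F) (g : α → GL ι F) (χ : α → κ → F)
    (h : ∀ a k, mt (g a * v k * (g a)⁻¹) = χ a k • mt (v k))
    (hsep : ∀ k l, k ≠ l → ∃ a, χ a k ≠ χ a l) (hcard : Fintype.card κ = Fintype.card ι ^ 2)
    (x : GL ι F) (ψ : α → F) (hx : ∀ a, mt (g a * x * (g a)⁻¹) = ψ a • mt x) :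
    ∃ k, pg x = pg (v k) := by
  classical
  have hli := linearIndependent_of_signs v g χ h hsep
  have hfin : Fintype.card κ = Module.finrank F (Matrix ι ι F) := by
    rw [hcard, Module.finrank_matrix, Module.finrank_self, mul_one, pow_two]
  have : Nonempty κ := by
    rw [← Fintype.card_pos_iff, hcard]
    exact pow_pos Fintype.card_pos 2
  let b := basisOfLinearIndependentOfCardEqFinrank hli hfin
  have hb : ∀ k, b k = mt (v k) := fun k => by simp [b]
  set c := b.repr (mt x) with hc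
  have hsum : ∑ k, c k • mt (v k) = mt x := by
    conv_rhs => rw [← b.sum_repr (mt x)]
    simp [hb, c]
  have hkey : ∀ a k, c k * (χ a k - ψ a) = 0 := by
    intro a
    have h1 : ∑ k, (c k * (χ a k - ψ a)) • mt (v k) = 0 := by
      have e1 : mt (g a) * (∑ k, c k • mt (v k)) * (((g a)⁻¹ : GL ι F) : Matrix ι ι F) =
          ∑ k, (c k * χ a k) • mt (v k) := by
        rw [Finset.mul_sum, Finset.sum_mul]
        refine Finset.sum_congr rfl fun k _ => ?_
        rw [mul_smul_comm, smul_mul_assoc, ← mt_conj, h, smul_smul]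
      rw [hsum, ← mt_conj, hx] at e1
      have e2 : ψ a • mt x = ∑ k, (c k * ψ a) • mt (v k) := by
        rw [← hsum, Finset.smul_sum]; simp only [smul_smul, mul_comm]
      rw [e2] at e1
      simp only [mul_sub, sub_smul, Finset.sum_sub_distrib, ← e1, sub_self]
    exact fun k => Fintype.linearIndependent_iff.1 hli _ h1 k
  obtain ⟨k₀, hk₀⟩ : ∃ k, c k ≠ 0 := by
    by_contra hall
    push Not at hall
    apply mt_ne_zero x
    rw [← hsum]
    simp [hall]
  refine ⟨k₀, (pg_eq_iff _ _).2 ⟨c k₀, ?_⟩⟩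
  conv_lhs => rw [← hsum]
  refine Finset.sum_eq_single k₀ (fun k _ hk => ?_) (by simp)
  obtain ⟨a, ha⟩ := hsep k k₀ hk
  have h0 : χ a k₀ = ψ a := sub_eq_zero.1 ((mul_eq_zero.1 (hkey a k₀)).resolve_left hk₀)
  rw [(mul_eq_zero.1 (hkey a k)).resolve_right (sub_ne_zero.2 (h0 ▸ ha)), zero_smul]

theorem mt_conj_bt (hC : Cliff R i) {a b : GL ι F} (ha : a ∈ R) (hb : b ∈ R) : mt (a * b * a⁻¹) = bt a b • mt b := by
  rw [mt_conj, hC.mul_bt ha hb, smul_mul_assoc, mul_assoc, Units.mul_inv, mul_one]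

/-- The centraliser of the projective Clifford group is itself. -/
theorem Cliff.pg_mem_of_centralizes [Finite F] (hC : Cliff R i) {x : GL ι F}
    (h : ∀ w ∈ Wbar R, pg x * w = w * pg x) : pg x ∈ Wbar R := by
  classical
  haveI := Fintype.ofFinite F
  have := hC.nonempty
  haveI : Fintype (Wbar R) := Fintype.ofFinite _
  have hl : ∀ w : Wbar R, ∃ r ∈ R, pg r = (w : PG ι F) := fun w => w.2
  choose r hr hrw using hl
  have hψ : ∀ a : R, ∃ c : F, mt ((a : GL ι F) * x * (a : GL ι F)⁻¹) = c • mt x := by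
    intro a
    obtain ⟨c, hc⟩ := (pg_commute_iff (a : GL ι F) x).1 (h _ ⟨a, a.2, rfl⟩).symm
    exact ⟨c, by rw [mt_conj, hc, smul_mul_assoc, mul_assoc, Units.mul_inv, mul_one]⟩
  choose ψ hψ using hψ
  obtain ⟨k, hk⟩ := eq_pg_of_signs r (fun a : R => (a : GL ι F)) (fun a w => bt (a : GL ι F) (r w))
    (fun a w => mt_conj_bt hC a.2 (hr w)) (fun w w' hne => by
      by_contra hall
      push Not at hall
      have hd : r w * (r w')⁻¹ ∈ R := R.mul_mem (hr w) (R.inv_mem (hr w'))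
      have h1 : pg (r w * (r w')⁻¹) = 1 := hC.pg_eq_one_of_comm fun b hb => (bt_comm_iff hC _ _).1 (by
        have e : bt b (r w) = bt b (r w * (r w')⁻¹) * bt b (r w') := by
          rw [← bt_mul_right hC hd (hr w') hb, inv_mul_cancel_right]
        rw [hall ⟨b, hb⟩] at e
        have hne0 : bt b (r w') ≠ 0 := fun z => by have := bt_sq b (r w'); rw [z, zero_mul] at this; exact zero_ne_one this
        rw [bt_symm]
        exact (mul_eq_right₀ hne0).1 e.symm)
      rw [map_mul, map_inv, mul_inv_eq_one, hrw, hrw] at h1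
      exact hne (Subtype.ext h1))
    (by rw [← Nat.card_eq_fintype_card]; exact hC.card) x ψ hψ
  exact ⟨r k, hr k, hk.symm⟩

theorem Cliff.lift_mem_sq (hC : Cliff R i) {g a : GL ι F} (ha : a ∈ R) :
    mt (g * a * g⁻¹) * mt (g * a * g⁻¹) = 1 ∨ mt (g * a * g⁻¹) * mt (g * a * g⁻¹) = -1 := by
  rw [← Units.val_mul, show g * a * g⁻¹ * (g * a * g⁻¹) = g * (a * a) * g⁻¹ by group]
  change mt (g * (a * a) * g⁻¹) = 1 ∨ mt (g * (a * a) * g⁻¹) = -1
  rw [mt_conj, show mt (a * a) = mt a * mt a from Units.val_mul a a]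
  rcases hC.sq a ha with h | h <;> rw [h] <;> simp

variable (X : Subgroup (GL ι F))

/-- The transvection lifts of a Clifford group lie in a group. -/
def HasT (R : Subgroup (GL ι F)) (i : F) (X : Subgroup (GL ι F)) : Prop :=
  ∀ s ∈ R, pg s ≠ 1 → mt s * mt s = 1 → ∃ t ∈ X, IsT i t s

variable {X} [Finite F]

theorem move (hC : Cliff R i) (hT : HasT R i X) {u v : GL ι F} (hu : u ∈ R) (hv : v ∈ R) (hne : bt u v = -1) :
    ∃ m ∈ X, m ∈ Subgroup.normalizer (R : Set (GL ι F)) ∧ pg (m * u * m⁻¹) = pg v := by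
  obtain ⟨s, hs, hsw, hs2⟩ := hC.exists_lift_one (R.mul_mem hu hv)
  have hb : bt s u = -1 := by
    rw [hC.bt_congr_left hs (R.mul_mem hu hv) hu hsw, bt_mul_left hC hu hv hu, bt_self, bt_symm v, hne, one_mul]
  have hs1 : pg s ≠ 1 := fun e => hC.neg_one_ne_one (by
    rw [← hb, hC.bt_congr_left hs R.one_mem hu (by rw [e, map_one])]; simp [bt])
  obtain ⟨t, ht, hts⟩ := hT s hs hs1 hs2
  refine ⟨t, ht, hts.mem_normalizer hC hs2 hs, ?_⟩
  rw [(hts.pg_conj hC hs2 hs hu).2 hb, map_mul, hsw, map_mul, ← mul_assoc, hC.pg_sq hu, one_mul]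

theorem exists_anti_both (hC : Cliff R i) {u v : GL ι F} (hu1 : pg u ≠ 1) (hv1 : pg v ≠ 1)
    (hu : u ∈ R) (hv : v ∈ R) : ∃ w ∈ R, bt u w = -1 ∧ bt v w = -1 := by
  obtain ⟨a, ha, hau⟩ := hC.exists_anti hu1
  obtain ⟨b, hb, hbv⟩ := hC.exists_anti hv1
  rcases bt_pm v a with h | h
  · rcases bt_pm u b with h' | h'
    · exact ⟨a * b, R.mul_mem ha hb, by rw [bt_mul_right hC ha hb hu, hau, h', mul_one],
        by rw [bt_mul_right hC ha hb hv, h, hbv, one_mul]⟩
    · exact ⟨b, hb, h', hbv⟩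
  · exact ⟨a, ha, hau, h⟩

theorem transitive (hC : Cliff R i) (hT : HasT R i X) {u v : GL ι F} (hu : u ∈ R) (hv : v ∈ R)
    (hu1 : pg u ≠ 1) (hv1 : pg v ≠ 1) :
    ∃ m ∈ X, m ∈ Subgroup.normalizer (R : Set (GL ι F)) ∧ pg (m * u * m⁻¹) = pg v := by
  obtain ⟨w, hw, huw, hvw⟩ := exists_anti_both hC hu1 hv1 hu hv
  obtain ⟨m, hm, hmN, hmu⟩ := move hC hT hu hw huw
  obtain ⟨m', hm', hmN', hmw⟩ := move hC hT hw hv (by rw [bt_symm]; exact hvw)
  refine ⟨m' * m, X.mul_mem hm' hm, mul_mem hmN' hmN, ?_⟩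
  rw [show m' * m * u * (m' * m)⁻¹ = m' * (m * u * m⁻¹) * m'⁻¹ by group, map_mul, map_mul, hmu, ← map_mul, ← map_mul,
    hmw]

/-- Among the elements outside a subgroup of index at least four some element commutes with a given one. -/
theorem exists_outside (hC : Cliff R i) (H : Subgroup (PG ι F)) (_hH : H ≤ Wbar R)
    (hidx : 4 * Nat.card H ≤ Nat.card (Wbar R)) {s : GL ι F} (hs : s ∈ R) :
    ∃ x ∈ R, pg x ∉ H ∧ bt s x = 1 := by
  classical
  haveI := Fintype.ofFinite F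
  haveI : Fintype (PG ι F) := Fintype.ofFinite _
  have hpos : 0 < Nat.card H := Nat.card_pos
  obtain ⟨a, ha, haH⟩ : ∃ a ∈ Wbar R, a ∉ H := by
    by_contra hall
    push Not at hall
    have h2 := Subgroup.card_le_of_le (show Wbar R ≤ H from hall)
    omega
  obtain ⟨b, hb, hbH, habH⟩ : ∃ b ∈ Wbar R, b ∉ H ∧ a⁻¹ * b ∉ H := by
    by_contra hall
    push Not at hall
    have hsub : (Wbar R : Set (PG ι F)) ⊆ (H : Set (PG ι F)) ∪ (fun h => a * h) '' (H : Set (PG ι F)) := by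
      intro b hb
      by_cases hbH : b ∈ H
      · exact Or.inl hbH
      · exact Or.inr ⟨a⁻¹ * b, hall b hb hbH, mul_inv_cancel_left a b⟩
    have h1 := (Set.ncard_le_ncard hsub (Set.toFinite _)).trans (Set.ncard_union_le _ _)
    rw [Set.ncard_image_of_injective _ (mul_right_injective a)] at h1
    simp only [← Nat.card_coe_set_eq, SetLike.coe_sort_coe] at h1
    omega
  obtain ⟨x, hx, rfl⟩ := ha
  obtain ⟨y, hy, rfl⟩ := hb
  rcases bt_pm s x with h1 | h1
  · exact ⟨x, hx, haH, h1⟩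
  rcases bt_pm s y with h2 | h2
  · exact ⟨y, hy, hbH, h2⟩
  refine ⟨x * y, R.mul_mem hx hy, ?_, by rw [bt_mul_right hC hx hy hs, h1, h2, neg_mul_neg, one_mul]⟩
  rw [map_mul, ← inv_eq_of_mul_eq_one_right (hC.pg_sq hx)]
  exact habH

/-- The standing hypothesis: centralisers of non-central elements normalise. -/
def CentCtrl (R : Subgroup (GL ι F)) (X : Subgroup (GL ι F)) : Prop :=
  ∀ u ∈ R, pg u ≠ 1 → ∀ x ∈ X, pg x * pg u = pg u * pg x → x ∈ Subgroup.normalizer (R : Set (GL ι F))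

theorem ti (hC : Cliff R i) (hT : HasT R i X) (hcent : CentCtrl R X) {g : GL ι F} (hg : g ∈ X) {u : GL ι F}
    (hu : u ∈ R) (hu1 : pg u ≠ 1) (h : pg (g * u * g⁻¹) ∈ Wbar R) : g ∈ Subgroup.normalizer (R : Set (GL ι F)) := by
  obtain ⟨r, hr, e⟩ := h
  obtain ⟨m, hm, hmN, hmu⟩ := transitive hC hT hu hr hu1 (fun h1 => hu1 (by
    rw [e, map_mul, map_mul, map_inv, conj_eq_one_iff] at h1; exact h1))
  have h2 : m⁻¹ * g ∈ Subgroup.normalizer (R : Set (GL ι F)) := by
    refine hcent u hu hu1 _ (X.mul_mem (X.inv_mem hm) hg) ?_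
    rw [e, map_mul, map_mul, map_inv] at hmu
    rw [map_mul, map_mul, map_inv] at hmu
    rw [map_mul, map_inv]
    have := congrArg (fun z => (pg m)⁻¹ * z * pg g) hmu
    simpa [mul_assoc] using this.symm
  have := mul_mem hmN h2
  rwa [mul_inv_cancel_left] at this

/-- The fixed part of the group for a conjugate of the normaliser. -/
def Ufix (R : Subgroup (GL ι F)) (g : GL ι F) : Subgroup (PG ι F) where
  carrier := {w | w ∈ Wbar R ∧ (pg g)⁻¹ * w * pg g ∈ Subgroup.normalizer (Wbar R : Set (PG ι F))}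
  one_mem' := ⟨one_mem _, by simp⟩
  mul_mem' := fun {a b} ha hb => ⟨mul_mem ha.1 hb.1, by
    have := mul_mem ha.2 hb.2
    simpa [mul_assoc] using this⟩
  inv_mem' := fun {a} ha => ⟨inv_mem ha.1, by
    have := inv_mem ha.2
    simpa [mul_assoc] using this⟩

theorem mem_Ufix {g : GL ι F} {w : PG ι F} :
    w ∈ Ufix R g ↔ w ∈ Wbar R ∧ (pg g)⁻¹ * w * pg g ∈ Subgroup.normalizer (Wbar R : Set (PG ι F)) := Iff.rfl

/-- A conjugate of a non-central element normalising the group but outside it. -/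
structure Stray (R : Subgroup (GL ι F)) (g : GL ι F) (X : Subgroup (GL ι F)) (u : GL ι F) : Prop where
  memX : g ∈ X
  out : g ∉ Subgroup.normalizer (R : Set (GL ι F))
  memR : u ∈ R
  ne : pg u ≠ 1
  norm : g * u * g⁻¹ ∈ Subgroup.normalizer (R : Set (GL ι F))

section

variable (hC : Cliff R i) (hT : HasT R i X) (hRX : R ≤ X) (hcent : CentCtrl R X)

include hC hcent hRX

theorem mem_Ufix_of_commute {g u : GL ι F} (h : Stray R g X u) {w : PG ι F} (hw : w ∈ Wbar R)
    (hcom : w * pg (g * u * g⁻¹) = pg (g * u * g⁻¹) * w) : w ∈ Ufix R g := by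
  obtain ⟨r, hr, rfl⟩ := hw
  refine ⟨⟨r, hr, rfl⟩, ?_⟩
  rw [← map_inv, ← map_mul, ← map_mul]
  refine pg_mem_normalizer (hcent u h.memR h.ne _ (X.mul_mem (X.mul_mem (X.inv_mem h.memX) (hRX hr)) h.memX) ?_)
  simp only [map_mul, map_inv] at hcom ⊢
  have := congrArg (fun z => (pg g)⁻¹ * z * pg g) hcom
  simpa [mul_assoc] using this

include hT

theorem Ufix_commute {g u : GL ι F} (h : Stray R g X u) {w p : PG ι F} (hw : w ∈ Ufix R g)
    (hp : p ∈ Ufix R g⁻¹) : w * (pg g * p * (pg g)⁻¹) = pg g * p * (pg g)⁻¹ * w := by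
  obtain ⟨⟨r, hr, rfl⟩, hw2⟩ := hw
  obtain ⟨⟨r', hr', rfl⟩, hp2⟩ := hp
  rw [map_inv, inv_inv] at hp2
  set P := pg g * pg r' * (pg g)⁻¹ with hP
  by_contra hne
  have h1 : pg r * P * (pg r)⁻¹ * P⁻¹ ∈ Wbar R := by
    rw [show pg r * P * (pg r)⁻¹ * P⁻¹ = pg r * (P * (pg r)⁻¹ * P⁻¹) by group]
    exact mul_mem ⟨r, hr, rfl⟩ ((Subgroup.mem_normalizer_iff.1 hp2 _).1 (inv_mem ⟨r, hr, rfl⟩))
  have h2 : (pg g)⁻¹ * (pg r * P * (pg r)⁻¹ * P⁻¹) * pg g ∈ Wbar R := by
    rw [show (pg g)⁻¹ * (pg r * P * (pg r)⁻¹ * P⁻¹) * pg g =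
      ((pg g)⁻¹ * pg r * pg g) * pg r' * ((pg g)⁻¹ * pg r * pg g)⁻¹ * (pg r')⁻¹ by rw [hP]; group]
    exact mul_mem ((Subgroup.mem_normalizer_iff.1 hw2 _).1 ⟨r', hr', rfl⟩) (inv_mem ⟨r', hr', rfl⟩)
  obtain ⟨d, hd, hd'⟩ := h2
  refine h.out (ti hC hT hcent h.memX hd ?_ ?_)
  · intro e
    apply hne
    rw [hd'] at e
    have e2 : pg r * P * (pg r)⁻¹ * P⁻¹ = 1 := by
      have := congrArg (fun z => pg g * z * (pg g)⁻¹) e
      simpa [mul_assoc] using this
    exact mul_inv_eq_iff_eq_mul.1 (mul_inv_eq_one.1 e2)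
  · rw [map_mul, map_mul, map_inv, hd', show pg g * ((pg g)⁻¹ * (pg r * P * (pg r)⁻¹ * P⁻¹) * pg g) * (pg g)⁻¹ =
      pg r * P * (pg r)⁻¹ * P⁻¹ by group]
    exact h1

theorem exists_anti_lift [Fintype F] {g u : GL ι F} (h : Stray R g X u) :
    ∃ v ∈ R, pg v ∈ Ufix R g ∧ pg v ≠ 1 ∧ mt (g * u * g⁻¹) * mt v = -(mt v * mt (g * u * g⁻¹)) := by
  by_contra hall
  push Not at hall
  refine hC.trace_ne_zero h.norm (fun v hv hcom => ?_) (by
    rw [Cliff.trace_conj]; exact hC.trace_eq_zero h.memR h.ne)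
  rcases hC.sign_of_pg_commute (hC.sq v hv) hcom with e | e
  · exact e
  · exfalso
    by_cases hv1 : pg v = 1
    · obtain ⟨c, hc⟩ := (pg_eq_one_iff v).1 hv1
      have h2 : (g * u * g⁻¹) * v = v * (g * u * g⁻¹) :=
        Units.ext (by rw [Units.val_mul, Units.val_mul _ (g * u * g⁻¹), show (v : Matrix ι ι F) = _ from hc]; simp)
      have h3 := congrArg (fun z : GL ι F => (z : Matrix ι ι F)) h2
      simp only [Units.val_mul] at h3
      have := hC.nonempty
      have h4 : (2 : F) • (mt v * mt (g * u * g⁻¹)) = 0 := by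
        rw [two_smul]
        nth_rw 1 [show mt v * mt (g * u * g⁻¹) = -(mt v * mt (g * u * g⁻¹)) from by
          rw [← e]; simp only [mt, Units.val_mul] at h3 ⊢; exact h3.symm]
        exact neg_add_cancel _
      exact (v * (g * u * g⁻¹)).isUnit.ne_zero (by
        rw [Units.val_mul]; exact (smul_eq_zero.1 h4).resolve_left hC.two)
    · exact hall v hv (mem_Ufix_of_commute hC hRX hcent h ⟨v, hv, rfl⟩ hcom.symm) hv1 e

theorem Ufix_le_stray {g u : GL ι F} (h : Stray R g X u) {v : GL ι F} (hv : v ∈ R) (hvU : pg v ∈ Ufix R g)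
    (hv1 : pg v ≠ 1) : Stray R g⁻¹ X v where
  memX := X.inv_mem h.memX
  out := fun hn => h.out (by simpa using inv_mem hn)
  memR := hv
  ne := hv1
  norm := hC.mem_normalizer_of_pg (by rw [inv_inv, map_mul, map_mul, map_inv]; exact hvU.2)

/-- Every point of `Ufix g⁻¹` gives a stray element. -/
theorem stray_of_mem_Ufix {g u : GL ι F} (h : Stray R g X u) {p : GL ι F} (hp : p ∈ R) (hpU : pg p ∈ Ufix R g⁻¹)
    (hp1 : pg p ≠ 1) : Stray R g X p where
  memX := h.memX
  out := h.out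
  memR := hp
  ne := hp1
  norm := hC.mem_normalizer_of_pg (by
    have := hpU.2
    rw [map_inv, inv_inv] at this
    rw [map_mul, map_mul, map_inv]; exact this)

omit hT in
theorem exists_not_Ufix {g u : GL ι F} (h : Stray R g X u)
    (hTI : ∀ {g : GL ι F}, g ∈ X → ∀ {u : GL ι F}, u ∈ R → pg u ≠ 1 → pg (g * u * g⁻¹) ∈ Wbar R →
      g ∈ Subgroup.normalizer (R : Set (GL ι F)))
    (hcm : ∀ w ∈ Ufix R g, w * pg (g * u * g⁻¹) = pg (g * u * g⁻¹) * w) :
    ∃ w ∈ Wbar R, w ∉ Ufix R g := by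
  by_contra hall
  push Not at hall
  exact h.out (hTI h.memX h.memR h.ne (hC.pg_mem_of_centralizes fun w hw => (hcm w (hall w hw)).symm))

theorem commute_pgconj {g u : GL ι F} (h : Stray R g X u) {w : PG ι F} (hw : w ∈ Ufix R g) {p : PG ι F}
    (hp : p ∈ Ufix R g⁻¹) : Commute w (pg g * p * (pg g)⁻¹) := Ufix_commute hC hT hRX hcent h hw hp

theorem self_mem_Ufix {g u : GL ι F} (h : Stray R g X u) : pg u ∈ Ufix R g⁻¹ :=
  ⟨⟨u, h.memR, rfl⟩, by
    rw [map_inv, inv_inv, ← map_inv, ← map_mul, ← map_mul]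
    exact pg_mem_normalizer h.norm⟩

/-- The commutator map from the stray part into the fixed part. -/
theorem comm_injective {g u : GL ι F} (h : Stray R g X u) {w₀ : PG ι F} (hw₀ : w₀ ∈ Wbar R) (hw₀U : w₀ ∉ Ufix R g) :
    (∀ p ∈ Ufix R g⁻¹, w₀ * (pg g * p * (pg g)⁻¹) * w₀ * (pg g * p * (pg g)⁻¹) ∈ Ufix R g) ∧
    (∀ p ∈ Ufix R g⁻¹, ∀ p' ∈ Ufix R g⁻¹,
      w₀ * (pg g * p * (pg g)⁻¹) * w₀ * (pg g * p * (pg g)⁻¹) =
        w₀ * (pg g * p' * (pg g)⁻¹) * w₀ * (pg g * p' * (pg g)⁻¹) → p = p') := by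
  obtain ⟨w, hw, rfl⟩ := hw₀
  have hw2 : (pg w)⁻¹ = pg w := inv_eq_of_mul_eq_one_right (hC.pg_sq hw)
  have hsqp : ∀ p ∈ Ufix R g⁻¹, p * p = 1 := by
    rintro p ⟨⟨r, hr, rfl⟩, -⟩; exact hC.pg_sq hr
  have hcmp : ∀ p ∈ Ufix R g⁻¹, ∀ p' ∈ Ufix R g⁻¹, p * p' = p' * p := by
    rintro p ⟨⟨r, hr, rfl⟩, -⟩ p' ⟨⟨r', hr', rfl⟩, -⟩; exact hC.pg_comm hr hr'
  set C := fun p : PG ι F => pg g * p * (pg g)⁻¹ with hCdef
  clear_value C
  have hCmul : ∀ a b, C (a * b) = C a * C b := fun a b => by simp [hCdef, mul_assoc]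
  have hCv : ∀ p, pg g * p * (pg g)⁻¹ = C p := fun p => by rw [hCdef]
  simp only [hCv]
  constructor
  · intro p hp
    have hP2 : C p * C p = 1 := by rw [← hCmul, hsqp p hp]; simp [hCdef]
    have hPi : (C p)⁻¹ = C p := inv_eq_of_mul_eq_one_right hP2
    have hPN : C p ∈ Subgroup.normalizer (Wbar R : Set (PG ι F)) := by
      have := hp.2; rwa [map_inv, inv_inv, hCv] at this
    have hW : pg w * C p * pg w * C p ∈ Wbar R := by
      have := (Subgroup.mem_normalizer_iff.1 hPN _).1 ⟨w, hw, rfl⟩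
      rw [hPi] at this
      rw [mul_assoc (pg w * C p), show pg w * C p * (pg w * C p) = pg w * (C p * pg w * C p) by group]
      exact mul_mem ⟨w, hw, rfl⟩ this
    by_cases hp1 : p = 1
    · subst hp1
      simp only [hCdef, mul_one, mul_inv_cancel, hC.pg_sq hw]
      exact one_mem _
    obtain ⟨r, hr, rfl⟩ := hp.1
    refine mem_Ufix_of_commute hC hRX hcent (stray_of_mem_Ufix hC hT hRX hcent h hr hp hp1) hW ?_
    rw [map_mul, map_mul, map_inv, hCv]
    have hcm := hC.pg_comm hw hw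
    obtain ⟨e, he, hee⟩ := (Subgroup.mem_normalizer_iff.1 hPN _).1 ⟨w, hw, rfl⟩
    rw [hPi] at hee
    calc pg w * C (pg r) * pg w * C (pg r) * C (pg r) = pg w * (C (pg r) * pg w * (C (pg r) * C (pg r))) := by group
      _ = pg w * (C (pg r) * pg w) := by rw [hP2, mul_one]
      _ = pg w * C (pg r) * pg w := by group
      _ = C (pg r) * (C (pg r) * pg w * C (pg r)) * pg w := by
          rw [show C (pg r) * (C (pg r) * pg w * C (pg r)) = (C (pg r) * C (pg r)) * pg w * C (pg r) by group, hP2,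
            one_mul]
      _ = C (pg r) * (pg w * (C (pg r) * pg w * C (pg r))) := by
          rw [mul_assoc, ← hee, hC.pg_comm he hw]
      _ = _ := by group
  · intro p hp p' hp' e
    by_contra hne
    have hP : C p * C p = 1 := by rw [← hCmul, hsqp p hp]; simp [hCdef]
    have hP' : C p' * C p' = 1 := by rw [← hCmul, hsqp p' hp']; simp [hCdef]
    have e1 : C p * pg w * C p = C p' * pg w * C p' := by
      simp only [mul_assoc] at e ⊢
      exact mul_left_cancel e
    have hcom : pg w * C (p' * p) = C (p' * p) * pg w := by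
      rw [hCmul]
      calc pg w * (C p' * C p) = C p' * (C p' * pg w * C p') * C p := by
            rw [show C p' * (C p' * pg w * C p') = C p' * C p' * (pg w * C p') by group, hP', one_mul, mul_assoc]
        _ = C p' * (C p * pg w * C p) * C p := by rw [e1]
        _ = C p' * C p * pg w * (C p * C p) := by group
        _ = _ := by rw [hP, mul_one]
    have hq : p' * p ∈ Ufix R g⁻¹ := mul_mem hp' hp
    have hq1 : p' * p ≠ 1 := fun e2 => hne (by
      have h3 := congrArg (fun z => p' * z) e2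
      simp only [← mul_assoc, hsqp p' hp', one_mul, mul_one] at h3
      exact h3)
    obtain ⟨r, hr, hrq⟩ := hq.1
    refine hw₀U (mem_Ufix_of_commute hC hRX hcent (stray_of_mem_Ufix hC hT hRX hcent h hr (hrq ▸ hq) (hrq ▸ hq1))
      ⟨w, hw, rfl⟩ ?_)
    rw [map_mul, map_mul, map_inv, hrq, hCv]
    exact hcom

end

end CfsgLib.CliffMax93
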