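import Cfsg.Agent.Lib.CliffMax93.Control

/-!
No conjugate of a non-central element strays into the normaliser; the control theorem.
-/

set_option autoImplicit false
set_option linter.unusedSectionVars false

namespace CfsgLib.CliffMax93

open Cfsg Cfsg.Geo Matrix
open scoped MatrixGroups

variable {ι : Type} [Fintype ι] [DecidableEq ι] {F : Type*} [Field F] {R : Subgroup (GL ι F)} {i : F}
  {X : Subgroup (GL ι F)} [Finite F]

variable (hC : Cliff R i) (hT : HasT R i X) (hRX : R ≤ X) (hcent : CentCtrl R X)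

include hC hT hRX hcent

theorem exists_not_mem {g u : GL ι F} (h : Stray R g X u) : ∃ w ∈ Wbar R, w ∉ Ufix R g :=
  exists_not_Ufix hC hRX hcent h (fun hg _ hu hu1 h1 => ti hC hT hcent hg hu hu1 h1) fun w hw => by
    rw [map_mul, map_mul, map_inv]
    exact Ufix_commute hC hT hRX hcent h hw (self_mem_Ufix hC hT hRX hcent h)

theorem card_Ufix_inv_le {g u : GL ι F} (h : Stray R g X u) : Nat.card (Ufix R g⁻¹) ≤ Nat.card (Ufix R g) := by
  obtain ⟨w₀, hw₀, hw₀U⟩ := exists_not_mem hC hT hRX hcent h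
  obtain ⟨hmem, hinj⟩ := comm_injective hC hT hRX hcent h hw₀ hw₀U
  exact Nat.card_le_card_of_injective (fun p : Ufix R g⁻¹ => (⟨_, hmem p p.2⟩ : Ufix R g))
    fun p p' e => Subtype.ext (hinj p p.2 p' p'.2 (congrArg Subtype.val e))

theorem exists_stray_inv [Fintype F] {g u : GL ι F} (h : Stray R g X u) : ∃ v, Stray R g⁻¹ X v := by
  obtain ⟨v, hv, hvU, hv1, -⟩ := exists_anti_lift hC hT hRX hcent h
  exact ⟨v, Ufix_le_stray hC hT hRX hcent h hv hvU hv1⟩

theorem isotropic [Fintype F] {g u : GL ι F} (h : Stray R g X u) {a b : GL ι F} (ha : a ∈ R) (hb : b ∈ R)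
    (haU : pg a ∈ Ufix R g) (hbU : pg b ∈ Ufix R g) : bt a b = 1 := by
  haveI : Finite (PG ι F) := Quotient.finite _
  obtain ⟨w₀, hw₀, hw₀U⟩ := exists_not_mem hC hT hRX hcent h
  obtain ⟨hmem, hinj⟩ := comm_injective hC hT hRX hcent h hw₀ hw₀U
  obtain ⟨v, hv⟩ := exists_stray_inv hC hT hRX hcent h
  have hle : Nat.card (Ufix R g) ≤ Nat.card (Ufix R g⁻¹) := by
    have := card_Ufix_inv_le hC hT hRX hcent hv
    rwa [inv_inv] at this
  have hbij := Function.Injective.bijective_of_nat_card_le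
    (f := fun p : Ufix R g⁻¹ => (⟨_, hmem p p.2⟩ : Ufix R g))
    (fun p p' e => Subtype.ext (hinj p p.2 p' p'.2 (congrArg Subtype.val e))) hle
  obtain ⟨⟨p, hp⟩, hpb⟩ := hbij.2 ⟨pg b, hbU⟩
  have hpb' := congrArg Subtype.val hpb
  obtain ⟨w, hw, rfl⟩ := hw₀
  obtain ⟨r, hr, rfl⟩ := hp.1
  simp only at hpb'
  have hPN : g * r * g⁻¹ ∈ Subgroup.normalizer (R : Set (GL ι F)) := hC.mem_normalizer_of_pg (by
    have := hp.2; rw [map_inv, inv_inv] at this; rwa [map_mul, map_mul, map_inv])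
  set P := g * r * g⁻¹ with hP
  have hP2 : pg P * pg P = 1 := by
    rw [← map_mul, hP, show g * r * g⁻¹ * (g * r * g⁻¹) = g * (r * r) * g⁻¹ by group, map_mul, map_mul,
      map_mul pg r r, hC.pg_sq hr, mul_one, map_inv, mul_inv_cancel]
  have hPi : (pg P)⁻¹ = pg P := inv_eq_of_mul_eq_one_right hP2
  have hc : P * w * P⁻¹ ∈ R := (Subgroup.mem_normalizer_iff.1 hPN w).1 hw
  have hca : P * a * P⁻¹ ∈ R := (Subgroup.mem_normalizer_iff.1 hPN a).1 ha
  have hpgP : pg P = pg g * pg r * (pg g)⁻¹ := by rw [hP, map_mul, map_mul, map_inv]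
  have hbe : pg b = pg (w * (P * w * P⁻¹)) := by
    rw [map_mul, map_mul, map_mul, map_inv, hPi, ← hpb', ← hpgP]; group
  have hfix : pg (P * a * P⁻¹) = pg a := by
    have h2 := Ufix_commute hC hT hRX hcent h haU hp
    rw [← hpgP] at h2
    rw [map_mul, map_mul, map_inv, ← h2, mul_inv_cancel_right]
  rw [hC.bt_congr ha ha hb (R.mul_mem hw hc) rfl hbe, bt_mul_right hC hw hc ha,
    ← hC.bt_congr_left hca ha hc hfix, bt_conj, bt_sq]

/-- The homomorphism `w ↦ [w, y]` on the projective Clifford group. -/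
theorem range_comm {g u : GL ι F} (h : Stray R g X u) :
    ∃ φ : Wbar R →* PG ι F, (∀ w, φ w = (w : PG ι F) * (pg (g * u * g⁻¹) * w * pg (g * u * g⁻¹))) ∧
      φ.range ≤ Ufix R g ∧ φ.ker.map (Wbar R).subtype ≤ Ufix R g := by
  set y := pg (g * u * g⁻¹) with hy
  have hy2 : y * y = 1 := by
    rw [hy, ← map_mul, show g * u * g⁻¹ * (g * u * g⁻¹) = g * (u * u) * g⁻¹ by group, map_mul, map_mul,
      map_mul pg u u, hC.pg_sq h.memR, mul_one, map_inv, mul_inv_cancel]
  have hyi : y⁻¹ = y := inv_eq_of_mul_eq_one_right hy2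
  have hyN : y ∈ Subgroup.normalizer (Wbar R : Set (PG ι F)) := pg_mem_normalizer h.norm
  have hyW : ∀ w ∈ Wbar R, y * w * y ∈ Wbar R := fun w hw => by
    have := (Subgroup.mem_normalizer_iff.1 hyN w).1 hw
    rwa [hyi] at this
  have hab : ∀ a ∈ Wbar R, ∀ b ∈ Wbar R, a * b = b * a := by
    rintro a ⟨r, hr, rfl⟩ b ⟨r', hr', rfl⟩; exact hC.pg_comm hr hr'
  have hsq : ∀ a ∈ Wbar R, a * a = 1 := by rintro a ⟨r, hr, rfl⟩; exact hC.pg_sq hr
  let φ : Wbar R →* PG ι F := MonoidHom.mk' (fun w => (w : PG ι F) * (y * w * y)) fun a b => by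
    simp only [Subgroup.coe_mul]
    calc (a : PG ι F) * b * (y * (a * b) * y) = a * (b * (y * a * y)) * (y * b * y) := by
          rw [show y * (a * b) * y = y * a * (y * y) * b * y by rw [hy2, mul_one]; group]; group
      _ = a * (y * a * y * b) * (y * b * y) := by rw [hab _ b.2 _ (hyW _ a.2)]
      _ = _ := by group
  have hφ : ∀ w : Wbar R, φ w = (w : PG ι F) * (y * w * y) := fun w => rfl
  refine ⟨φ, hφ, ?_, ?_⟩
  · rintro _ ⟨⟨w, hw⟩, rfl⟩
    rw [hφ]
    refine mem_Ufix_of_commute hC hRX hcent h (mul_mem hw (hyW w hw)) ?_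
    show w * (y * w * y) * y = y * (w * (y * w * y))
    calc w * (y * w * y) * y = w * (y * w) * (y * y) := by group
      _ = w * (y * w) := by rw [hy2, mul_one]
      _ = (y * y) * w * y * w := by rw [hy2, one_mul]; group
      _ = y * ((y * w * y) * w) := by group
      _ = _ := by rw [hab _ (hyW w hw) _ hw]
  · rintro _ ⟨⟨w, hw⟩, hk, rfl⟩
    refine mem_Ufix_of_commute hC hRX hcent h hw ?_
    have h1 : w * (y * w * y) = 1 := by rw [← hφ ⟨w, hw⟩]; exact hk
    have h2 : y * w * y = w := by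
      have := congrArg (fun z => w * z) h1
      simpa only [← mul_assoc, hsq w hw, one_mul, mul_one] using this
    show w * y = y * w
    nth_rw 1 [← h2]
    rw [mul_assoc, hy2, mul_one]

theorem card_le_sq {g u : GL ι F} (h : Stray R g X u) :
    Fintype.card ι ^ 2 ≤ Nat.card (Ufix R g) * Nat.card (Ufix R g) := by
  haveI : Finite (PG ι F) := Quotient.finite _
  obtain ⟨φ, -, hran, hker⟩ := range_comm hC hT hRX hcent h
  rw [← hC.card, Subgroup.card_eq_card_quotient_mul_card_subgroup φ.ker,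
    Nat.card_congr (QuotientGroup.quotientKerEquivRange φ).toEquiv,
    ← Subgroup.card_map_of_injective (K := φ.ker) (Wbar R).subtype_injective]
  exact Nat.mul_le_mul (Subgroup.card_le_of_le hran) (Subgroup.card_le_of_le hker)

theorem sign_mixed {g u : GL ι F} (h : Stray R g X u) {a r : GL ι F} (ha : a ∈ R) (hr : r ∈ R)
    (haU : pg a ∈ Ufix R g) (hrP : pg r ∈ Ufix R g⁻¹) :
    ∃ c : F, c * c = 1 ∧ mt a * mt (g * r * g⁻¹) = c • (mt (g * r * g⁻¹) * mt a) := by
  have h2 : pg a * pg (g * r * g⁻¹) = pg (g * r * g⁻¹) * pg a := by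
    rw [map_mul, map_mul, map_inv]; exact Ufix_commute hC hT hRX hcent h haU hrP
  rcases hC.sign_of_pg_commute (hC.lift_mem_sq hr) h2 with e | e
  · exact ⟨1, one_mul 1, by rw [one_smul, ← Units.val_mul, e, Units.val_mul]⟩
  · exact ⟨-1, by ring, by rw [neg_one_smul]; exact e⟩

omit hC hT hRX hcent in
theorem conj_smul_of_sign {x y : GL ι F} {c : F} (h : mt x * mt y = c • (mt y * mt x)) :
    mt (x * y * x⁻¹) = c • mt y := by
  rw [mt_conj, h, smul_mul_assoc, mul_assoc, Units.mul_inv, mul_one]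

omit hT hRX hcent in
theorem eq_sign_false [Nonempty ι] {x y : GL ι F} {c : F} (hcc : c = 1) (h : mt x * mt y = c • (mt y * mt x))
    (hanti : mt x * mt y = -(mt y * mt x)) : False := by
  subst hcc
  rw [h, ← neg_one_smul F (mt y * mt x), ← Units.val_mul] at hanti
  exact hC.neg_one_ne_one (smul_inj_mt hanti).symm

/-- The mixed family: both parts have the size of the degree, and the family determines elements by signs. -/
theorem mixed [Fintype F] {g u : GL ι F} (h : Stray R g X u) :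
    Nat.card (Ufix R g) = Fintype.card ι ∧
    ∀ q : GL ι F, (∀ w ∈ Ufix R g, pg q * w = w * pg q) →
      (∀ p ∈ Ufix R g⁻¹, pg q * (pg g * p * (pg g)⁻¹) = pg g * p * (pg g)⁻¹ * pg q) →
      ∃ w ∈ Ufix R g, ∃ p ∈ Ufix R g⁻¹, pg q = w * (pg g * p * (pg g)⁻¹) := by
  classical
  have := hC.nonempty
  haveI : Finite (PG ι F) := Quotient.finite _
  haveI : Fintype (Ufix R g) := Fintype.ofFinite _
  haveI : Fintype (Ufix R g⁻¹) := Fintype.ofFinite _
  obtain ⟨v, hv⟩ := exists_stray_inv hC hT hRX hcent h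
  have hcard : Nat.card (Ufix R g) = Nat.card (Ufix R g⁻¹) := by
    refine le_antisymm ?_ (card_Ufix_inv_le hC hT hRX hcent h)
    have := card_Ufix_inv_le hC hT hRX hcent hv
    rwa [inv_inv] at this
  have hl : ∀ w : Ufix R g, ∃ r ∈ R, pg r = (w : PG ι F) := fun w => w.2.1
  choose a ha haw using hl
  have hl' : ∀ p : Ufix R g⁻¹, ∃ r ∈ R, pg r = (p : PG ι F) := fun p => p.2.1
  choose b hb hbp using hl'
  have haU : ∀ w, pg (a w) ∈ Ufix R g := fun w => by rw [haw]; exact w.2
  have hbP : ∀ p, pg (b p) ∈ Ufix R g⁻¹ := fun p => by rw [hbp]; exact p.2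
  obtain ⟨B, hBdef⟩ : ∃ B : Ufix R g⁻¹ → GL ι F, ∀ p, B p = g * b p * g⁻¹ := ⟨_, fun _ => rfl⟩
  have hs : ∀ w p, ∃ c : F, c * c = 1 ∧ mt (a w) * mt (B p) = c • (mt (B p) * mt (a w)) :=
    fun w p => by rw [hBdef]; exact sign_mixed hC hT hRX hcent h (ha w) (hb p) (haU w) (hbP p)
  choose c hc hcs using hs
  have hcs' : ∀ w p, mt (B p) * mt (a w) = c w p • (mt (a w) * mt (B p)) := fun w p => by
    rw [hcs, smul_smul, hc, one_smul]
  have hisoU : ∀ w w', mt (a w * a w' * (a w)⁻¹) = mt (a w') := fun w w' => by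
    rw [(bt_comm_iff hC _ _).1 (isotropic hC hT hRX hcent h (ha w) (ha w') (haU w) (haU w')), mul_inv_cancel_right]
  have hisoP : ∀ p p', mt (B p * B p' * (B p)⁻¹) = mt (B p') := fun p p' => by
    have h1 : b p * b p' = b p' * b p :=
      (bt_comm_iff hC _ _).1 (isotropic hC hT hRX hcent hv (hb p) (hb p') (hbP p) (hbP p'))
    rw [show B p * B p' * (B p)⁻¹ = g * (b p * b p' * (b p)⁻¹) * g⁻¹ by simp only [hBdef]; group, h1, mul_inv_cancel_right, ← hBdef]
  let vv : Ufix R g × Ufix R g⁻¹ → GL ι F := fun k => a k.1 * B k.2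
  let gg : Ufix R g ⊕ Ufix R g⁻¹ → GL ι F := Sum.elim a B
  let χ : Ufix R g ⊕ Ufix R g⁻¹ → Ufix R g × Ufix R g⁻¹ → F :=
    fun j k => Sum.elim (fun w => c w k.2) (fun p => c k.1 p) j
  have hχ : ∀ j k, mt (gg j * vv k * (gg j)⁻¹) = χ j k • mt (vv k) := by
    intro j k
    have e : gg j * vv k * (gg j)⁻¹ = (gg j * a k.1 * (gg j)⁻¹) * (gg j * B k.2 * (gg j)⁻¹) := by
      simp only [vv]; group
    rw [e, mt, Units.val_mul]
    rcases j with w | p
    · change mt (a w * a k.1 * (a w)⁻¹) * mt (a w * B k.2 * (a w)⁻¹) = c w k.2 • mt (a k.1 * B k.2)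
      rw [hisoU, conj_smul_of_sign (hcs w k.2), mul_smul_comm]; simp [mt]
    · change mt (B p * a k.1 * (B p)⁻¹) * mt (B p * B k.2 * (B p)⁻¹) = c k.1 p • mt (a k.1 * B k.2)
      rw [hisoP, conj_smul_of_sign (hcs' k.1 p), smul_mul_assoc]; simp [mt]
  have hsep : ∀ k l, k ≠ l → ∃ j, χ j k ≠ χ j l := by
    intro k l hkl
    by_contra hall
    push Not at hall
    by_cases h2 : k.2 = l.2
    · have h1 : k.1 ≠ l.1 := fun e => hkl (Prod.ext e h2)
      have hd : a k.1 * a l.1 ∈ R := R.mul_mem (ha _) (ha _)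
      have hdU : pg (a k.1 * a l.1) ∈ Ufix R g := by rw [map_mul]; exact mul_mem (haU _) (haU _)
      have hd1 : pg (a k.1 * a l.1) ≠ 1 := fun e => h1 (Subtype.ext (by
        rw [map_mul, haw, haw] at e
        obtain ⟨r, hr, hre⟩ := l.1.2.1
        rw [← hre] at e ⊢
        exact (eq_inv_of_mul_eq_one_left e).trans (inv_eq_of_mul_eq_one_right (hC.pg_sq hr))))
      obtain ⟨v', hv', hv'U, -, hanti⟩ :=
        exists_anti_lift hC hT hRX hcent (Ufix_le_stray hC hT hRX hcent h hd hdU hd1)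
      let p' : Ufix R g⁻¹ := ⟨pg v', hv'U⟩
      have e1 := hall (Sum.inr p')
      simp only [χ, Sum.elim_inr] at e1
      -- compare with the lift of the class of `v'`
      have hpv : pg (b p') = pg v' := hbp p'
      obtain ⟨d, hd'⟩ := (pg_eq_iff (b p') v').1 hpv
      have h3 : mt (B p') * mt (a k.1 * a l.1) = (1 : F) • (mt (a k.1 * a l.1) * mt (B p')) := by
        rw [one_smul, mt, mt, Units.val_mul, ← mul_assoc, show mt (B p') * mt (a k.1) = _ from hcs' k.1 p',
          smul_mul_assoc, mul_assoc, show mt (B p') * mt (a l.1) = _ from hcs' l.1 p', mul_smul_comm, smul_smul, e1,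
          hc, one_smul, mul_assoc]
      have hd0 : d ≠ 0 := fun e => mt_ne_zero (b p') (by rw [hd', e, zero_smul])
      have h4 : mt (a k.1 * a l.1) * mt (g * v' * g⁻¹) = -(mt (g * v' * g⁻¹) * mt (a k.1 * a l.1)) := by
        have := congrArg (fun M => mt g * M * ((g⁻¹ : GL ι F) : Matrix ι ι F)) hanti
        simp only [inv_inv, mt, Units.val_mul, mul_neg, neg_mul, mul_assoc] at this ⊢
        rw [← mul_assoc (g : Matrix ι ι F) ((g⁻¹ : GL ι F) : Matrix ι ι F), Units.mul_inv, one_mul] at this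
        simp only [Units.mul_inv, mul_one] at this
        exact this
      have hB : mt (B p') = d • mt (g * v' * g⁻¹) := by
        simp only [hBdef]
        rw [mt_conj, hd', mul_smul_comm, smul_mul_assoc, ← mt_conj]
      rw [hB, smul_mul_assoc, mul_smul_comm, one_smul] at h3
      have h5 := smul_right_injective (Matrix ι ι F) hd0 h3
      exact eq_sign_false hC rfl (x := g * v' * g⁻¹) (y := a k.1 * a l.1) (by rw [one_smul]; exact h5)
        (by rw [h4, neg_neg])
    · have hd : b k.2 * b l.2 ∈ R := R.mul_mem (hb _) (hb _)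
      have hdP : pg (b k.2 * b l.2) ∈ Ufix R g⁻¹ := by rw [map_mul]; exact mul_mem (hbP _) (hbP _)
      have hd1 : pg (b k.2 * b l.2) ≠ 1 := fun e => h2 (Subtype.ext (by
        rw [map_mul, hbp, hbp] at e
        obtain ⟨r, hr, hre⟩ := l.2.2.1
        rw [← hre] at e ⊢
        exact (eq_inv_of_mul_eq_one_left e).trans (inv_eq_of_mul_eq_one_right (hC.pg_sq hr))))
      obtain ⟨v', hv', hv'U, -, hanti⟩ :=
        exists_anti_lift hC hT hRX hcent (stray_of_mem_Ufix hC hT hRX hcent h hd hdP hd1)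
      let w' : Ufix R g := ⟨pg v', hv'U⟩
      have e1 := hall (Sum.inl w')
      simp only [χ, Sum.elim_inl] at e1
      obtain ⟨d, hd'⟩ := (pg_eq_iff (a w') v').1 (haw w')
      have hd0 : d ≠ 0 := fun e => mt_ne_zero (a w') (by rw [hd', e, zero_smul])
      have hBB : mt (g * (b k.2 * b l.2) * g⁻¹) = mt (B k.2) * mt (B l.2) := by
        rw [← Units.val_mul]; simp only [hBdef]; congr 1; group
      have h3 : mt (a w') * mt (g * (b k.2 * b l.2) * g⁻¹) = mt (g * (b k.2 * b l.2) * g⁻¹) * mt (a w') := by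
        rw [hBB, ← mul_assoc, show mt (a w') * mt (B k.2) = _ from hcs w' k.2,
          smul_mul_assoc, mul_assoc, show mt (a w') * mt (B l.2) = _ from hcs w' l.2, mul_smul_comm, smul_smul, e1,
          hc, one_smul, mul_assoc]
      rw [hd', smul_mul_assoc, mul_smul_comm] at h3
      have h5 := smul_right_injective (Matrix ι ι F) hd0 h3
      exact eq_sign_false hC rfl (x := g * (b k.2 * b l.2) * g⁻¹) (y := v') (by rw [one_smul]; exact h5.symm) hanti
  have hU : Nat.card (Ufix R g) = Fintype.card ι := by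
    have h1 := (linearIndependent_of_signs vv gg χ hχ hsep).fintype_card_le_finrank
    rw [Module.finrank_matrix, Module.finrank_self, mul_one, ← Nat.card_eq_fintype_card, Nat.card_prod, ← hcard] at h1
    have h2 := card_le_sq hC hT hRX hcent h
    rw [pow_two] at h2
    exact Nat.mul_self_inj.1 (le_antisymm h1 h2)
  refine ⟨hU, fun q hqU hqP => ?_⟩
  have hψ : ∀ j, ∃ e : F, mt (gg j * q * (gg j)⁻¹) = e • mt q := by
    intro j
    have h1 : pg (gg j) * pg q = pg q * pg (gg j) := by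
      rcases j with w | p
      · change pg (a w) * pg q = pg q * pg (a w)
        rw [haw]; exact (hqU _ w.2).symm
      · change pg (B p) * pg q = pg q * pg (B p)
        simp only [hBdef, map_mul, map_inv, hbp]
        exact (hqP _ p.2).symm
    obtain ⟨e, he⟩ := (pg_commute_iff _ _).1 h1
    exact ⟨e, conj_smul_of_sign he⟩
  choose ψ hψ using hψ
  obtain ⟨k, hk⟩ := eq_pg_of_signs vv gg χ hχ hsep (by
    rw [← Nat.card_eq_fintype_card, Nat.card_prod, ← hcard, hU, pow_two]) q ψ hψ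
  refine ⟨k.1, k.1.2, k.2, k.2.2, ?_⟩
  rw [hk]
  simp only [vv, hBdef, map_mul, map_inv, haw, hbp]

/-- No element strays. -/
theorem no_stray [Fintype F] (hn : 4 ≤ Fintype.card ι) {g u : GL ι F} (h : Stray R g X u) : False := by
  classical
  haveI : Finite (PG ι F) := Quotient.finite _
  obtain ⟨hU, hmix⟩ := mixed hC hT hRX hcent h
  obtain ⟨w₀, hw₀, hw₀U⟩ := exists_not_mem hC hT hRX hcent h
  obtain ⟨hmem, hinj⟩ := comm_injective hC hT hRX hcent h hw₀ hw₀U
  obtain ⟨φ, hφ, hran, hker⟩ := range_comm hC hT hRX hcent h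
  have hrange : φ.range = Ufix R g := by
    refine Subgroup.eq_of_le_of_card_ge hran ?_
    have h1 := Subgroup.card_eq_card_quotient_mul_card_subgroup φ.ker
    rw [Nat.card_congr (QuotientGroup.quotientKerEquivRange φ).toEquiv,
      ← Subgroup.card_map_of_injective (K := φ.ker) (Wbar R).subtype_injective, hC.card] at h1
    have h2 := Subgroup.card_le_of_le hker
    rw [hU] at h2 ⊢
    nlinarith
  obtain ⟨v, hv, hvU, hv1, -⟩ := exists_anti_lift hC hT hRX hcent h
  obtain ⟨s, hs, hsv, hs2⟩ := hC.exists_lift_one hv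
  have hsU : pg s ∈ Ufix R g := hsv ▸ hvU
  have hs1 : pg s ≠ 1 := hsv ▸ hv1
  obtain ⟨t, htX, hts⟩ := hT s hs hs1 hs2
  set Y := g * u * g⁻¹ with hY
  clear_value Y
  have hYs : pg Y * pg s = pg s * pg Y := by
    rw [hY, map_mul, map_mul, map_inv]
    exact (Ufix_commute hC hT hRX hcent h hsU (self_mem_Ufix hC hT hRX hcent h)).symm
  have hY2 : pg Y * pg Y = 1 := by
    rw [← map_mul, hY, show g * u * g⁻¹ * (g * u * g⁻¹) = g * (u * u) * g⁻¹ by group, map_mul, map_mul,
      map_mul pg u u, hC.pg_sq h.memR, mul_one, map_inv, mul_inv_cancel]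
  have hYi : (pg Y)⁻¹ = pg Y := inv_eq_of_mul_eq_one_right hY2
  -- choose the corrected lift
  obtain ⟨w, hw, hqY⟩ : ∃ w ∈ R, pg Y * pg (t * w) * pg Y = pg (t * w) := by
    rcases hC.sign_of_pg_commute (hC.sq s hs) hYs with e | e
    · refine ⟨1, R.one_mem, ?_⟩
      rw [mul_one, ← map_mul, hts.comm (g := Y) e, map_mul, mul_assoc, hY2, mul_one]
    · obtain ⟨⟨w', r, hr, rfl⟩, hw⟩ := (MonoidHom.mem_range.1 (hrange.ge hsU))
      refine ⟨r, hr, ?_⟩
      rw [hφ] at hw
      simp only at hw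
      have h1 : pg Y * pg t * pg Y = pg t * pg s := by
        have hsY : mt (Y * s * Y⁻¹) = -mt s := by
          rw [mt_conj, e, neg_mul, mul_assoc, Units.mul_inv, mul_one]
        have hconj := hts.conj Y
        rw [IsT, hsY] at hconj
        have h2 : pg (t * (Y * t * Y⁻¹)) = 1 := (pg_eq_one_iff _).2 ⟨i, by
          rw [mt, Units.val_mul, show (t : Matrix ι ι F) = _ from hts,
            show ((Y * t * Y⁻¹ : GL ι F) : Matrix ι ι F) = _ from hconj]
          exact (Tm_mul hC.hi hC.two hs2).1⟩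
        rw [map_mul, map_mul, map_mul, map_inv, hYi] at h2
        have ht4 : pg t * (pg t * pg s) = 1 := by
          rw [← mul_assoc, ← map_mul pg t t, hts.sq hC hs2, hC.pg_sq hs]
        exact (mul_left_cancel (ht4.trans h2.symm)).symm
      have h3 : pg Y * pg r * pg Y = pg r * pg s := by
        have := congrArg (fun z => pg r * z) hw
        simp only [← mul_assoc, hC.pg_sq hr, one_mul] at this
        exact this
      calc pg Y * pg (t * r) * pg Y = (pg Y * pg t * pg Y) * (pg Y * pg r * pg Y) := by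
            rw [map_mul, show pg Y * pg t * pg Y * (pg Y * pg r * pg Y) =
              pg Y * pg t * (pg Y * pg Y) * pg r * pg Y by group, hY2, mul_one]
            group
        _ = pg t * pg s * (pg r * pg s) := by rw [h1, h3]
        _ = pg (t * r) := by
            rw [hC.pg_comm hr hs, ← mul_assoc, mul_assoc (pg t) (pg s) (pg s), hC.pg_sq hs, mul_one, map_mul]
  set q := t * w with hq
  have hqX : q ∈ X := X.mul_mem htX (hRX hw)
  have hqN : q ∈ Subgroup.normalizer (R : Set (GL ι F)) :=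
    mul_mem (hts.mem_normalizer hC hs2 hs) (Subgroup.le_normalizer hw)
  have htU : ∀ e ∈ Ufix R g, pg t * e = e * pg t := by
    intro e he
    obtain ⟨r, hr, rfl⟩ := he.1
    rw [← map_mul, ← hts.comm (g := r)
      ((bt_comm_iff hC r s).1 (isotropic hC hT hRX hcent h hr hs he hsU)), map_mul]
  have hqU : ∀ e ∈ Ufix R g, pg q * e = e * pg q := by
    intro e he
    obtain ⟨r, hr, rfl⟩ := he.1
    rw [hq, map_mul, mul_assoc, hC.pg_comm hw hr, ← mul_assoc, htU _ he, mul_assoc]
  -- the conjugation by q on the other part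
  have hgqg : g⁻¹ * q * g ∈ Subgroup.normalizer (R : Set (GL ι F)) := by
    refine hcent u h.memR h.ne _ (X.mul_mem (X.mul_mem (X.inv_mem h.memX) hqX) h.memX) ?_
    have h1 : pg Y * pg q = pg q * pg Y := by
      have := congrArg (fun z => z * pg Y) hqY
      simpa only [mul_assoc, hY2, mul_one] using this
    have h2 := congrArg (fun z => (pg g)⁻¹ * z * pg g) h1
    simp only [hY, map_mul, map_inv] at h2 ⊢
    simpa [mul_assoc] using h2.symm
  have hsame : ∀ e : PG ι F, e ∈ Ufix R g⁻¹ →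
      pg q * (pg g * e * (pg g)⁻¹) = pg g * e * (pg g)⁻¹ * pg q := by
    intro e he
    set e' := pg (g⁻¹ * q * g) * e * (pg (g⁻¹ * q * g))⁻¹ with he'
    have hCe : pg g * e' * (pg g)⁻¹ = pg q * (pg g * e * (pg g)⁻¹) * (pg q)⁻¹ := by
      rw [he', map_mul, map_mul, map_inv]; group
    have he'U : e' ∈ Ufix R g⁻¹ := by
      refine ⟨(Subgroup.mem_normalizer_iff.1 (pg_mem_normalizer hgqg) e).1 he.1, ?_⟩
      have h1 := he.2
      rw [map_inv, inv_inv] at h1 ⊢
      rw [hCe]
      exact mul_mem (mul_mem (pg_mem_normalizer hqN) h1) (inv_mem (pg_mem_normalizer hqN))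
    suffices e' = e by
      rw [this] at hCe
      conv_rhs => rw [hCe, inv_mul_cancel_right]
    refine hinj e' he'U e he ?_
    set P := pg g * e * (pg g)⁻¹ with hP
    clear_value P
    rw [hCe]
    obtain ⟨r₀, hr₀, rfl⟩ := hw₀
    have hsP : pg s * P = P * pg s := by rw [hP]; exact Ufix_commute hC hT hRX hcent h hsU he
    have hconjw : (pg q)⁻¹ * pg r₀ * pg q = pg r₀ ∨ (pg q)⁻¹ * pg r₀ * pg q = pg r₀ * pg s := by
      have h1 : (pg q)⁻¹ * pg r₀ * pg q = (pg w)⁻¹ * ((pg t)⁻¹ * pg r₀ * pg t) * pg w := by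
        rw [hq, map_mul]; group
      have hst : pg t * pg s = pg s * pg t := htU _ hsU
      rcases hts.pg_conj hC hs2 hs hr₀ with ⟨hp1, hp2⟩
      rcases bt_pm s r₀ with hb | hb
      · have e1 := hp1 hb
        rw [map_mul, map_mul, map_inv] at e1
        left
        have h2 : (pg t)⁻¹ * pg r₀ * pg t = pg r₀ := by
          conv_lhs => rw [← e1]
          group
        rw [h1, h2, mul_assoc, hC.pg_comm hr₀ hw, inv_mul_cancel_left]
      · have e1 := hp2 hb
        rw [map_mul, map_mul, map_inv, map_mul] at e1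
        right
        have h2 : (pg t)⁻¹ * pg r₀ * pg t = pg r₀ * pg s := by
          have e2 : pg t * (pg r₀ * pg s) * (pg t)⁻¹ = pg r₀ := by
            calc pg t * (pg r₀ * pg s) * (pg t)⁻¹ = (pg t * pg r₀ * (pg t)⁻¹) * (pg t * pg s * (pg t)⁻¹) := by group
              _ = pg r₀ * pg s * pg s := by rw [e1, hst, mul_inv_cancel_right]
              _ = _ := by rw [mul_assoc, hC.pg_sq hs, mul_one]
          conv_lhs => rw [← e2]
          group
        have hrs : pg r₀ * pg s * pg w = pg w * (pg r₀ * pg s) := by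
          rw [← map_mul pg r₀ s]; exact hC.pg_comm (R.mul_mem hr₀ hs) hw
        rw [h1, h2, mul_assoc, hrs, inv_mul_cancel_left]
    have hside : pg r₀ * P * pg r₀ * P ∈ Ufix R g := by rw [hP]; exact hmem e he
    have hw1 : ((pg q)⁻¹ * pg r₀ * pg q) * P * ((pg q)⁻¹ * pg r₀ * pg q) * P = pg r₀ * P * pg r₀ * P := by
      rcases hconjw with h1 | h1 <;> rw [h1]
      calc pg r₀ * pg s * P * (pg r₀ * pg s) * P = pg r₀ * (pg s * P) * (pg s * pg r₀) * P := by
            rw [← hC.pg_comm hr₀ hs]; group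
        _ = pg r₀ * P * (pg s * pg s) * pg r₀ * P := by rw [hsP]; group
        _ = _ := by rw [hC.pg_sq hs, mul_one]
    calc pg r₀ * (pg q * P * (pg q)⁻¹) * pg r₀ * (pg q * P * (pg q)⁻¹)
        = pg q * (((pg q)⁻¹ * pg r₀ * pg q) * P * ((pg q)⁻¹ * pg r₀ * pg q) * P) * (pg q)⁻¹ := by group
      _ = _ := by rw [hw1, hqU _ hside, mul_inv_cancel_right]
  obtain ⟨e, heU, p, hp, hqe⟩ := hmix q hqU hsame
  obtain ⟨x, hx, hxU, hxs⟩ := exists_outside hC (Ufix R g) (fun z hz => hz.1) (by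
    rw [hU, hC.card, pow_two]; exact Nat.mul_le_mul_right _ hn) hs
  have hxq : pg x * pg q = pg q * pg x := by
    have h1 : x * t = t * x := hts.comm ((bt_comm_iff hC s x).1 hxs).symm
    rw [hq, map_mul, ← mul_assoc, ← map_mul pg x t, h1, map_mul, mul_assoc, hC.pg_comm hx hw, mul_assoc]
  have hpg : pg g * p * (pg g)⁻¹ = e⁻¹ * pg q := by rw [hqe, inv_mul_cancel_left]
  have hp1 : p = 1 := by
    by_contra hp1
    obtain ⟨r, hr, rfl⟩ := hp.1
    refine hxU (mem_Ufix_of_commute hC hRX hcent (stray_of_mem_Ufix hC hT hRX hcent h hr hp hp1) ⟨x, hx, rfl⟩ ?_)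
    rw [map_mul, map_mul, map_inv, hpg]
    obtain ⟨r', hr', rfl⟩ := heU.1
    rw [← map_inv, ← mul_assoc, hC.pg_comm hx (R.inv_mem hr'), mul_assoc, hxq, mul_assoc]
  rw [hp1, mul_one, mul_inv_cancel, mul_one] at hqe
  have htW : ∃ r ∈ R, pg t = pg r := by
    obtain ⟨r', hr', rfl⟩ := heU.1
    refine ⟨r' * w⁻¹, R.mul_mem hr' (R.inv_mem hw), ?_⟩
    rw [map_mul, map_inv, ← hqe, hq, map_mul, mul_inv_cancel_right]
  obtain ⟨r, hr, htr⟩ := htW
  obtain ⟨v₀, hv₀, hanti⟩ := hC.exists_anti hs1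
  have h6 := (hts.pg_conj hC hs2 hs hv₀).2 hanti
  rw [map_mul, map_mul, map_inv, htr, hC.pg_comm hr hv₀, mul_inv_cancel_right, map_mul] at h6
  exact hs1 (mul_eq_left.1 h6.symm)

end CfsgLib.CliffMax93
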