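import Cfsg.Agent.Lib.CliffMax93.Control2

/-!
The control theorem.
-/

set_option autoImplicit false
set_option linter.unusedSectionVars false

namespace CfsgLib.CliffMax93

open Cfsg Cfsg.Geo Matrix
open scoped MatrixGroups

variable {ι : Type} [Fintype ι] [DecidableEq ι] {F : Type*} [Field F] {R : Subgroup (GL ι F)} {i : F}

/-- If the centralisers in `X` of all non-central elements of the Clifford group normalise it, so does `X`. -/
theorem le_normalizer_of_centCtrl [Fintype F] (hC : Cliff R i) (hn : 4 ≤ Fintype.card ι) {X : Subgroup (GL ι F)}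
    (hT : HasT R i X) (hRX : R ≤ X) (hcent : CentCtrl R X) :
    X ≤ Subgroup.normalizer (R : Set (GL ι F)) := by
  classical
  haveI : Finite (PG ι F) := Quotient.finite _
  intro g hg
  let H : Subgroup (PG ι F) := X.map pg
  let W : Subgroup H := (Wbar R).subgroupOf H
  have hWH : Wbar R ≤ H := Subgroup.map_mono hRX
  have hN : ∀ m : H, m ∈ Subgroup.normalizer (W : Set H) ↔
      (m : PG ι F) ∈ Subgroup.normalizer (Wbar R : Set (PG ι F)) := by
    intro m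
    rw [Subgroup.mem_normalizer_iff, Subgroup.mem_normalizer_iff]
    constructor
    · intro h w
      constructor
      · intro hw
        exact (h ⟨w, hWH hw⟩).1 (Subgroup.mem_subgroupOf.2 hw)
      · intro hw
        have h1 : w ∈ H := by
          have := mul_mem (mul_mem (inv_mem m.2) (hWH hw)) m.2
          simpa [mul_assoc] using this
        exact Subgroup.mem_subgroupOf.1 ((h ⟨w, h1⟩).2 (Subgroup.mem_subgroupOf.2 hw))
    · intro h w
      simp only [W, Subgroup.mem_subgroupOf, Subgroup.coe_mul, Subgroup.coe_inv]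
      exact h w
  -- a non-central element and a transvection lift
  obtain ⟨s₀, hs₀, hs₀1, -⟩ := exists_outside hC (⊥ : Subgroup (PG ι F)) bot_le (by
    rw [Subgroup.card_bot, hC.card, pow_two]; nlinarith) R.one_mem
  rw [Subgroup.mem_bot] at hs₀1
  obtain ⟨s, hs, hss, hs2⟩ := hC.exists_lift_one hs₀
  have hs1 : pg s ≠ 1 := hss ▸ hs₀1
  obtain ⟨t, htX, hts⟩ := hT s hs hs1 hs2
  obtain ⟨w, hw, hsw⟩ := hC.exists_anti hs1
  obtain ⟨v, hv, hvS, hsv⟩ := exists_outside hC (Subgroup.zpowers (pg s)) (by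
    rw [Subgroup.zpowers_le]; exact ⟨s, hs, rfl⟩) (by
    rw [Nat.card_zpowers, orderOf_eq_prime (by rw [pow_two, hC.pg_sq hs]) hs1, hC.card, pow_two]; nlinarith) hs
  have hv1 : pg v ≠ 1 := fun e => hvS (e ▸ one_mem _)
  have hvs : pg v ≠ pg s := fun e => hvS (e ▸ Subgroup.mem_zpowers _)
  set ζ := pg (t * w) with hζ
  have hact : ∀ e ∈ R, ζ * pg e * ζ⁻¹ = pg (t * e * t⁻¹) := by
    intro e he
    rw [hζ, map_mul, map_mul, map_mul, map_inv, show pg t * pg w * pg e * (pg t * pg w)⁻¹ =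
      pg t * (pg w * pg e * (pg w)⁻¹) * (pg t)⁻¹ by group, hC.pg_comm hw he, mul_inv_cancel_right]
  have hfix : ∀ e ∈ R, bt s e = 1 → ζ * pg e = pg e * ζ := fun e he hb =>
    mul_inv_eq_iff_eq_mul.1 ((hact e he).trans ((hts.pg_conj hC hs2 hs he).1 hb))
  have hζ2 : ζ * ζ = 1 := by
    have h1 := hts.conj w
    have hsY : mt (w * s * w⁻¹) = -mt s := by
      rw [mt_conj_bt hC hw hs, bt_symm, hsw, neg_one_smul]
    rw [IsT, hsY] at h1
    have h2 : pg (t * (w * t * w⁻¹)) = 1 := (pg_eq_one_iff _).2 ⟨i, by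
      rw [mt, Units.val_mul, show (t : Matrix ι ι F) = _ from hts,
        show ((w * t * w⁻¹ : GL ι F) : Matrix ι ι F) = _ from h1]
      exact (Tm_mul hC.hi hC.two hs2).1⟩
    rw [hζ, map_mul]
    rw [map_mul, map_mul, map_mul, map_inv, inv_eq_of_mul_eq_one_right (hC.pg_sq hw)] at h2
    rw [← h2]; group
  have hζN : ζ ∈ Subgroup.normalizer (Wbar R : Set (PG ι F)) :=
    pg_mem_normalizer (mul_mem (hts.mem_normalizer hC hs2 hs) (Subgroup.le_normalizer hw))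
  have hmove : ζ * pg w * ζ⁻¹ = pg w * pg s := by
    rw [hact w hw, (hts.pg_conj hC hs2 hs hw).2 hsw, map_mul]
  have hζW : ζ ∉ Wbar R := by
    rintro ⟨r, hr, e⟩
    rw [← e, hC.pg_comm hr hw, mul_inv_cancel_right] at hmove
    exact hs1 (mul_eq_left.1 hmove.symm)
  have htrans : ∀ u ∈ W, u ≠ 1 → ∀ v ∈ W, v ≠ 1 →
      ∃ m ∈ Subgroup.normalizer (W : Set H), m * u * m⁻¹ = v := by
    rintro ⟨u, hu⟩ ⟨a, ha, hau⟩ hu1 ⟨v', hv'⟩ ⟨b, hb, hbv⟩ hv1'
    simp only [Subgroup.coe_subtype] at hau hbv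
    subst hau hbv
    obtain ⟨m, hm, hmN, hme⟩ := transitive hC hT ha hb (fun e => hu1 (Subtype.ext e)) (fun e => hv1' (Subtype.ext e))
    refine ⟨⟨pg m, Subgroup.mem_map_of_mem pg hm⟩, (hN _).2 (pg_mem_normalizer hmN), Subtype.ext ?_⟩
    rw [map_mul, map_mul, map_inv] at hme
    exact hme
  have hcent' : ∀ u ∈ W, u ≠ 1 → ∀ x : H, x * u = u * x → x ∈ Subgroup.normalizer (W : Set H) := by
    rintro ⟨u, hu⟩ ⟨a, ha, hau⟩ hu1 ⟨x, y, hy, rfl⟩ hxu
    simp only [Subgroup.coe_subtype] at hau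
    subst hau
    exact (hN _).2 (pg_mem_normalizer (hcent a ha (fun e => hu1 (Subtype.ext e)) y hy (congrArg Subtype.val hxu)))
  have hclosed : ∀ g : H, ∀ u ∈ W, u ≠ 1 → g * u * g⁻¹ ∈ Subgroup.normalizer (W : Set H) → g * u * g⁻¹ ∈ W := by
    rintro ⟨x, y, hy, rfl⟩ ⟨u, hu⟩ ⟨a, ha, hau⟩ hu1 hgu
    simp only [Subgroup.coe_subtype] at hau
    subst hau
    have h1 := (hN _).1 hgu
    simp only [Subgroup.coe_mul, Subgroup.coe_inv] at h1
    rw [← map_inv, ← map_mul, ← map_mul] at h1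
    show pg y * pg a * (pg y)⁻¹ ∈ Wbar R
    by_cases hyN : y ∈ Subgroup.normalizer (R : Set (GL ι F))
    · exact (Subgroup.mem_normalizer_iff.1 (pg_mem_normalizer hyN) _).1 ⟨a, ha, rfl⟩
    · exact absurd ⟨hy, hyN, ha, fun e => hu1 (Subtype.ext e), hC.mem_normalizer_of_pg h1⟩
        (fun hS => no_stray hC hT hRX hcent hn (g := y) (u := a) hS)
  have hsep : ∀ e ∈ W, (⟨ζ, Subgroup.mem_map_of_mem pg (X.mul_mem htX (hRX hw))⟩ : H) * e =
      e * ⟨ζ, Subgroup.mem_map_of_mem pg (X.mul_mem htX (hRX hw))⟩ →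
      ∀ m ∈ Subgroup.normalizer (W : Set H),
      m * (⟨ζ, Subgroup.mem_map_of_mem pg (X.mul_mem htX (hRX hw))⟩ * e) =
        ⟨ζ, Subgroup.mem_map_of_mem pg (X.mul_mem htX (hRX hw))⟩ * e * m →
      m * ⟨pg s, hWH ⟨s, hs, rfl⟩⟩ * m⁻¹ ≠ ⟨pg v, hWH ⟨v, hv, rfl⟩⟩ := by
    rintro ⟨e, he⟩ ⟨a, ha, hae⟩ - ⟨m, hmH⟩ hm hcomm heq
    simp only [Subgroup.coe_subtype] at hae
    subst hae
    have hc := congrArg Subtype.val hcomm
    simp only [Subgroup.coe_mul] at hc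
    have heq' := congrArg Subtype.val heq
    simp only [Subgroup.coe_mul, Subgroup.coe_inv] at heq'
    obtain ⟨b, hb, hbm⟩ := (Subgroup.mem_normalizer_iff.1 ((hN _).1 hm) (pg w)).1 ⟨w, hw, rfl⟩
    set x := ζ * pg a with hx
    have hxa : ∀ c ∈ R, x * pg c * x⁻¹ = ζ * pg c * ζ⁻¹ := fun c hc' => by
      rw [hx, show ζ * pg a * pg c * (ζ * pg a)⁻¹ = ζ * (pg a * pg c * (pg a)⁻¹) * ζ⁻¹ by group,
        hC.pg_comm ha hc', mul_inv_cancel_right]
    have hxs : pg s = pg w * (x * pg w * x⁻¹) := by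
      rw [hxa w hw, hmove, ← mul_assoc, hC.pg_sq hw, one_mul]
    have h1 : pg v = pg b * (x * pg b * x⁻¹) := by
      rw [← heq', hxs, hbm]
      calc m * (pg w * (x * pg w * x⁻¹)) * m⁻¹ = m * pg w * m⁻¹ * ((m * x) * pg w * (m * x)⁻¹) := by group
        _ = m * pg w * m⁻¹ * ((x * m) * pg w * (x * m)⁻¹) := by rw [hc]
        _ = _ := by group
    rw [hxa b hb, hact b hb] at h1
    rcases bt_pm s b with hb1 | hb1
    · rw [(hts.pg_conj hC hs2 hs hb).1 hb1, hC.pg_sq hb] at h1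
      exact hv1 h1
    · rw [(hts.pg_conj hC hs2 hs hb).2 hb1, map_mul, ← mul_assoc, hC.pg_sq hb, one_mul] at h1
      exact hvs h1
  have key := mem_normalizer_of_fusion W
    (fun a ha b hb => Subtype.ext (by
      obtain ⟨r, hr, e⟩ := Subgroup.mem_subgroupOf.1 ha
      obtain ⟨r', hr', e'⟩ := Subgroup.mem_subgroupOf.1 hb
      simp only [Subgroup.coe_mul, ← e, ← e']
      exact hC.pg_comm hr hr'))
    (fun a ha => Subtype.ext (by
      obtain ⟨r, hr, e⟩ := Subgroup.mem_subgroupOf.1 ha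
      simp only [Subgroup.coe_mul, ← e]
      exact hC.pg_sq hr))
    htrans hcent' hclosed
    (z := ⟨ζ, Subgroup.mem_map_of_mem pg (X.mul_mem htX (hRX hw))⟩) ((hN _).2 hζN)
    (fun h => hζW (Subgroup.mem_subgroupOf.1 h)) (Subtype.ext hζ2)
    (s := ⟨pg s, hWH ⟨s, hs, rfl⟩⟩) (v := ⟨pg v, hWH ⟨v, hv, rfl⟩⟩)
    (Subgroup.mem_subgroupOf.2 ⟨s, hs, rfl⟩) (fun e => hs1 (congrArg Subtype.val e))
    (Subgroup.mem_subgroupOf.2 ⟨v, hv, rfl⟩) (fun e => hv1 (congrArg Subtype.val e))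
    (Subtype.ext (hfix s hs (bt_self s))) (Subtype.ext (hfix v hv hsv)) hsep
    ⟨pg g, Subgroup.mem_map_of_mem pg hg⟩
  exact hC.mem_normalizer_of_pg ((hN _).1 key)

end CfsgLib.CliffMax93
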