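import Cfsg.Agent.Lib.CliffMax93.Gate

/-!
The gate theorem.
-/

set_option autoImplicit false
set_option linter.unusedSectionVars false

namespace CfsgLib.CliffMax93

open Cfsg Cfsg.Geo Matrix
open scoped MatrixGroups

variable {ι : Type} [Fintype ι] [DecidableEq ι] {F : Type*} [Field F] {R : Subgroup (GL ι F)} {i : F}
  {X : Subgroup (GL ι F)} [Finite F]

theorem Pr_of_neg {a a' : GL ι F} (h : mt a' = -mt a) : Pr a' = Pm a := by
  unfold Pr Pm; rw [h, sub_eq_add_neg]

theorem scalar_smul_mem (hC : Cliff R i) {r : GL ι F} {c : F} (hr : r ∈ R) (hc : c ^ 4 = 1) :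
    ∃ e ∈ R, mt e = c • mt r ∧ pg e = pg r := by
  have hc0 : c ≠ 0 := fun h => by rw [h] at hc; simp at hc
  let z : GL ι F := ⟨c • 1, c⁻¹ • 1, by rw [smul_mul_smul_comm, mul_inv_cancel₀ hc0, one_smul, one_mul],
    by rw [smul_mul_smul_comm, inv_mul_cancel₀ hc0, one_smul, one_mul]⟩
  refine ⟨z * r, R.mul_mem (hC.root_mem hc rfl) hr, ?_, ?_⟩
  · simp only [mt, Units.val_mul, z, smul_mul_assoc, one_mul]
  · exact (pg_eq_iff _ _).2 ⟨c, by simp only [mt, Units.val_mul, z, smul_mul_assoc, one_mul]⟩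

theorem exists_neg (hC : Cliff R i) {a : GL ι F} (ha : a ∈ R) : ∃ a' ∈ R, mt a' = -mt a ∧ pg a' = pg a := by
  obtain ⟨e, he, h1, h2⟩ := scalar_smul_mem hC ha (c := (-1 : F)) (by ring)
  exact ⟨e, he, by rw [h1, neg_one_smul], h2⟩

/-- The projection of a square to a fixed space. -/
theorem sq_scalar_eq (hC : Cliff R i) {a : GL ι F} (ha : a ∈ R) (ha1 : pg a ≠ 1) {c d : F}
    (h : c • Pr a = d • Pr a) : c = d := by
  by_contra hne
  have h2 : (c - d) • Pr a = 0 := by rw [sub_smul, h, sub_self]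
  exact Pr_ne_zero hC ha ha1 ((smul_eq_zero.1 h2).resolve_left (sub_ne_zero.2 hne))

theorem exists_good (hC : Cliff R i) (hbig : 64 ≤ Nat.card (Wbar R)) (hT : HasT R i X) (hRX : R ≤ X) {a x : GL ι F}
    (ha : a ∈ R) (ha1 : pg a ≠ 1) (ha2 : mt a * mt a = 1) (hx : x ∈ X) (hxa : x * a = a * x)
    (hxN : x ∉ Subgroup.normalizer (R : Set (GL ι F))) : ∃ a' x', Good R X a' x' := by
  classical
  haveI : Finite (PG ι F) := Quotient.finite _
  have := hC.nonempty
  by_contra hno
  push Not at hno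
  have hxac : Commute x a := hxa
  obtain ⟨a', ha', hneg, hpga'⟩ := exists_neg hC ha
  have ha'1 : pg a' ≠ 1 := hpga' ▸ ha1
  have ha'2 : mt a' * mt a' = 1 := by rw [hneg, neg_mul_neg, ha2]
  have hca : ∀ g : GL ι F, g * a' = a' * g ↔ g * a = a * g := fun g => by
    simp only [Units.ext_iff, Units.val_mul]
    rw [show (a' : Matrix ι ι F) = -(a : Matrix ι ι F) from hneg, mul_neg, neg_mul, neg_inj]
  -- the two components
  have hcomp : ∀ τ ∈ R, τ * a = a * τ → mt τ * mt τ = 1 →
      ∃ σ σ' : GL ι F, σ ∈ R ∧ σ' ∈ R ∧ σ * a = a * σ ∧ σ' * a = a * σ' ∧ mt σ * mt σ = 1 ∧ mt σ' * mt σ' = 1 ∧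
        mt (x * τ * x⁻¹) = mt σ * Pr a + mt σ' * Pm a := by
    intro τ hτ hτa hτ2
    set y := x * τ * x⁻¹ with hy
    have hya : y * a = a * y :=
      (hxac.mul_left (show Commute τ a from hτa)).mul_left hxac.inv_left
    have hy2 : mt y * mt y = 1 := by
      rw [← Units.val_mul, hy, show x * τ * x⁻¹ * (x * τ * x⁻¹) = x * (τ * τ) * x⁻¹ by group,
        show τ * τ = 1 from Units.ext (by rw [Units.val_mul]; exact hτ2), mul_one, mul_inv_cancel, Units.val_one]
    have hone : ∀ e, e ∈ R → pg e ≠ 1 → mt e * mt e = 1 → (∀ g, g * e = e * g ↔ g * a = a * g) →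
        ∃ σ ∈ R, σ * a = a * σ ∧ mt σ * mt σ = 1 ∧ mt y * Pr e = mt σ * Pr e := by
      intro e he he1 he2 hce
      have hng := hno e x
      rw [Good] at hng
      push Not at hng
      obtain ⟨r', hr', hr'e, c, hc⟩ := hng he he1 he2 hx ((hce x).2 hxa) τ hτ ((hce τ).2 hτa)
      have hye := (hce y).2 hya
      have hc2 : (c * c) • (mt r' * mt r' * Pr e) = Pr e := by
        calc (c * c) • (mt r' * mt r' * Pr e) = c • (mt r' * (c • (mt r' * Pr e))) := by
              rw [mul_smul_comm, smul_smul, mul_assoc (mt r')]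
          _ = c • (mt r' * (mt y * Pr e)) := by rw [← hc]
          _ = c • (mt r' * (Pr e * mt y)) := by rw [Pr_comm hye]
          _ = mt y * Pr e * mt y := by rw [hc, smul_mul_assoc, mul_assoc (mt r')]
          _ = mt y * mt y * Pr e := by rw [mul_assoc, ← Pr_comm hye, ← mul_assoc]
          _ = Pr e := by rw [hy2, one_mul]
      have hcc : c ^ 4 = 1 := by
        rcases hC.sq r' hr' with h | h <;> rw [h] at hc2
        · rw [one_mul] at hc2
          have h3 := sq_scalar_eq hC he he1 (c := c * c) (d := 1) (by rw [one_smul]; exact hc2)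
          linear_combination (c * c + 1) * h3
        · rw [neg_mul, one_mul, smul_neg, ← neg_smul] at hc2
          have h3 := sq_scalar_eq hC he he1 (c := -(c * c)) (d := 1) (by rw [one_smul]; exact hc2)
          linear_combination (-(c * c) + 1) * h3
      obtain ⟨σ, hσ, hσv, hσpg⟩ := scalar_smul_mem hC hr' hcc
      refine ⟨σ, hσ, (bt_comm_iff hC σ a).1 ?_, ?_, by rw [hc, hσv, smul_mul_assoc]⟩
      · rw [hC.bt_congr hσ hr' ha ha hσpg rfl]
        exact (bt_comm_iff hC r' a).2 ((hce r').1 hr'e)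
      · rcases hC.sq σ hσ with h | h
        · exact h
        · exfalso
          rw [hσv, smul_mul_smul_comm] at h
          rw [← smul_mul_assoc, h, neg_one_mul] at hc2
          have := sq_scalar_eq hC he he1 (c := (-1 : F)) (d := 1) (by rw [one_smul, neg_one_smul]; exact hc2)
          exact hC.neg_one_ne_one this
    obtain ⟨σ, hσ, hσa, hσ2, hσy⟩ := hone a ha ha1 ha2 fun g => Iff.rfl
    obtain ⟨σ', hσ', hσ'a, hσ'2, hσ'y⟩ := hone a' ha' ha'1 ha'2 hca
    refine ⟨σ, σ', hσ, hσ', hσa, hσ'a, hσ2, hσ'2, ?_⟩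
    rw [← mul_one (mt y), ← Pr_add_Pm hC a, mul_add, hσy, ← Pr_of_neg hneg, hσ'y]
  by_cases hnorm : ∀ τ ∈ R, τ * a = a * τ → x * τ * x⁻¹ ∈ R
  · -- the centraliser part is normalised
    obtain ⟨b₀, hb₀, hb₀a⟩ := hC.exists_anti ha1
    obtain ⟨b, hb, hbb, hb2⟩ := hC.exists_lift_one hb₀
    have hab : bt a b = -1 := by rw [hC.bt_congr ha ha hb hb₀ rfl hbb]; exact hb₀a
    set b' := x * b * x⁻¹ with hb'
    have hb'R : b' ∉ R := by
      intro hin
      refine hxN (mem_normalizer_of_conj fun r hr => ?_)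
      rcases bt_pm a r with h | h
      · exact hnorm r hr ((bt_comm_iff hC a r).1 h).symm
      · have h2 := hnorm (b⁻¹ * r) (R.mul_mem (R.inv_mem hb) hr) (by
          refine ((bt_comm_iff hC a _).1 ?_).symm
          rw [hC.bt_congr ha ha (R.mul_mem (R.inv_mem hb) hr) (R.mul_mem hb hr) rfl (by
            rw [map_mul, map_mul, map_inv, inv_eq_of_mul_eq_one_right (hC.pg_sq hb)]),
            bt_mul_right hC hb hr ha, hab, h, neg_mul_neg, one_mul])
        rw [show x * r * x⁻¹ = x * b * x⁻¹ * (x * (b⁻¹ * r) * x⁻¹) by group]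
        exact R.mul_mem hin h2
    have hb'2 : mt b' * mt b' = 1 := by
      rw [← Units.val_mul, hb', show x * b * x⁻¹ * (x * b * x⁻¹) = x * (b * b) * x⁻¹ by group,
        show b * b = 1 from Units.ext (by rw [Units.val_mul]; exact hb2), mul_one, mul_inv_cancel, Units.val_one]
    have hxa' : x * a * x⁻¹ = a := by rw [hxa, mul_inv_cancel_right]
    have hab' : mt a * mt b' = -(mt b' * mt a) := by
      have e := hC.mul_bt ha hb
      rw [hab, neg_one_smul] at e
      have e' := congrArg (fun M => mt x * M * ((x⁻¹ : GL ι F) : Matrix ι ι F)) e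
      have key : ∀ p q : GL ι F, mt x * (mt p * mt q) * ((x⁻¹ : GL ι F) : Matrix ι ι F) =
          mt (x * p * x⁻¹) * mt (x * q * x⁻¹) := fun p q => by
        rw [← Units.val_mul, ← mt_conj, ← Units.val_mul]; congr 1; group
      simp only [mul_neg, neg_mul, key, hxa'] at e'
      exact e'
    -- signs of `b'` on the centraliser
    have hsign : ∀ r ∈ R, r * a = a * r → r * b' = b' * r ∨ mt r * mt b' = -(mt b' * mt r) := by
      haveI : Finite R := Subtype.finite
      let S : Set (GL ι F) := {r | r ∈ R ∧ r * a = a * r}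
      have hmap : ∀ r ∈ S, x * r * x⁻¹ ∈ S := fun r hr => ⟨hnorm r hr.1 hr.2,
        (hxac.mul_left (show Commute r a from hr.2)).mul_left hxac.inv_left⟩
      intro r hr hra
      let f : S → S := fun q => ⟨x * q.1 * x⁻¹, hmap q.1 q.2⟩
      have hf : Function.Injective f := fun p q e => Subtype.ext (by simpa [f] using congrArg Subtype.val e)
      obtain ⟨⟨q, hq⟩, hqe⟩ := Finite.surjective_of_injective hf ⟨r, hr, hra⟩
      have hqe' : x * q * x⁻¹ = r := congrArg Subtype.val hqe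
      subst hqe'
      rcases hC.comm q hq.1 b hb with e | e
      · left; rw [hb', show x * q * x⁻¹ * (x * b * x⁻¹) = x * (q * b) * x⁻¹ by group, e]; group
      · right
        have key : ∀ p q : GL ι F, mt (x * p * x⁻¹) * mt (x * q * x⁻¹) =
            mt x * (mt p * mt q) * ((x⁻¹ : GL ι F) : Matrix ι ι F) := fun p q => by
          rw [← Units.val_mul, ← Units.val_mul, ← mt_conj]; congr 1; group
        rw [hb', key, key, e, mul_neg, neg_mul]
    -- a new centre commuting with b'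
    obtain ⟨x₁, hx₁, hx₁o, hx₁a⟩ := exists_outside hC (Subgroup.zpowers (pg a))
      (by rw [Subgroup.zpowers_le]; exact ⟨a, ha, rfl⟩) (by
        rw [Nat.card_zpowers, orderOf_eq_prime (by rw [pow_two, hC.pg_sq ha]) ha1]; omega) ha
    obtain ⟨s₀, hs₀, hs₀o, hs₀a, hs₀b⟩ : ∃ s₀ ∈ R, pg s₀ ∉ Subgroup.zpowers (pg a) ∧ bt a s₀ = 1 ∧ s₀ * b' = b' * s₀ := by
      have c₁ : x₁ * a = a * x₁ := ((bt_comm_iff hC a x₁).1 hx₁a).symm
      rcases hsign x₁ hx₁ c₁ with e | e
      · exact ⟨x₁, hx₁, hx₁o, hx₁a, e⟩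
      have hA2 := hC.pg_sq ha
      have hX2 := hC.pg_sq hx₁
      have hAX := hC.pg_comm ha hx₁
      let H : Subgroup (PG ι F) := Subgroup.zpowers (pg a) ⊔ Subgroup.zpowers (pg x₁)
      obtain ⟨x₂, hx₂, hx₂o, hx₂a⟩ := exists_outside hC H (sup_le (by rw [Subgroup.zpowers_le]; exact ⟨a, ha, rfl⟩)
          (by rw [Subgroup.zpowers_le]; exact ⟨x₁, hx₁, rfl⟩)) (by
        have hH : (H : Set (PG ι F)) ⊆ ({1, pg a, pg x₁, pg a * pg x₁} : Set (PG ι F)) := by
          let K : Subgroup (PG ι F) :=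
            { carrier := {1, pg a, pg x₁, pg a * pg x₁}
              one_mem' := Or.inl rfl
              inv_mem' := by
                intro w hw
                have hw2 : w⁻¹ = w := by
                  rcases hw with rfl | rfl | rfl | rfl
                  · exact inv_one
                  · exact inv_eq_of_mul_eq_one_right hA2
                  · exact inv_eq_of_mul_eq_one_right hX2
                  · rw [_root_.mul_inv_rev, inv_eq_of_mul_eq_one_right hX2, inv_eq_of_mul_eq_one_right hA2, hAX]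
                rw [hw2]; exact hw
              mul_mem' := by
                intro w w' hw hw'
                have h1 : pg x₁ * pg a = pg a * pg x₁ := hAX.symm
                have h2 : pg a * (pg a * pg x₁) = pg x₁ := by rw [← mul_assoc, hA2, one_mul]
                have h3 : pg x₁ * (pg a * pg x₁) = pg a := by rw [← mul_assoc, h1, mul_assoc, hX2, mul_one]
                have h4 : pg a * pg x₁ * pg a = pg x₁ := by rw [mul_assoc, h1, h2]
                have h5 : pg a * pg x₁ * pg x₁ = pg a := by rw [mul_assoc, hX2, mul_one]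
                have h6 : pg a * pg x₁ * (pg a * pg x₁) = 1 := by rw [← mul_assoc, h4, hX2]
                rcases hw with rfl | rfl | rfl | rfl <;> rcases hw' with rfl | rfl | rfl | rfl <;>
                  simp only [one_mul, mul_one, hA2, hX2, h1, h2, h3, h4, h5, h6, Set.mem_insert_iff,
                    Set.mem_singleton_iff, true_or, or_true] }
          exact show H ≤ K from sup_le (by rw [Subgroup.zpowers_le]; exact Or.inr (Or.inl rfl))
            (by rw [Subgroup.zpowers_le]; exact Or.inr (Or.inr (Or.inl rfl)))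
        have h4 : Nat.card H ≤ 4 := by
          have := Set.ncard_le_ncard hH (Set.toFinite _)
          rw [← Nat.card_coe_set_eq, SetLike.coe_sort_coe] at this
          refine this.trans ((Set.ncard_insert_le _ _).trans ?_)
          refine Nat.succ_le_succ ((Set.ncard_insert_le _ _).trans ?_)
          refine Nat.succ_le_succ ((Set.ncard_insert_le _ _).trans ?_)
          rw [Set.ncard_singleton]
        omega) ha
      have c₂ : x₂ * a = a * x₂ := ((bt_comm_iff hC a x₂).1 hx₂a).symm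
      rcases hsign x₂ hx₂ c₂ with e' | e'
      · exact ⟨x₂, hx₂, fun h => hx₂o (Subgroup.mem_sup_left h), hx₂a, e'⟩
      · refine ⟨x₁ * x₂, R.mul_mem hx₁ hx₂, fun h => hx₂o ?_, by
          rw [bt_mul_right hC hx₁ hx₂ ha, hx₁a, hx₂a, one_mul], ?_⟩
        · have h2 : pg x₁ * pg (x₁ * x₂) ∈ H :=
            H.mul_mem (Subgroup.mem_sup_right (Subgroup.mem_zpowers _)) (Subgroup.mem_sup_left h)
          rwa [map_mul, ← mul_assoc, hX2, one_mul] at h2
        · apply Units.ext
          simp only [Units.val_mul]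
          change mt x₁ * mt x₂ * mt b' = mt b' * (mt x₁ * mt x₂)
          rw [mul_assoc, e', mul_neg, ← mul_assoc, e, neg_mul, neg_neg, mul_assoc]
    obtain ⟨s, hs, hss, hs2⟩ := hC.exists_lift_one hs₀
    have hs1 : pg s ≠ 1 := fun e => hs₀o (by rw [← hss, e]; exact one_mem _)
    have hsa : pg s ≠ pg a := fun e => hs₀o (by rw [← hss, e]; exact Subgroup.mem_zpowers _)
    have hsac : s * a = a * s := ((bt_comm_iff hC a s).1 (by rw [hC.bt_congr ha ha hs hs₀ rfl hss]; exact hs₀a)).symm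
    have hsb : s * b' = b' * s := by
      obtain ⟨c, hc⟩ := (pg_eq_iff s s₀).1 hss
      apply Units.ext
      rw [Units.val_mul, Units.val_mul]
      change mt s * mt b' = mt b' * mt s
      rw [hc, smul_mul_assoc, comm_mt hs₀b, mul_smul_comm]
    have hbb1 : pg b ≠ 1 := fun e => hC.neg_one_ne_one (by
      rw [← hab, hC.bt_congr ha ha hb R.one_mem rfl (by rw [e, map_one])]; simp [bt])
    obtain ⟨t, htX, htb⟩ := hT b hb hbb1 hb2
    set t' := x * t * x⁻¹ with ht'
    have htb' : IsT i t' b' := htb.conj x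
    have ht'X : t' ∈ X := X.mul_mem (X.mul_mem hx htX) (X.inv_mem hx)
    have ht's : t' * s = s * t' := (htb'.comm hsb).symm
    refine hno s t' ⟨hs, hs1, hs2, ht'X, ht's, a, ha, hsac.symm, fun r' hr' hr's c hc => ?_⟩
    have hba' : mt b' * mt a = -(mt a * mt b') := by rw [hab', neg_neg]
    rw [htb'.conj_anti hC hb'2 hba'] at hc
    have eS : Pr s * Pr a = Pr a * Pr s := by
      unfold Pr
      rw [smul_mul_smul_comm, smul_mul_smul_comm]
      simp only [add_mul, mul_add, one_mul, mul_one, comm_mt hsac]; abel_nf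
    have hPs : Pr a * Pr s ≠ 0 := Pr_mul_Pr_ne_zero hC ha ha1 hs hs1 hsa
    rcases hC.comm r' hr' a ha with hra | hra
    · have h1 := congrArg (fun M => Pr a * (M * Pr a)) hc
      have L : Pr a * ((i • (mt a * mt b')) * Pr s * Pr a) = 0 := by
        rw [smul_mul_assoc, smul_mul_assoc, mul_smul_comm, mul_assoc (mt a * mt b'), eS, mul_assoc (mt a),
          ← mul_assoc (mt b'), Pr_anti hab', mul_assoc (Pm a), ← mul_assoc (mt a),
          ← mul_assoc (Pr a) (mt a * Pm a), ← mul_assoc (Pr a) (mt a) (Pm a), ← Pr_comm (rfl : a * a = a * a),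
          mul_assoc (mt a), Pr_mul_Pm ha2, mul_zero, zero_mul, smul_zero]
      have Rv : Pr a * (c • (mt r' * Pr s) * Pr a) = c • (mt r' * (Pr a * Pr s)) := by
        rw [smul_mul_assoc, mul_smul_comm, mul_assoc (mt r'), eS, ← mul_assoc (Pr a) (mt r'), ← Pr_comm hra,
          mul_assoc (mt r'), ← mul_assoc (Pr a) (Pr a), Pr_mul_Pr hC ha2]
      rw [show Pr a * ((i • (mt a * mt b')) * Pr s * Pr a) = Pr a * (c • (mt r' * Pr s) * Pr a) from h1, Rv] at L
      replace h1 : (0 : Matrix ι ι F) = c • (mt r' * (Pr a * Pr s)) := L.symm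
      rcases smul_eq_zero.1 h1.symm with hc0 | h0
      · rw [hc0, zero_smul, smul_mul_assoc] at hc
        have h3 := (smul_eq_zero.1 hc).resolve_left hC.i_ne_zero
        exact Pr_ne_zero hC hs hs1 (by
          have := congrArg (fun M => ((b'⁻¹ : GL ι F) : Matrix ι ι F) * (((a⁻¹ : GL ι F) : Matrix ι ι F) * M)) h3
          simpa [← mul_assoc] using this)
      · exact hPs (by
          have := congrArg (fun M => ((r'⁻¹ : GL ι F) : Matrix ι ι F) * M) h0
          simpa [← mul_assoc] using this)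
    · set r'' := a * r' with hr''
      have hr''R : r'' ∈ R := R.mul_mem ha hr'
      have hb's : mt b' * Pr s = (i⁻¹ * c) • (mt r'' * Pr s) := by
        have h1 : mt a * mt b' * Pr s = (i⁻¹ * c) • (mt r' * Pr s) := by
          rw [smul_mul_assoc] at hc
          rw [mul_smul, ← hc, smul_smul, inv_mul_cancel₀ hC.i_ne_zero, one_smul]
        have h2 := congrArg (fun M => mt a * M) h1
        simp only [← mul_assoc, ha2, one_mul, mul_smul_comm] at h2
        rw [h2, hr'', show mt (a * r') = mt a * mt r' from Units.val_mul a r']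
      set k := r''⁻¹ * b' with hk
      have hkP : mt k * Pr s = (i⁻¹ * c) • Pr s := by
        rw [hk, show mt (r''⁻¹ * b') = ((r''⁻¹ : GL ι F) : Matrix ι ι F) * mt b' from Units.val_mul _ _, mul_assoc, hb's,
          mul_smul_comm, ← mul_assoc, Units.inv_mul, one_mul]
      obtain ⟨v₀, hv₀, hv₀a, hv₀s⟩ := exists_signs hC ha hs hs1 hsa
      have hv₀ac : v₀ * a = a * v₀ := ((bt_comm_iff hC a v₀).1 hv₀a).symm
      obtain ⟨ε, hε2, hεk⟩ : ∃ ε : F, ε * ε = 1 ∧ mt k * mt v₀ = ε • (mt v₀ * mt k) := by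
        obtain ⟨e₁, he₁, hv₀b⟩ : ∃ e : F, e * e = 1 ∧ mt b' * mt v₀ = e • (mt v₀ * mt b') := by
          rcases hsign v₀ hv₀ hv₀ac with e | e
          · exact ⟨1, one_mul 1, by rw [one_smul, comm_mt e]⟩
          · exact ⟨-1, by ring, by rw [neg_one_smul, e, neg_neg]⟩
        refine ⟨bt r''⁻¹ v₀ * e₁, by rw [mul_mul_mul_comm, bt_sq, he₁, one_mul], ?_⟩
        rw [hk, show mt (r''⁻¹ * b') = ((r''⁻¹ : GL ι F) : Matrix ι ι F) * mt b' from Units.val_mul _ _, mul_assoc, hv₀b,
          mul_smul_comm, ← mul_assoc, show ((r''⁻¹ : GL ι F) : Matrix ι ι F) * mt v₀ = _ from hC.mul_bt (R.inv_mem hr''R) hv₀,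
          smul_mul_assoc, smul_smul, mul_assoc, mul_comm e₁]
      have hvs : mt s * mt v₀ = -(mt v₀ * mt s) := by
        have := hC.mul_bt hs hv₀; rwa [hv₀s, neg_one_smul] at this
      have hvP : mt v₀ * Pr s = Pm s * mt v₀ := Pr_anti hvs
      have hkM : mt k * Pm s = (ε * (i⁻¹ * c)) • Pm s := by
        have h1 : mt k * (mt v₀ * Pr s) = (ε * (i⁻¹ * c)) • (mt v₀ * Pr s) := by
          rw [← mul_assoc, hεk, smul_mul_assoc, mul_assoc, hkP, mul_smul_comm, smul_smul]
        rw [hvP] at h1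
        have h2 := congrArg (fun M => M * ((v₀⁻¹ : GL ι F) : Matrix ι ι F)) h1
        simpa only [smul_mul_assoc, mul_assoc, Units.mul_inv, mul_one] using h2
      have hksum : mt k = (i⁻¹ * c) • Pr s + (ε * (i⁻¹ * c)) • Pm s := by
        rw [← hkP, ← hkM, ← mul_add, Pr_add_Pm hC, mul_one]
      have hkW : pg k ∈ Wbar R := by
        rcases mul_self_eq_one_iff.1 hε2 with rfl | rfl
        · rw [one_mul, ← smul_add, Pr_add_Pm hC] at hksum
          rw [(pg_eq_one_iff k).2 ⟨_, hksum⟩]; exact one_mem _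
        · refine ⟨s, hs, ((pg_eq_iff k s).2 ⟨i⁻¹ * c, ?_⟩).symm⟩
          rw [hksum, neg_mul, one_mul, neg_smul, ← sub_eq_add_neg, ← smul_sub]
          congr 1
          unfold Pr Pm
          rw [← smul_sub, show (1 + mt s) - (1 - mt s) = (2 : F) • mt s by rw [two_smul]; abel, smul_smul, one_div,
            inv_mul_cancel₀ hC.two, one_smul]
      obtain ⟨r, hr, hrk⟩ := hkW
      refine hb'R (hC.mem_of_pg_eq (R.mul_mem hr''R hr) ?_ (Or.inl hb'2))
      rw [map_mul pg r'' r, hrk, hk, map_mul pg r''⁻¹ b', map_inv, mul_inv_cancel_left]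
  · push Not at hnorm
    obtain ⟨τ₀, hτ₀, hτ₀a, hout⟩ := hnorm
    obtain ⟨τ, hτ, hττ, hτ2⟩ := hC.exists_lift_one hτ₀
    have hτa : τ * a = a * τ := (bt_comm_iff hC τ a).1 (by
      rw [hC.bt_congr hτ hτ₀ ha ha hττ rfl]; exact (bt_comm_iff hC τ₀ a).2 hτ₀a)
    have hτout : x * τ * x⁻¹ ∉ R := by
      intro h
      refine hout (hC.mem_of_pg_eq h (by rw [map_mul, map_mul, map_mul, map_mul, hττ]) ?_)
      exact hC.lift_mem_sq hτ₀
    obtain ⟨σ, σ', hσ, hσ', hσa, hσ'a, hσ2, hσ'2, hy⟩ := hcomp τ hτ hτa hτ2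
    have hy2 : mt (x * τ * x⁻¹) * mt (x * τ * x⁻¹) = 1 := by
      rw [← Units.val_mul, show x * τ * x⁻¹ * (x * τ * x⁻¹) = x * (τ * τ) * x⁻¹ by group,
        show τ * τ = 1 from Units.ext (by rw [Units.val_mul]; exact hτ2), mul_one, mul_inv_cancel, Units.val_one]
    have hPm0 : Pm a ≠ 0 := Pr_of_neg hneg ▸ Pr_ne_zero hC ha' ha'1
    -- the components differ
    have hdiff : pg σ' ≠ pg σ ∧ pg σ' ≠ pg σ * pg a := by
      have hmem : ∀ ρ ∈ R, ρ * a = a * ρ → (∃ d : F, mt σ' * Pm a = d • (mt ρ * Pm a)) → mt σ * Pr a = mt ρ * Pr a →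
          mt ρ * mt ρ = 1 → False := by
        rintro ρ hρ hρa ⟨d, hd⟩ hρ1 hρ2
        have hd2 : d = 1 ∨ d = -1 := by
          refine mul_self_eq_one_iff.1 (sq_scalar_eq hC ha' ha'1 (c := d * d) (d := 1) ?_)
          rw [Pr_of_neg hneg, one_smul]
          have hσP := Pr_comm ((hca σ').2 hσ'a)
          have hρP := Pr_comm ((hca ρ).2 hρa)
          rw [Pr_of_neg hneg] at hσP hρP
          calc (d * d) • Pm a = (d * d) • (mt ρ * mt ρ * Pm a) := by rw [hρ2, one_mul]
            _ = d • (mt ρ * (d • (mt ρ * Pm a))) := by rw [mul_smul_comm, smul_smul, mul_assoc]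
            _ = d • (mt ρ * (Pm a * mt σ')) := by rw [← hd, hσP]
            _ = mt σ' * Pm a * mt σ' := by rw [hd, smul_mul_assoc, mul_assoc (mt ρ)]
            _ = mt σ' * mt σ' * Pm a := by rw [mul_assoc, ← hσP, ← mul_assoc]
            _ = Pm a := by rw [hσ'2, one_mul]
        rcases hd2 with rfl | rfl
        · rw [one_smul] at hd
          rw [hd, hρ1, ← mul_add, Pr_add_Pm hC, mul_one] at hy
          exact hτout (by rw [show x * τ * x⁻¹ = ρ from Units.ext hy]; exact hρ)
        · rw [hρ1, hd, neg_one_smul] at hy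
          have hy' : mt (x * τ * x⁻¹) = mt (ρ * a) := by
            rw [hy, show mt (ρ * a) = mt ρ * mt a from Units.val_mul ρ a, ← mul_neg, ← mul_add]
            congr 1
            unfold Pr Pm
            rw [← sub_eq_add_neg, ← smul_sub, show (1 + mt a) - (1 - mt a) = (2 : F) • mt a by rw [two_smul]; abel,
              smul_smul, one_div, inv_mul_cancel₀ hC.two, one_smul]
          exact hτout (by rw [show x * τ * x⁻¹ = ρ * a from Units.ext hy']; exact R.mul_mem hρ ha)
      refine ⟨fun e => ?_, fun e => ?_⟩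
      · obtain ⟨d, hd⟩ := (pg_eq_iff σ' σ).1 e
        exact hmem σ hσ hσa ⟨d, by rw [hd, smul_mul_assoc]⟩ rfl hσ2
      · rw [← map_mul] at e
        obtain ⟨d, hd⟩ := (pg_eq_iff σ' (σ * a)).1 e
        refine hmem σ hσ hσa ⟨-d, ?_⟩ rfl hσ2
        rw [hd, smul_mul_assoc, show mt (σ * a) = mt σ * mt a from Units.val_mul σ a, mul_assoc, neg_smul, ← smul_neg,
          ← mul_neg]
        congr 2
        unfold Pm
        rw [mul_smul_comm, mul_sub, mul_one, ha2, ← smul_neg, neg_sub]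
    obtain ⟨hd, hd'⟩ := hdiff
    have hτ1 : pg τ ≠ 1 := fun e => hτout (by
      obtain ⟨c, hc⟩ := (pg_eq_one_iff τ).1 e
      rw [show x * τ * x⁻¹ = τ by
        rw [show x * τ = τ * x from Units.ext (by
          rw [Units.val_mul, Units.val_mul _ x, show (τ : Matrix ι ι F) = _ from hc]; simp), mul_inv_cancel_right]]
      exact hτ)
    have hτne : pg τ ≠ pg a := fun e => hτout (by
      obtain ⟨c, hc⟩ := (pg_eq_iff τ a).1 e
      rw [show x * τ * x⁻¹ = τ by
        rw [show x * τ = τ * x from Units.ext (by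
          rw [Units.val_mul, Units.val_mul _ x, show (τ : Matrix ι ι F) = _ from hc, mul_smul_comm, smul_mul_assoc,
            ← Units.val_mul, hxa, Units.val_mul]), mul_inv_cancel_right]]
      exact hτ)
    have hback : ∀ e, e ∈ R → pg e ≠ 1 → e * a = a * e → x * e = e * x → ∀ ρ ∈ R, (pg ρ = 1 ∨ pg ρ = pg e) →
        mt e * mt e = 1 → mt (x * τ * x⁻¹) * Pr e = mt ρ * Pr e → τ * e = e * τ → pg τ = 1 ∨ pg τ = pg e := by
      intro e he he1 hea hxe ρ hρ hρe he2 hyP hτe
      obtain ⟨d, hd⟩ : ∃ d : F, mt ρ * Pr e = d • Pr e := by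
        rcases hρe with h | h
        · obtain ⟨c, hc⟩ := (pg_eq_one_iff ρ).1 h
          exact ⟨c, by rw [hc, smul_mul_assoc, one_mul]⟩
        · obtain ⟨c, hc⟩ := (pg_eq_iff ρ e).1 h
          refine ⟨c, ?_⟩
          rw [hc, smul_mul_assoc]
          congr 1
          unfold Pr
          rw [mul_smul_comm, mul_add, mul_one, he2, add_comm]
      refine pg_of_mul_Pr hC he hτ he1 hτe (c := d) ?_
      rw [hd] at hyP
      have hxP := Pr_comm hxe
      have hxP' := Pr_comm (show x⁻¹ * e = e * x⁻¹ from (show Commute x e from hxe).inv_left)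
      calc mt τ * Pr e = ((x⁻¹ : GL ι F) : Matrix ι ι F) * (mt (x * τ * x⁻¹) * Pr e) * mt x := by
            rw [mt_conj, mul_assoc (mt x * mt τ), show ((x⁻¹ : GL ι F) : Matrix ι ι F) * Pr e = _ from hxP']
            simp only [mul_assoc, Units.inv_mul, mul_one]
            simp only [← mul_assoc, Units.inv_mul, one_mul]
        _ = d • Pr e := by
            rw [hyP, mul_smul_comm, smul_mul_assoc, show ((x⁻¹ : GL ι F) : Matrix ι ι F) * Pr e = _ from hxP', mul_assoc,
              Units.inv_mul, mul_one]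
    have hyR : mt (x * τ * x⁻¹) * Pr a = mt σ * Pr a := by
      rw [hy, add_mul, mul_assoc, Pr_mul_Pr hC ha2, mul_assoc, Pm_mul_Pr ha2, mul_zero, add_zero]
    have hyM : mt (x * τ * x⁻¹) * Pr a' = mt σ' * Pr a' := by
      rw [Pr_of_neg hneg, hy, add_mul, mul_assoc, Pr_mul_Pm ha2, mul_zero, zero_add, mul_assoc]
      congr 1
      rw [← Pr_of_neg hneg, Pr_mul_Pr hC ha'2]
    have hbadσ : ¬ (pg σ = 1 ∨ pg σ = pg a) := fun h =>
      (hback a ha ha1 rfl hxa σ hσ h ha2 hyR hτa).elim hτ1 hτne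
    have hbadσ' : ¬ (pg σ' = 1 ∨ pg σ' = pg a) := fun h =>
      (hback a' ha' ha'1 ((hca a').1 rfl) ((hca x).2 hxa) σ' hσ' (by rw [hpga']; exact h) ha'2 hyM
        ((hca τ).2 hτa)).elim hτ1 (hpga' ▸ hτne)
    push Not at hbadσ hbadσ'
    obtain ⟨t₁, ht₁, htσ⟩ := hT σ hσ hbadσ.1 hσ2
    obtain ⟨t₂, ht₂, htσ'⟩ := hT σ' hσ' hbadσ'.1 hσ'2
    obtain ⟨t₀, ht₀, htτ⟩ := hT τ hτ hτ1 hτ2
    have hX : t₁⁻¹ * (x * t₀ * x⁻¹) ∈ X := X.mul_mem (X.inv_mem ht₁) (X.mul_mem (X.mul_mem hx ht₀) (X.inv_mem hx))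
    obtain ⟨a'', x'', h⟩ := good_of_two hC hbig hRX ha ha1 ha2 hσ hσ' hσa hσ'a hσ2 hσ'2 hbadσ.1 hbadσ'.1 hbadσ.2
      hbadσ'.2 hd hd' htσ htσ' hX (by
        have e1 : mt (x * t₀ * x⁻¹) = mt t₁ * Pr a + mt t₂ * Pm a := by
          have h0 := htτ.conj x
          rw [IsT] at h0
          rw [h0, hy, show mt t₁ = _ from htσ, show mt t₂ = _ from htσ', Tm, Tm, Tm, smul_add, add_mul, add_mul,
            smul_mul_assoc, smul_mul_assoc, smul_mul_assoc, smul_mul_assoc, one_mul, one_mul]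
          conv_lhs => rw [← Pr_add_Pm hC a, smul_add]
          abel
        show ((t₁⁻¹ * (x * t₀ * x⁻¹) : GL ι F) : Matrix ι ι F) = _
        rw [Units.val_mul, show ((x * t₀ * x⁻¹ : GL ι F) : Matrix ι ι F) = _ from e1, mul_add, ← mul_assoc, Units.inv_mul,
          one_mul, ← mul_assoc, show mt (t₁⁻¹ * t₂) = _ from Units.val_mul _ _])
    exact hno a'' x'' h

end CfsgLib.CliffMax93
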