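import Cfsg.Agent.Lib.CliffMax93.Control

/-!
The normaliser of a Clifford-type group in dimension four is generated by the group, scalars and transvection lifts.
-/

set_option autoImplicit false
set_option linter.unusedSectionVars false

namespace CfsgLib.CliffMax93

open Cfsg Cfsg.Geo Matrix
open scoped MatrixGroups

variable {ι : Type} [Fintype ι] [DecidableEq ι] {F : Type*} [Field F] {R Y : Subgroup (GL ι F)} {i : F}

/-- Moving along an anticommuting pair fixes what has equal signs on both. -/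
theorem move_fix [Finite F] (hC : Cliff R i) (hT : HasT R i Y) {u v : GL ι F} (hu : u ∈ R) (hv : v ∈ R)
    (hne : bt u v = -1) :
    ∃ m ∈ Y, m ∈ Subgroup.normalizer (R : Set (GL ι F)) ∧ pg m * pg u * (pg m)⁻¹ = pg v ∧
      ∀ z ∈ R, bt z u = bt z v → pg m * pg z * (pg m)⁻¹ = pg z := by
  obtain ⟨s, hs, hsw, hs2⟩ := hC.exists_lift_one (R.mul_mem hu hv)
  have hb : bt s u = -1 := by
    rw [hC.bt_congr_left hs (R.mul_mem hu hv) hu hsw, bt_mul_left hC hu hv hu, bt_self, bt_symm v, hne, one_mul]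
  have hs1 : pg s ≠ 1 := fun e => hC.neg_one_ne_one (by
    rw [← hb, hC.bt_congr_left hs R.one_mem hu (by rw [e, map_one])]; simp [bt])
  obtain ⟨t, ht, hts⟩ := hT s hs hs1 hs2
  refine ⟨t, ht, hts.mem_normalizer hC hs2 hs, ?_, fun z hz hzz => ?_⟩
  · rw [← map_inv, ← map_mul, ← map_mul, (hts.pg_conj hC hs2 hs hu).2 hb, map_mul, hsw, map_mul, ← mul_assoc,
      hC.pg_sq hu, one_mul]
  · rw [← map_inv, ← map_mul, ← map_mul]
    refine (hts.pg_conj hC hs2 hs hz).1 ?_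
    rw [bt_symm, hC.bt_congr hz hz hs (R.mul_mem hu hv) rfl hsw, bt_mul_right hC hu hv hz, hzz, bt_sq]

/-- Moving through an intermediate element. -/
theorem move_via [Finite F] (hC : Cliff R i) (hT : HasT R i Y) {u w v : GL ι F} (hu : u ∈ R) (hw : w ∈ R) (hv : v ∈ R)
    (h1 : bt u w = -1) (h2 : bt w v = -1) :
    ∃ m ∈ Y, m ∈ Subgroup.normalizer (R : Set (GL ι F)) ∧ pg m * pg u * (pg m)⁻¹ = pg v ∧
      ∀ z ∈ R, bt z u = bt z w → bt z w = bt z v → pg m * pg z * (pg m)⁻¹ = pg z := by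
  obtain ⟨m, hm, hmN, hmu, hmz⟩ := move_fix hC hT hu hw h1
  obtain ⟨m', hm', hmN', hmw, hmz'⟩ := move_fix hC hT hw hv h2
  refine ⟨m' * m, Y.mul_mem hm' hm, mul_mem hmN' hmN, ?_, fun z hz e1 e2 => ?_⟩
  · rw [map_mul, show pg m' * pg m * pg u * (pg m' * pg m)⁻¹ = pg m' * (pg m * pg u * (pg m)⁻¹) * (pg m')⁻¹ by group,
      hmu, hmw]
  · rw [map_mul, show pg m' * pg m * pg z * (pg m' * pg m)⁻¹ = pg m' * (pg m * pg z * (pg m)⁻¹) * (pg m')⁻¹ by group,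
      hmz z hz e1, hmz' z hz e2]

/-- Adjusting an element to commute with an anticommuting pair. -/
theorem adjust (hC : Cliff R i) {a b r : GL ι F} (ha : a ∈ R) (hb : b ∈ R) (hr : r ∈ R) (hab : bt a b = -1) :
    ∃ d e : Bool, r * (if d then a else 1) * (if e then b else 1) ∈ R ∧
      bt a (r * (if d then a else 1) * (if e then b else 1)) = 1 ∧
      bt b (r * (if d then a else 1) * (if e then b else 1)) = 1 ∧
      ∀ z ∈ R, bt z a = 1 → bt z b = 1 → bt z (r * (if d then a else 1) * (if e then b else 1)) = bt z r := by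
  classical
  let d : Bool := decide (bt b r = -1)
  let e : Bool := decide (bt a r = -1)
  have hd : (if d then a else 1) ∈ R := by split; exacts [ha, R.one_mem]
  have he : (if e then b else 1) ∈ R := by split; exacts [hb, R.one_mem]
  have h1 : ∀ g : GL ι F, bt g 1 = 1 := fun g => by simp [bt]
  have hx : ∀ z ∈ R, bt z (r * (if d then a else 1) * (if e then b else 1)) =
      bt z r * (if d then bt z a else 1) * (if e then bt z b else 1) := fun z hz => by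
    rw [bt_mul_right hC (R.mul_mem hr hd) he hz, bt_mul_right hC hr hd hz]
    cases d <;> cases e <;> simp [h1]
  have hn := hC.neg_one_ne_one
  refine ⟨d, e, R.mul_mem (R.mul_mem hr hd) he, ?_, ?_, fun z hz hza hzb => ?_⟩
  · rw [hx a ha, bt_self, hab]
    rcases bt_pm a r with h | h <;> simp [e, h, Ne.symm hn]
  · rw [hx b hb, bt_self, bt_symm b a, hab]
    rcases bt_pm b r with h | h <;> simp [d, h, Ne.symm hn]
  · rw [hx z hz, hza, hzb]; simp

/-- Commuting with a frame means commuting with everything. -/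
theorem centralizes_of_frame [Finite F] (hC : Cliff R i) (hcard : Fintype.card ι = 4) {a₁ b₁ a₂ b₂ g : GL ι F}
    (ha₁ : a₁ ∈ R) (hb₁ : b₁ ∈ R) (ha₂ : a₂ ∈ R) (hb₂ : b₂ ∈ R) (hab₁ : bt a₁ b₁ = -1) (h12 : bt a₁ a₂ = 1)
    (h12' : bt a₁ b₂ = 1) (h22 : bt b₁ a₂ = 1) (h22' : bt b₁ b₂ = 1) (hab₂ : bt a₂ b₂ = -1)
    (l1 : pg g * pg a₁ * (pg g)⁻¹ = pg a₁) (l2 : pg g * pg b₁ * (pg g)⁻¹ = pg b₁)
    (l3 : pg g * pg a₂ * (pg g)⁻¹ = pg a₂) (l4 : pg g * pg b₂ * (pg g)⁻¹ = pg b₂) :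
    ∀ w ∈ Wbar R, pg g * w = w * pg g := by
  classical
  haveI : Finite (PG ι F) := inferInstance
  have hW : Nat.card (Wbar R) = 16 := by rw [hC.card, hcard]; norm_num
  have hn := hC.neg_one_ne_one
  have hite : ∀ (z c : GL ι F) (d : Bool), bt z (if d then c else 1) = if d then bt z c else 1 := fun z c d => by
    cases d <;> simp [bt]
  have hbool : ∀ d e : Bool, (if d then (-1 : F) else 1) = (if e then -1 else 1) → d = e := by
    intro d e hde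
    cases d <;> cases e <;> simp at hde ⊢ <;> first | exact hn hde | exact hn hde.symm
  let q : Bool × Bool × Bool × Bool → GL ι F := fun x =>
    (if x.1 then a₁ else 1) * (if x.2.1 then b₁ else 1) * (if x.2.2.1 then a₂ else 1) * (if x.2.2.2 then b₂ else 1)
  have p1 : ∀ d : Bool, (if d then a₁ else 1) ∈ R := fun d => by split; exacts [ha₁, R.one_mem]
  have p2 : ∀ d : Bool, (if d then b₁ else 1) ∈ R := fun d => by split; exacts [hb₁, R.one_mem]
  have p3 : ∀ d : Bool, (if d then a₂ else 1) ∈ R := fun d => by split; exacts [ha₂, R.one_mem]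
  have p4 : ∀ d : Bool, (if d then b₂ else 1) ∈ R := fun d => by split; exacts [hb₂, R.one_mem]
  have hq : ∀ x, q x ∈ R := fun x => R.mul_mem (R.mul_mem (R.mul_mem (p1 _) (p2 _)) (p3 _)) (p4 _)
  have hsig : ∀ z ∈ R, ∀ x, bt z (q x) = (if x.1 then bt z a₁ else 1) * (if x.2.1 then bt z b₁ else 1) *
      (if x.2.2.1 then bt z a₂ else 1) * (if x.2.2.2 then bt z b₂ else 1) := by
    rintro z hz ⟨x1, x2, x3, x4⟩
    simp only [q]
    rw [bt_mul_right hC (R.mul_mem (R.mul_mem (p1 _) (p2 _)) (p3 _)) (p4 _) hz,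
      bt_mul_right hC (R.mul_mem (p1 _) (p2 _)) (p3 _) hz, bt_mul_right hC (p1 _) (p2 _) hz]
    simp only [hite]
  let f : Bool × Bool × Bool × Bool → Wbar R := fun x => ⟨pg (q x), q x, hq x, rfl⟩
  have hinj : Function.Injective f := by
    intro x y h
    have h0 : pg (q x) = pg (q y) := congrArg Subtype.val h
    have c1 := hC.bt_congr ha₁ ha₁ (hq x) (hq y) rfl h0
    have c2 := hC.bt_congr hb₁ hb₁ (hq x) (hq y) rfl h0
    have c3 := hC.bt_congr ha₂ ha₂ (hq x) (hq y) rfl h0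
    have c4 := hC.bt_congr hb₂ hb₂ (hq x) (hq y) rfl h0
    rw [hsig a₁ ha₁, hsig a₁ ha₁, bt_self, hab₁, h12, h12'] at c1
    rw [hsig b₁ hb₁, hsig b₁ hb₁, bt_self, bt_symm b₁ a₁, hab₁, h22, h22'] at c2
    rw [hsig a₂ ha₂, hsig a₂ ha₂, bt_self, bt_symm a₂ a₁, h12, bt_symm a₂ b₁, h22, hab₂] at c3
    rw [hsig b₂ hb₂, hsig b₂ hb₂, bt_self, bt_symm b₂ a₁, h12', bt_symm b₂ b₁, h22', bt_symm b₂ a₂, hab₂] at c4
    obtain ⟨x1, x2, x3, x4⟩ := x
    obtain ⟨y1, y2, y3, y4⟩ := y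
    simp only [ite_self, one_mul, mul_one] at c1 c2 c3 c4
    rw [hbool _ _ c1, hbool _ _ c2, hbool _ _ c3, hbool _ _ c4]
  have hbij : Function.Bijective f :=
    (Nat.bijective_iff_injective_and_card f).2 ⟨hinj, by
      rw [hW, Nat.card_eq_fintype_card]; simp [Fintype.card_prod]⟩
  intro w hw
  obtain ⟨x, hx⟩ := hbij.2 ⟨w, hw⟩
  rw [← show pg (q x) = w from congrArg Subtype.val hx]
  have c : ∀ z, pg g * pg z * (pg g)⁻¹ = pg z → Commute (pg g) (pg z) := fun z hz => mul_inv_eq_iff_eq_mul.1 hz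
  have cc : ∀ (d : Bool) (z : GL ι F), Commute (pg g) (pg z) → Commute (pg g) (pg (if d then z else 1)) := by
    intro d z hz
    cases d
    · rw [if_neg (by decide), map_one]; exact Commute.one_right _
    · rw [if_pos rfl]; exact hz
  simp only [q, map_mul]
  exact ((((cc _ _ (c _ l1)).mul_right (cc _ _ (c _ l2))).mul_right (cc _ _ (c _ l3))).mul_right (cc _ _ (c _ l4))).eq

/-- The group is generated modulo scalars and the transvection lifts normalise it. -/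
theorem normalizer_le_of_hasT [Finite F] (hC : Cliff R i) (hcard : Fintype.card ι = 4) (hT : HasT R i Y)
    (hRY : R ≤ Y) : Subgroup.normalizer (R : Set (GL ι F)) ≤ Y ⊔ scalars ι F := by
  classical
  haveI : Finite (PG ι F) := inferInstance
  have hW : Nat.card (Wbar R) = 16 := by rw [hC.card, hcard]; norm_num
  have h1 : ∀ g : GL ι F, bt g 1 = 1 := fun g => by simp [bt]
  have h1' : ∀ g : GL ι F, bt 1 g = 1 := fun g => by simp [bt]
  have hn := hC.neg_one_ne_one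
  obtain ⟨a₁, ha₁, hne₁⟩ : ∃ r ∈ R, pg r ≠ 1 := by
    by_contra hall
    push Not at hall
    have : Nat.card (Wbar R) ≤ 1 := by
      rw [Finite.card_le_one_iff_subsingleton]
      refine ⟨fun x y => Subtype.ext ?_⟩
      obtain ⟨r, hr, e⟩ := x.2
      obtain ⟨r', hr', e'⟩ := y.2
      rw [← e, ← e', hall r hr, hall r' hr']
    omega
  obtain ⟨b₁, hb₁, hab₁⟩ := hC.exists_anti hne₁
  obtain ⟨a₂, ha₂, hne₂, h12, h22⟩ : ∃ r ∈ R, pg r ≠ 1 ∧ bt a₁ r = 1 ∧ bt b₁ r = 1 := by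
    by_contra hall
    push Not at hall
    let f : Bool × Bool → Wbar R := fun q =>
      ⟨pg ((if q.2 then b₁ else 1) * (if q.1 then a₁ else 1)), _,
        R.mul_mem (by split; exacts [hb₁, R.one_mem]) (by split; exacts [ha₁, R.one_mem]), rfl⟩
    have hf : Function.Surjective f := by
      rintro ⟨_, r, hr, rfl⟩
      obtain ⟨d, e, hmem, e1, e2, -⟩ := adjust hC ha₁ hb₁ hr hab₁
      refine ⟨(d, e), Subtype.ext ?_⟩
      have h3 : pg (r * (if d then a₁ else 1) * (if e then b₁ else 1)) = 1 := by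
        by_contra h4; exact hall _ hmem h4 e1 e2
      have hi : ∀ x ∈ R, (pg x)⁻¹ = pg x := fun x hx => inv_eq_of_mul_eq_one_right (hC.pg_sq hx)
      rw [map_mul, map_mul, mul_assoc, mul_eq_one_iff_eq_inv, _root_.mul_inv_rev, hi _ (by split; exacts [hb₁, R.one_mem]),
        hi _ (by split; exacts [ha₁, R.one_mem])] at h3
      show pg ((if e then b₁ else 1) * (if d then a₁ else 1)) = pg r
      rw [h3, map_mul]
    have := Nat.card_le_card_of_surjective f hf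
    rw [hW, Nat.card_eq_fintype_card, Fintype.card_prod, Fintype.card_bool] at this
    omega
  obtain ⟨b₂, hb₂, hab₂, h12', h22'⟩ : ∃ r ∈ R, bt a₂ r = -1 ∧ bt a₁ r = 1 ∧ bt b₁ r = 1 := by
    obtain ⟨r, hr, h⟩ := hC.exists_anti hne₂
    obtain ⟨d, e, hmem, e1, e2, e3⟩ := adjust hC ha₁ hb₁ hr hab₁
    exact ⟨_, hmem, by rw [e3 a₂ ha₂ (by rw [bt_symm]; exact h12) (by rw [bt_symm]; exact h22), h], e1, e2⟩
  intro g hg
  have hsub : ∀ (m g : GL ι F), m ∈ Y → m⁻¹ * g ∈ Y ⊔ scalars ι F → g ∈ Y ⊔ scalars ι F := fun m g hm h => by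
    have := mul_mem (Subgroup.mem_sup_left (T := scalars ι F) hm) h
    rwa [mul_inv_cancel_left] at this
  -- images of the frame
  have img : ∀ x ∈ Subgroup.normalizer (R : Set (GL ι F)), ∀ r ∈ R, x * r * x⁻¹ ∈ R :=
    fun x hx r hr => (Subgroup.mem_normalizer_iff.1 hx r).1 hr
  have key : ∀ (x z : GL ι F), pg x * pg z * (pg x)⁻¹ = pg z →
      pg (x⁻¹) * pg z * (pg (x⁻¹))⁻¹ = pg z := by
    intro x z h
    rw [map_inv, inv_inv]
    nth_rw 1 [← h]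
    group
  have keep : ∀ (m g z : GL ι F), pg m * pg z * (pg m)⁻¹ = pg z → pg g * pg z * (pg g)⁻¹ = pg z →
      pg (m⁻¹ * g) * pg z * (pg (m⁻¹ * g))⁻¹ = pg z := by
    intro m g z hm hg'
    rw [map_mul, show pg m⁻¹ * pg g * pg z * (pg m⁻¹ * pg g)⁻¹ = pg m⁻¹ * (pg g * pg z * (pg g)⁻¹) * (pg m⁻¹)⁻¹ by group,
      hg', key m z hm]
  have fix : ∀ (m g z : GL ι F), pg m * pg z * (pg m)⁻¹ = pg (g * z * g⁻¹) →
      pg (m⁻¹ * g) * pg z * (pg (m⁻¹ * g))⁻¹ = pg z := by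
    intro m g z h
    simp only [map_mul, map_inv] at h ⊢
    calc (pg m)⁻¹ * pg g * pg z * ((pg m)⁻¹ * pg g)⁻¹ = (pg m)⁻¹ * (pg g * pg z * (pg g)⁻¹) * pg m := by group
      _ = (pg m)⁻¹ * (pg m * pg z * (pg m)⁻¹) * pg m := by rw [h]
      _ = pg z := by group
  have sgn : ∀ (x y z : GL ι F), x ∈ Subgroup.normalizer (R : Set (GL ι F)) → y ∈ R → z ∈ R →
      pg x * pg y * (pg x)⁻¹ = pg y → bt y (x * z * x⁻¹) = bt y z := by
    intro x y z hx hy hz h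
    rw [← bt_conj x y z, hC.bt_congr (img x hx y hy) hy (img x hx z hz) (img x hx z hz)
      (by rw [map_mul, map_mul, map_inv, h]) rfl]
  -- first
  obtain ⟨m, hm, hmN, hmu⟩ := transitive hC hT ha₁ (img g hg a₁ ha₁) hne₁ (fun h => hne₁ (by
    rw [map_mul, map_mul, map_inv, conj_eq_one_iff] at h; exact h))
  refine hsub m g hm ?_
  have hg1 := mul_mem (inv_mem hmN) hg
  have f1 := fix m g a₁ (by rw [← hmu, map_mul, map_mul, map_inv])
  generalize m⁻¹ * g = g at hg1 f1 ⊢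
  clear hmN hmu hm m
  -- second
  have hb' := img g hg1 b₁ hb₁
  have s1 := sgn g a₁ b₁ hg1 ha₁ hb₁ f1
  rw [hab₁] at s1
  obtain ⟨m, hm, hmN, hmb, hma⟩ : ∃ m ∈ Y, m ∈ Subgroup.normalizer (R : Set (GL ι F)) ∧
      pg m * pg b₁ * (pg m)⁻¹ = pg (g * b₁ * g⁻¹) ∧ pg m * pg a₁ * (pg m)⁻¹ = pg a₁ := by
    rcases bt_pm b₁ (g * b₁ * g⁻¹) with h | h
    · obtain ⟨m, hm, hmN, e1, e2⟩ := move_via hC hT hb₁ (R.mul_mem hb₁ ha₁) hb'
        (by rw [bt_mul_right hC hb₁ ha₁ hb₁, bt_self, bt_symm, hab₁, one_mul])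
        (by rw [bt_mul_left hC hb₁ ha₁ hb', h, s1, one_mul])
      exact ⟨m, hm, hmN, e1, e2 a₁ ha₁ (by rw [bt_mul_right hC hb₁ ha₁ ha₁, bt_self, mul_one])
        (by rw [bt_mul_right hC hb₁ ha₁ ha₁, bt_self, mul_one, hab₁, s1])⟩
    · obtain ⟨m, hm, hmN, e1, e2⟩ := move_fix hC hT hb₁ hb' h
      exact ⟨m, hm, hmN, e1, e2 a₁ ha₁ (by rw [hab₁, s1])⟩
  refine hsub m g hm ?_
  have hg2 := mul_mem (inv_mem hmN) hg1
  have f2 := keep m g a₁ hma f1
  have f2' := fix m g b₁ hmb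
  generalize m⁻¹ * g = g at hg2 f2 f2' ⊢
  clear hmN hmb hma hm m
  -- third
  have ha' := img g hg2 a₂ ha₂
  have s2 := sgn g a₁ a₂ hg2 ha₁ ha₂ f2
  have s2' := sgn g b₁ a₂ hg2 hb₁ ha₂ f2'
  rw [h12] at s2
  rw [h22] at s2'
  obtain ⟨m, hm, hmN, hmb, hma, hmb'⟩ : ∃ m ∈ Y, m ∈ Subgroup.normalizer (R : Set (GL ι F)) ∧
      pg m * pg a₂ * (pg m)⁻¹ = pg (g * a₂ * g⁻¹) ∧ pg m * pg a₁ * (pg m)⁻¹ = pg a₁ ∧
      pg m * pg b₁ * (pg m)⁻¹ = pg b₁ := by
    obtain ⟨w₀, hw₀, e1, e2⟩ := exists_anti_both hC hne₂ (fun h => hne₂ (by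
      rw [map_mul, map_mul, map_inv, conj_eq_one_iff] at h; exact h)) ha₂ ha'
    obtain ⟨d, e, hw, w1, w2, w3⟩ := adjust hC ha₁ hb₁ hw₀ hab₁
    obtain ⟨m, hm, hmN, e3, e4⟩ := move_via hC hT ha₂ hw ha'
      (by rw [w3 a₂ ha₂ (by rw [bt_symm]; exact h12) (by rw [bt_symm]; exact h22), e1])
      (by rw [bt_symm, w3 _ ha' (by rw [bt_symm]; exact s2) (by rw [bt_symm]; exact s2'), e2])
    exact ⟨m, hm, hmN, e3, e4 a₁ ha₁ (by rw [w1, h12]) (by rw [w1, s2]),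
      e4 b₁ hb₁ (by rw [w2, h22]) (by rw [w2, s2'])⟩
  refine hsub m g hm ?_
  have hg3 := mul_mem (inv_mem hmN) hg2
  have k1 := keep m g a₁ hma f2
  have k2 := keep m g b₁ hmb' f2'
  have k3 := fix m g a₂ hmb
  generalize m⁻¹ * g = g at hg3 k1 k2 k3 ⊢
  clear hmN hmb hma hmb' hm m
  -- fourth
  have hbb := img g hg3 b₂ hb₂
  have t1 := sgn g a₁ b₂ hg3 ha₁ hb₂ k1
  have t2 := sgn g b₁ b₂ hg3 hb₁ hb₂ k2
  have t3 := sgn g a₂ b₂ hg3 ha₂ hb₂ k3
  rw [h12'] at t1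
  rw [h22'] at t2
  rw [hab₂] at t3
  obtain ⟨m, hm, hmN, hmb, hm1, hm2, hm3⟩ : ∃ m ∈ Y, m ∈ Subgroup.normalizer (R : Set (GL ι F)) ∧
      pg m * pg b₂ * (pg m)⁻¹ = pg (g * b₂ * g⁻¹) ∧ pg m * pg a₁ * (pg m)⁻¹ = pg a₁ ∧
      pg m * pg b₁ * (pg m)⁻¹ = pg b₁ ∧ pg m * pg a₂ * (pg m)⁻¹ = pg a₂ := by
    rcases bt_pm b₂ (g * b₂ * g⁻¹) with h | h
    · obtain ⟨m, hm, hmN, e1, e2⟩ := move_via hC hT hb₂ (R.mul_mem hb₂ ha₂) hbb
        (by rw [bt_mul_right hC hb₂ ha₂ hb₂, bt_self, bt_symm, hab₂, one_mul])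
        (by rw [bt_mul_left hC hb₂ ha₂ hbb, h, t3, one_mul])
      exact ⟨m, hm, hmN, e1,
        e2 a₁ ha₁ (by rw [bt_mul_right hC hb₂ ha₂ ha₁, h12', h12, mul_one])
          (by rw [bt_mul_right hC hb₂ ha₂ ha₁, h12', h12, mul_one, t1]),
        e2 b₁ hb₁ (by rw [bt_mul_right hC hb₂ ha₂ hb₁, h22', h22, mul_one])
          (by rw [bt_mul_right hC hb₂ ha₂ hb₁, h22', h22, mul_one, t2]),
        e2 a₂ ha₂ (by rw [bt_mul_right hC hb₂ ha₂ ha₂, bt_self, mul_one])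
          (by rw [bt_mul_right hC hb₂ ha₂ ha₂, bt_self, mul_one, hab₂, t3])⟩
    · obtain ⟨m, hm, hmN, e1, e2⟩ := move_fix hC hT hb₂ hbb h
      exact ⟨m, hm, hmN, e1, e2 a₁ ha₁ (by rw [h12', t1]), e2 b₁ hb₁ (by rw [h22', t2]), e2 a₂ ha₂ (by rw [hab₂, t3])⟩
  refine hsub m g hm ?_
  have hg4 := mul_mem (inv_mem hmN) hg3
  have l1 := keep m g a₁ hm1 k1
  have l2 := keep m g b₁ hm2 k2
  have l3 := keep m g a₂ hm3 k3
  have l4 := fix m g b₂ hmb
  generalize m⁻¹ * g = g at hg4 l1 l2 l3 l4 ⊢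
  clear hmN hmb hm1 hm2 hm3 hm m
  have hall := centralizes_of_frame hC hcard ha₁ hb₁ ha₂ hb₂ hab₁ h12 h12' h22 h22' hab₂ l1 l2 l3 l4
  obtain ⟨r, hr, e⟩ := hC.pg_mem_of_centralizes hall
  have hs : r⁻¹ * g ∈ scalars ι F := by
    rw [← QuotientGroup.eq_one_iff (N := scalars ι F)]
    show pg (r⁻¹ * g) = 1
    rw [map_mul, map_inv, e, inv_mul_cancel]
  have := mul_mem (Subgroup.mem_sup_left (T := scalars ι F) (hRY hr)) (Subgroup.mem_sup_right (S := Y) hs)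
  rwa [mul_inv_cancel_left] at this

end CfsgLib.CliffMax93
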