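import Cfsg.Agent.Lib.PrimeElusive.SymplType

/-!
The order of an absolutely irreducible symplectic-type 2-group in dimension eight.
-/

set_option autoImplicit false
set_option linter.unusedSectionVars false

namespace CfsgLib.CliffMax93.Order

open Matrix CfsgLib.PrimeElusive.SymplType

open scoped MatrixGroups commutatorElement

variable {F : Type*} [Field F] [Fintype F] {ι : Type} [Fintype ι] [DecidableEq ι] {R : Subgroup (GL ι F)}

theorem trace_zero_of_not_central (hs : Cfsg.Geo.IsSymplecticTypeGroup 2 R)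
    (hi : Cfsg.Geo.ActsAbsolutelyIrreducibly (Cfsg.Geo.matrixSet R)) {g : R} (hg : g ∉ Subgroup.center R) :
    (mt (g : GL (ι) F)).trace = 0 := by
  have hexp : ∀ q : R, q ^ 4 = 1 := fun q => by
    have := Monoid.pow_exponent_eq_one q
    rw [hs.exponent_eq] at this
    exact this
  have hprops := CfsgLib.SymplecticFour.commutator_props R hs.pGroup hs.cyclic_of_characteristic hexp
  obtain ⟨h, hgh⟩ : ∃ h : R, h * g ≠ g * h := by
    rw [Subgroup.mem_center_iff] at hg
    push Not at hg
    exact hg
  obtain ⟨ε, hε⟩ := (mem_center_iff hi _).1 (hprops h g).1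
  have hε1 : ε ≠ 1 := by
    rintro rfl
    refine hgh (commutatorElement_eq_one_iff_mul_comm.1 (Subtype.ext (Units.ext ?_)))
    rw [show ((⁅h, g⁆ : R) : GL (ι) F).val = mt ((⁅h, g⁆ : R) : GL (ι) F) from rfl, hε, one_smul]
    rfl
  have e : mt (h : GL (ι) F) * mt (g : GL (ι) F) * mt (h : GL (ι) F)⁻¹ = ε • mt (g : GL (ι) F) := by
    have e1 : (h : GL (ι) F) * g * (h : GL (ι) F)⁻¹ = ((⁅h, g⁆ : R) : GL (ι) F) * g := by
      simp only [commutatorElement_def, Subgroup.coe_mul, Subgroup.coe_inv]; group
    have := congrArg Units.val e1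
    simp only [Units.val_mul] at this
    refine this.trans ?_
    show mt ((⁅h, g⁆ : R) : GL (ι) F) * mt (g : GL (ι) F) = _
    rw [hε, smul_mul_assoc, one_mul]
  have := congrArg Matrix.trace e
  rw [Matrix.trace_mul_cycle, ← Units.val_mul, inv_mul_cancel, Units.val_one, one_mul, Matrix.trace_smul,
    smul_eq_mul] at this
  exact (mul_eq_zero.1 (show (1 - ε) * (mt (g : GL (ι) F)).trace = 0 by linear_combination this)).resolve_left
    (sub_ne_zero.2 (Ne.symm hε1))

theorem card_congr_order [Nonempty ι] (hn : (Fintype.card ι : F) ≠ 0) (hs : Cfsg.Geo.IsSymplecticTypeGroup 2 R)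
    (hi : Cfsg.Geo.ActsAbsolutelyIrreducibly (Cfsg.Geo.matrixSet R)) {z : ℕ} (hz : Nat.card (Subgroup.center R) = z) :
    (Nat.card R : F) = (z : F) * (Fintype.card ι : F) ^ 2 := by
  classical
  have : Finite R := inferInstance
  have := Fintype.ofFinite R
  have hS : ∀ i j : ι, ∃ cij : F, (∀ a b, ∑ g : R, mt (g : GL (ι) F) a i * mt (g : GL (ι) F)⁻¹ j b =
      if a = b then cij else 0) ∧ (Fintype.card ι : F) * cij = if i = j then (Nat.card R : F) else 0 := by
    intro i j
    set E : Matrix (ι) (ι) F := Matrix.single i j 1 with hE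
    obtain ⟨cij, hc⟩ := hi.2 (∑ g : R, mt (g : GL (ι) F) * E * mt (g : GL (ι) F)⁻¹) (by
      rintro _ ⟨h, hh, rfl⟩
      rw [Finset.sum_mul, Finset.mul_sum, ← Equiv.sum_comp (Equiv.mulLeft (⟨h, hh⟩ : R))]
      refine Finset.sum_congr rfl fun g _ => ?_
      simp only [Equiv.coe_mulLeft, Subgroup.coe_mul, _root_.mul_inv_rev, mt, Units.val_mul, mul_assoc]
      rw [← Units.val_mul h⁻¹, inv_mul_cancel, Units.val_one, mul_one])
    refine ⟨cij, fun a b => ?_, ?_⟩
    · have := congrFun (congrFun hc a) b
      simpa [Matrix.sum_apply, hE, Matrix.mul_apply, Matrix.single_apply, Matrix.one_apply, mul_comm, ite_and] using this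
    · have ht := congrArg Matrix.trace hc
      rw [Matrix.trace_sum, Finset.sum_congr rfl fun g _ => by
        rw [Matrix.trace_mul_cycle, ← Units.val_mul, inv_mul_cancel, Units.val_one, one_mul],
        Finset.sum_const, Finset.card_univ, nsmul_eq_mul, ← Nat.card_eq_fintype_card, Matrix.trace_smul,
        Matrix.trace_one, smul_eq_mul] at ht
      rw [mul_comm]
      push_cast at ht
      rw [← ht, hE]
      split_ifs with hij
      · subst hij; simp
      · simp [hij]
  choose cij hcij hcij' using hS
  have h1 : ∑ g : R, (mt (g : GL (ι) F)).trace * (mt (g : GL (ι) F)⁻¹).trace = (Nat.card R : F) := by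
    refine mul_left_cancel₀ hn ?_
    simp only [Matrix.trace, Matrix.diag, Finset.sum_mul, Finset.mul_sum]
    rw [Finset.sum_comm, Finset.sum_congr rfl fun i _ => Finset.sum_comm]
    have : ∀ i j : ι, ∑ g : R, (Fintype.card ι : F) * (mt (g : GL (ι) F) i i * mt (g : GL (ι) F)⁻¹ j j) =
        if i = j then (Nat.card R : F) else 0 := by
      intro i j
      rw [← Finset.mul_sum, hcij]
      by_cases h : i = j
      · rw [if_pos h, hcij']
      · rw [if_neg h, if_neg h, mul_zero]
    simp only [this]
    simp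
  have h3 : ∀ g : R, (mt (g : GL (ι) F)).trace * (mt (g : GL (ι) F)⁻¹).trace =
      if g ∈ Subgroup.center R then (Fintype.card ι : F) ^ 2 else 0 := by
    intro g
    split_ifs with hg
    · obtain ⟨s, hs'⟩ := (mem_center_iff hi g).1 hg
      have e : mt (g : GL (ι) F)⁻¹ = s⁻¹ • 1 := by
        have hs0 : s ≠ 0 := fun e => by
          rw [e, zero_smul] at hs'
          exact ((g : GL (ι) F).isUnit.ne_zero) hs'
        have e1 : mt (g : GL (ι) F) * mt (g : GL (ι) F)⁻¹ = 1 := by
          rw [← Units.val_mul, mul_inv_cancel, Units.val_one]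
        rw [hs', smul_mul_assoc, one_mul] at e1
        rw [← inv_smul_smul₀ hs0 (mt (g : GL (ι) F)⁻¹), e1]
      have hs0 : s ≠ 0 := fun e0 => by
        rw [e0, zero_smul] at hs'
        exact ((g : GL (ι) F).isUnit.ne_zero) hs'
      rw [hs', e, Matrix.trace_smul, Matrix.trace_smul, Matrix.trace_one, smul_eq_mul, smul_eq_mul]
      push_cast
      field_simp
    · rw [trace_zero_of_not_central hs hi hg, zero_mul]
  rw [← h1, Finset.sum_congr rfl fun g _ => h3 g, Finset.sum_ite, Finset.sum_const, Finset.sum_const_zero, add_zero,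
    nsmul_eq_mul, ← Fintype.card_subtype, ← Nat.card_eq_fintype_card, hz]

theorem card_le (hs : Cfsg.Geo.IsSymplecticTypeGroup 2 R) (hn : (Fintype.card ι : F) ≠ 0)
    (hi : Cfsg.Geo.ActsAbsolutelyIrreducibly (Cfsg.Geo.matrixSet R)) :
    Nat.card R ≤ Fintype.card ι ^ 2 * Nat.card (Subgroup.center R) := by
  classical
  have := Fintype.ofFinite (R ⧸ Subgroup.center R)
  let v : R ⧸ Subgroup.center R → Matrix (ι) (ι) F := fun a => mt ((Quotient.out a : R) : GL (ι) F)
  have hli : LinearIndependent F v := by
    rw [Fintype.linearIndependent_iff]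
    intro w hw a
    have e := congrArg (fun M => (M * mt ((Quotient.out a : R) : GL (ι) F)⁻¹).trace) hw
    simp only [Finset.sum_mul, Matrix.trace_sum, zero_mul, Matrix.trace_zero, smul_mul_assoc, Matrix.trace_smul] at e
    rw [Finset.sum_eq_single a (fun b _ hb => ?_) (fun h => absurd (Finset.mem_univ a) h)] at e
    · simp only [v, ← Units.val_mul, mul_inv_cancel, Units.val_one, Matrix.trace_one,
        smul_eq_mul] at e
      exact (mul_eq_zero.1 e).resolve_right hn
    · have hnc : (Quotient.out b : R) * (Quotient.out a : R)⁻¹ ∉ Subgroup.center R := fun hc => by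
        refine hb ?_
        rw [← Quotient.out_eq a, ← Quotient.out_eq b]
        refine QuotientGroup.eq.2 ?_
        have := (Subgroup.center R).inv_mem hc
        rw [_root_.mul_inv_rev, inv_inv] at this
        exact (Subgroup.Normal.mem_comm_iff inferInstance).1 this
      have := trace_zero_of_not_central hs hi hnc
      simp only [Subgroup.coe_mul, Subgroup.coe_inv, mt, Units.val_mul] at this
      simp only [v, mt, this, smul_zero]
  have h := hli.fintype_card_le_finrank
  rw [Module.finrank_matrix, Module.finrank_self] at h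
  rw [Subgroup.card_eq_card_quotient_mul_card_subgroup (Subgroup.center R), Nat.card_eq_fintype_card]
  exact Nat.mul_le_mul_right _ (by rw [pow_two]; simpa using h)

/-- In dimension eight the order is 256. -/
theorem card_eq {R : Subgroup (GL (Fin 8) F)} (p : ℕ) [CharP F p] (hp : p.Prime) (hp4 : p % 4 = 1)
    (hs : Cfsg.Geo.IsSymplecticTypeGroup 2 R)
    (hi : Cfsg.Geo.ActsAbsolutelyIrreducibly (Cfsg.Geo.matrixSet R)) (hz : Nat.card (Subgroup.center R) = 4)
    {m : ℕ} (hc : Nat.card R = 2 ^ (2 + 2 * m)) : Nat.card R = 2 ^ 8 := by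
  classical
  have hd : ∀ k : ℕ, (k : F) = 0 → p ∣ k := fun k hk => (CharP.cast_eq_zero_iff F p k).1 hk
  have h8 : (Fintype.card (Fin 8) : F) ≠ 0 := fun e => by
    have := hp.dvd_of_dvd_pow (show p ∣ 2 ^ 3 from hd 8 (by simpa using e))
    have := Nat.le_of_dvd two_pos this
    have := hp.two_le
    omega
  have h1 := card_congr_order h8 hs hi hz
  have hle := card_le hs h8 hi
  rw [Fintype.card_fin, hz, hc] at hle
  rw [Fintype.card_fin, hc] at h1
  push_cast at h1
  have hm : m ≤ 3 := by
    by_contra hm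
    have : 2 ^ 10 ≤ 2 ^ (2 + 2 * m) := Nat.pow_le_pow_right two_pos (by omega)
    omega
  have small : Nat.card R ≤ 16 → False := by
    intro hle16
    have := Fintype.ofFinite (R ⧸ Subgroup.center R)
    let w : R ⧸ Subgroup.center R → (Fin 8 → F) := fun a => mt ((Quotient.out a : R) : GL (Fin 8) F) *ᵥ Pi.single 0 1
    have hinv : ∀ r : R, mt (r : GL (Fin 8) F) *ᵥ Pi.single 0 1 ∈ Submodule.span F (Set.range w) := by
      intro r
      obtain ⟨k, hk⟩ : ∃ k : Subgroup.center R, (Quotient.out (r : R ⧸ Subgroup.center R) : R) = r * k :=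
        ⟨_, (QuotientGroup.mk_out_eq_mul (Subgroup.center R) r).choose_spec⟩
      obtain ⟨c, hcv⟩ := (mem_center_iff hi k.1).1 k.2
      have hw : w (r : R ⧸ Subgroup.center R) = c • (mt (r : GL (Fin 8) F) *ᵥ Pi.single 0 1) := by
        simp only [w, hk, Subgroup.coe_mul, mt, Units.val_mul]
        rw [show ((k.1 : R) : GL (Fin 8) F).val = c • 1 from hcv, mul_smul_comm, mul_one, Matrix.smul_mulVec]
      have hc0 : c ≠ 0 := fun e0 => by
        rw [e0, zero_smul] at hcv
        exact ((k.1 : R) : GL (Fin 8) F).isUnit.ne_zero hcv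
      rw [← inv_smul_smul₀ hc0 (mt (r : GL (Fin 8) F) *ᵥ Pi.single 0 1), ← hw]
      exact Submodule.smul_mem _ _ (Submodule.subset_span ⟨_, rfl⟩)
    rcases hi.1 (Submodule.span F (Set.range w)) (by
      rintro _ ⟨g, hg, rfl⟩
      rw [Submodule.map_le_iff_le_comap, Submodule.span_le]
      rintro _ ⟨a, rfl⟩
      rw [SetLike.mem_coe, Submodule.mem_comap, Matrix.toLin'_apply]
      have := hinv (⟨g, hg⟩ * Quotient.out a)
      simp only [w, Matrix.mulVec_mulVec, ← Units.val_mul]
      exact this) with h | h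
    · have := hinv 1
      rw [h, Submodule.mem_bot] at this
      simpa [PrimeElusive.SymplType.mt] using congrFun this 0
    · have h2 := finrank_range_le_card (R := F) w
      rw [Set.finrank, h, finrank_top, Module.finrank_fintype_fun_eq_card, Fintype.card_fin] at h2
      have h3 := Subgroup.card_eq_card_quotient_mul_card_subgroup (Subgroup.center R)
      rw [hz, Nat.card_eq_fintype_card (α := R ⧸ Subgroup.center R)] at h3
      omega
  interval_cases m
  · exact (small (by rw [hc]; norm_num)).elim
  · exact (small (by rw [hc]; norm_num)).elim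
  · exfalso
    have h' : ((192 : ℕ) : F) = 0 := by push_cast; linear_combination -h1
    have := hd 192 h'
    rw [show 192 = 2 ^ 6 * 3 by norm_num] at this
    rcases hp.dvd_mul.1 this with h | h
    · have := Nat.le_of_dvd two_pos (hp.dvd_of_dvd_pow h); have := hp.two_le; omega
    · have := Nat.le_of_dvd (by norm_num) h; have := hp.two_le; omega
  · rw [hc]

end CfsgLib.CliffMax93.Order
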