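import Cfsg.Agent.Lib.CliffMax93.Half
import Cfsg.Agent.Lib.CliffMax93.Order
import Cfsg.Agent.Lib.CliffMax93.Gen
import Cfsg.Agent.Lib.CliffMax93.Gate2
import Cfsg.Agent.Lib.CliffMax93.ControlMain
import Cfsg.Agent.Lib.CliffMax93.Assemble
import Cfsg.Agent.Lib.CliffSU8.Construct
import Cfsg.Agent.Lib.FrameSix.Max

/-!
Maximality of the normaliser of a symplectic-type group in `SL₈(p)`.
-/

set_option autoImplicit false
set_option linter.unusedSectionVars false

namespace CfsgLib.CliffMax93.Eight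

open Cfsg Cfsg.Geo Matrix
open scoped MatrixGroups

variable {F : Type*} [Field F] [Fintype F]

theorem det_eq (g h : GL (Fin 4) F) :
    (mt (g * h * g⁻¹)).det = (mt h).det := by
  rw [mt_conj, det_mul, det_mul, mul_comm (mt g).det, mul_assoc, ← det_mul, Units.mul_inv, det_one, mul_one]

/-- The core in adapted coordinates. -/
theorem specialLinear_le_std {R X : Subgroup (GL (Fin 4 ⊕ Fin 4) F)} {i : F} {a b x : GL (Fin 4 ⊕ Fin 4) F}
    (p : ℕ) [Fact p.Prime] [CharP F p] (hp : Nat.card F = p)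
    (S : Std R i a b) (hg : Good R X a x) (hT : HasT R i X) (hRX : R ≤ X) :
    Cfsg.Geo.specialLinear (Fin 4 ⊕ Fin 4) F ≤ X := by
  classical
  have hC := S.cliff
  have hh := S.cliff_half
  set Rh := half R with hRh
  set G := proj X with hG
  obtain ⟨hdet, hdetT⟩ := det_lifts (κ := Fin 2) hh (by simp) (by simp)
  have hTh : HasT Rh i G := S.hasT_half hT
  have hle : Rh ≤ G := half_le_proj hRX
  have hgen := normalizer_le_of_hasT hh (by simp) hTh hle
  have D := hh.data (by simp)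
  obtain ⟨c, ⟨K⟩⟩ := CfsgLib.FrameSix.exists_coords D
  have hmax := CfsgLib.FrameSix.maximal_normalizer K D p hp
  have hmid : Cfsg.Geo.subgroupNormalizer Rh ⊓ Cfsg.Geo.specialLinear (Fin 4) F ≤
      Cfsg.Geo.specialLinear (Fin 4) F ⊓ (G ⊔ scalars (Fin 4) F) := fun g hg => ⟨hg.2, hgen hg.1⟩
  have hnt : ∃ r ∈ Rh, pg r ≠ 1 := by
    by_contra hall
    push Not at hall
    have h1 : Nat.card (Wbar Rh) ≤ 1 := by
      rw [Finite.card_le_one_iff_subsingleton]
      refine ⟨fun u v => Subtype.ext ?_⟩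
      obtain ⟨r, hr, e⟩ := u.2
      obtain ⟨r', hr', e'⟩ := v.2
      rw [← e, ← e', hall r hr, hall r' hr']
    rw [hh.card] at h1
    simp at h1
  rcases hmax.2 _ hmid inf_le_left with hH | hH
  · exfalso
    obtain ⟨A, hA, hAN⟩ := S.good_not_normalizer hg
    have hsN : scalars (Fin 4) F ≤ Subgroup.normalizer (Rh : Set (GL (Fin 4) F)) := fun s hs => by
      refine mem_normalizer_of_conj fun r hr => ?_
      obtain ⟨c, hc⟩ := (mem_scalars_iff s).1 hs
      rw [show s * r = r * s from Units.ext (by rw [Units.val_mul, Units.val_mul, hc]; simp), mul_inv_cancel_right]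
      exact hr
    have inN : ∀ g ∈ G, (mt g).det = 1 → g ∈ Subgroup.normalizer (Rh : Set (GL (Fin 4) F)) := fun g hg hd => by
      have : g ∈ Cfsg.Geo.specialLinear (Fin 4) F ⊓ (G ⊔ scalars (Fin 4) F) :=
        ⟨CfsgLib.GeomClasses.mem_specialLinear.2 hd, Subgroup.mem_sup_left hg⟩
      rw [hH] at this
      exact this.1
    have key : ∀ B ∈ G, (∀ r ∈ Rh, B * r * B⁻¹ ∈ Subgroup.normalizer (Rh : Set (GL (Fin 4) F))) ∧
        ∀ w ∈ Subgroup.normalizer (Rh : Set (GL (Fin 4) F)), B * w * B⁻¹ ∈ Subgroup.normalizer (Rh : Set (GL (Fin 4) F)) := by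
      intro B hB
      have h1 : ∀ r ∈ Rh, B * r * B⁻¹ ∈ Subgroup.normalizer (Rh : Set (GL (Fin 4) F)) := fun r hr =>
        inN _ (G.mul_mem (G.mul_mem hB (hle hr)) (G.inv_mem hB)) (by rw [det_eq, hdet r hr])
      let Y : Subgroup (GL (Fin 4) F) := (Subgroup.normalizer (Rh : Set (GL (Fin 4) F))).comap (MulAut.conj B).toMonoidHom
      have hY : ∀ w, w ∈ Y ↔ B * w * B⁻¹ ∈ Subgroup.normalizer (Rh : Set (GL (Fin 4) F)) := fun w => Iff.rfl
      have hTY : HasT Rh i Y := by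
        intro s hs hs1 hs2
        obtain ⟨t, ht, hts⟩ := hTh s hs hs1 hs2
        refine ⟨t, (hY t).2 ?_, hts⟩
        have htN := hts.mem_normalizer hh hs2 hs
        have h2 := inN (B * t * B⁻¹ * t) (G.mul_mem (G.mul_mem (G.mul_mem hB ht) (G.inv_mem hB)) ht) (by
          rw [mt, Units.val_mul, det_mul, show ((B * t * B⁻¹ : GL (Fin 4) F) : Matrix (Fin 4) (Fin 4) F).det = _ from
            det_eq B t, hdetT s hs hs1 hs2 t hts]
          simp [pow_two, hh.hi])
        have := mul_mem h2 (inv_mem htN)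
        rwa [mul_inv_cancel_right] at this
      have hsY : scalars (Fin 4) F ≤ Y := fun s hs => (hY s).2 (by
        obtain ⟨c, hc⟩ := (mem_scalars_iff s).1 hs
        rw [show B * s = s * B from Units.ext (by rw [Units.val_mul, Units.val_mul, hc]; simp), mul_inv_cancel_right]
        exact hsN hs)
      refine ⟨h1, fun w hw => (hY w).1 ?_⟩
      exact (sup_le le_rfl hsY : Y ⊔ scalars (Fin 4) F ≤ Y)
        (normalizer_le_of_hasT hh (by simp) hTY (fun r hr => (hY r).2 (h1 r hr)) hw)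
    refine hAN (mem_normalizer_of_conj_mem hh hnt (fun w hw => ?_) (key A hA).1)
    have := (key A⁻¹ (G.inv_mem hA)).2 w hw
    rwa [inv_inv] at this
  · -- the kernel contains the special linear group
    let L : Subgroup (GL (Fin 4) F) := X.comap (dd.comp (MonoidHom.inl (GL (Fin 4) F) (GL (Fin 4) F)))
    have hL : ∀ k, k ∈ L ↔ dd (k, 1) ∈ X := fun k => Iff.rfl
    have hnorm : G ⊔ scalars (Fin 4) F ≤ Subgroup.normalizer (L : Set (GL (Fin 4) F)) := by
      refine sup_le (fun g hg => mem_normalizer_of_conj fun k hk => ?_) fun s hs => mem_normalizer_of_conj fun k hk => ?_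
      · obtain ⟨D', hD'⟩ := mem_proj.1 hg
        rw [hL] at hk ⊢
        have := X.mul_mem (X.mul_mem hD' hk) (X.inv_mem hD')
        rwa [← map_inv, ← map_mul, ← map_mul, Prod.inv_mk, Prod.mk_mul_mk, Prod.mk_mul_mk, mul_one, mul_inv_cancel] at this
      · obtain ⟨c, hc⟩ := (mem_scalars_iff s).1 hs
        rw [show s * k = k * s from Units.ext (by rw [Units.val_mul, Units.val_mul, hc]; simp), mul_inv_cancel_right]
        exact hk
    have hSLn : ∀ g ∈ Cfsg.Geo.specialLinear (Fin 4) F, g ∈ Subgroup.normalizer (L : Set (GL (Fin 4) F)) := by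
      intro g hg
      rw [← hH] at hg
      exact hnorm hg.2
    have hN : (L.subgroupOf (Cfsg.Geo.specialLinear (Fin 4) F)).Normal := ⟨fun k hk g => by
      rw [Subgroup.mem_subgroupOf] at hk ⊢
      exact (Subgroup.mem_normalizer_iff.1 (hSLn _ g.2) _).1 hk⟩
    obtain ⟨σ₀, hσ₀, hσ₀1⟩ := hnt
    obtain ⟨σ, hσ, hσe, hσ2⟩ := hh.exists_lift_one hσ₀
    have hσ1 : pg σ ≠ 1 := hσe ▸ hσ₀1
    obtain ⟨zc, hzc, hzci⟩ := hh.scal
    obtain ⟨z, hz, hzi⟩ := hC.scal
    set k := zc * zc * zc * σ with hk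
    have hkR : k ∈ Rh := Rh.mul_mem (Rh.mul_mem (Rh.mul_mem hzc hzc) hzc) hσ
    have hkv : mt k = (-i) • mt σ := by
      simp only [hk, mt, Units.val_mul, show (zc : Matrix (Fin 4) (Fin 4) F) = _ from hzci, smul_mul_assoc, one_mul,
        smul_smul]
      rw [hh.hi]; simp
    have hkX : k ∈ L := by
      rw [hL]
      have hs1 : dd (σ, σ) ∈ R := hσ
      have hs2 : dd (σ, σ) * a ∈ R := R.mul_mem hs1 S.aR
      have v1 : mt (dd (σ, σ)) = fromBlocks (mt σ) 0 0 (mt σ) := mt_dd _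
      have v2 : mt (dd (σ, σ) * a) = fromBlocks (mt σ) 0 0 (-mt σ) := by
        show (dd (σ, σ) : GL (Fin 4 ⊕ Fin 4) F).val * a.val = _
        rw [show (a : Matrix (Fin 4 ⊕ Fin 4) (Fin 4 ⊕ Fin 4) F) = _ from S.aval]
        simp [mt, dd, fromBlocks_multiply]
      have hne : ∀ M : Matrix (Fin 4) (Fin 4) F, ∀ g : GL (Fin 4 ⊕ Fin 4) F, mt g = fromBlocks (mt σ) 0 0 M →
          pg g ≠ 1 := by
        intro M g hg e
        obtain ⟨c, hc⟩ := (pg_eq_one_iff g).1 e
        rw [hg, ← fromBlocks_one, fromBlocks_smul, fromBlocks_inj] at hc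
        exact hσ1 ((pg_eq_one_iff σ).2 ⟨c, hc.1⟩)
      obtain ⟨t1, ht1, e1⟩ := hT _ hs1 (hne _ _ v1) (by rw [v1]; simp [fromBlocks_multiply, hσ2, fromBlocks_one])
      obtain ⟨t2, ht2, e2⟩ := hT _ hs2 (hne _ _ v2) (by rw [v2]; simp [fromBlocks_multiply, hσ2, fromBlocks_one])
      have e : dd (k, 1) * z = t1 * t2 := by
        refine Units.ext ?_
        rw [Units.val_mul, Units.val_mul, show (t1 : Matrix (Fin 4 ⊕ Fin 4) (Fin 4 ⊕ Fin 4) F) = _ from e1,
          show (t2 : Matrix (Fin 4 ⊕ Fin 4) (Fin 4 ⊕ Fin 4) F) = _ from e2, v1, v2,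
          show (z : Matrix (Fin 4 ⊕ Fin 4) (Fin 4 ⊕ Fin 4) F) = _ from hzi]
        obtain ⟨h1, h2⟩ := Tm_mul hC.hi hC.two hσ2
        have tm : ∀ M N : Matrix (Fin 4) (Fin 4) F, Tm i (fromBlocks M 0 0 N) = fromBlocks (Tm i M) 0 0 (Tm i N) := by
          intro M N
          simp [Tm, ← fromBlocks_one, fromBlocks_smul, fromBlocks_add]
        rw [tm, tm, fromBlocks_multiply, mul_smul_comm, mul_one]
        show i • mt (dd (k, 1)) = _
        rw [mt_dd, hkv]
        simp [fromBlocks_smul, h1, h2, smul_smul, hC.hi, mt]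
      rw [eq_mul_inv_of_mul_eq e]
      exact X.mul_mem (X.mul_mem ht1 ht2) (X.inv_mem (hRX hz))
    have hkS : k ∈ Cfsg.Geo.specialLinear (Fin 4) F := CfsgLib.GeomClasses.mem_specialLinear.2 (hdet k hkR)
    rcases CfsgLib.FrameSix.sl_normal _ hN with h | h
    · exfalso
      refine hσ1 ?_
      have hc : (⟨k, hkS⟩ : Cfsg.Geo.specialLinear (Fin 4) F) ∈ Subgroup.center _ := h (Subgroup.mem_subgroupOf.2 hkX)
      have hk1 : pg k = 1 := hh.pg_eq_one_of_comm fun r hr =>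
        (congrArg Subtype.val (Subgroup.mem_center_iff.1 hc ⟨r, CfsgLib.GeomClasses.mem_specialLinear.2 (hdet r hr)⟩)).symm
      obtain ⟨c, hc'⟩ := (pg_eq_one_iff k).1 hk1
      refine (pg_eq_one_iff σ).2 ⟨(-i)⁻¹ * c, ?_⟩
      rw [← smul_smul, ← hc', hkv, inv_smul_smul₀ (neg_ne_zero.2 hh.i_ne_zero)]
    · have hall : ∀ A ∈ Cfsg.Geo.specialLinear (Fin 4) F, dd (A, 1) ∈ X := fun A hA => by
        have : (⟨A, hA⟩ : Cfsg.Geo.specialLinear (Fin 4) F) ∈ L.subgroupOf _ := by rw [h]; trivial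
        exact this
      have hb1 : pg b ≠ 1 := fun e => hC.neg_one_ne_one (by
        rw [← S.anti, hC.bt_congr S.aR S.aR S.bR R.one_mem rfl (by rw [e, map_one])]; simp [bt])
      obtain ⟨P, hP, hPb⟩ := hT b S.bR hb1 S.sq_b
      have h2 := hC.two
      have hi1 : ∀ e : F, e * e = 1 → i ≠ e := fun e he h => hC.neg_one_ne_one (by rw [← hC.hi, h, he])
      refine specialLinear_le_of_mix (by simp) hall (hRX S.bR) S.bval hP (α := (1 + i) / 2) (β := (1 - i) / 2)
        (div_ne_zero (fun h => hi1 (-1) (by ring) (by linear_combination h)) h2)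
        (div_ne_zero (fun h => hi1 1 (by ring) (by linear_combination -h)) h2) ?_ ?_
      · rw [show (1 + i) / 2 * ((1 + i) / 2) - (1 - i) / 2 * ((1 - i) / 2) = i by field_simp; ring]
        exact hC.i_ne_zero
      · rw [show mt P = _ from hPb, Tm, S.bval, ← fromBlocks_one, fromBlocks_smul, fromBlocks_smul, fromBlocks_add]
        simp

/-- The class of symplectic-type normalisers in dimension eight. -/
theorem maximal_symplecticType {R : Subgroup (GL (Fin 8) F)} (p : ℕ) (hp : p.Prime) (hF : Fintype.card F = p)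
    (hp4 : p % 4 = 1) (hR : Cfsg.Geo.IsLinearSymplecticTypeData 2 R) :
    Cfsg.Geo.IsMaximalIn (Cfsg.Geo.specialLinear (Fin 8) F)
      (Cfsg.Geo.subgroupNormalizer R ⊓ Cfsg.Geo.specialLinear (Fin 8) F) := by
  classical
  have : Fact p.Prime := ⟨hp⟩
  have : CharP F p := by
    obtain ⟨n, hr, hn⟩ := FiniteField.card F (ringChar F)
    have hpr : ringChar F = p := by
      rw [hF] at hn
      exact ((Nat.prime_dvd_prime_iff_eq hr hp).1 (hn ▸ dvd_pow_self _ (PNat.ne_zero n)))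
    exact hpr ▸ ringChar.charP F
  have h2 : (2 : F) ≠ 0 := fun e => by
    have := (CharP.cast_eq_zero_iff F p 2).1 (by exact_mod_cast e)
    have := Nat.le_of_dvd two_pos this
    have := hp.two_le
    omega
  obtain ⟨q, e, -, -, hcs⟩ := hR.field
  have hz : Nat.card (Subgroup.center R) = 4 := by
    rcases hcs with ⟨h, -⟩ | ⟨-, -, h, -⟩ | ⟨-, -, h, -⟩
    · exact absurd h (by decide)
    · exact h
    · simp at h
  obtain ⟨m, hm⟩ : ∃ m : ℕ, Nat.card R = 2 ^ (2 + 2 * m) := by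
    rcases hcs with ⟨h, -⟩ | ⟨-, -, -, -, h⟩ | ⟨-, -, h, -⟩
    · exact absurd h (by decide)
    · exact h
    · simp at h
  have hR8 := Order.card_eq p hp hp4 hR.symplecticType hR.absIrred hz hm
  obtain ⟨i, hC⟩ := CfsgLib.CliffSU8.cliff_of_symplecticType h2
    (by rw [Fintype.card_fin, show ((8 : ℕ) : F) = 2 * 2 * 2 by norm_num]; exact mul_ne_zero (mul_ne_zero h2 h2) h2)
    hR.symplecticType hR.absIrred (by rw [hR8]; simp) hz
  have hW : Nat.card (Wbar R) = 64 := by rw [hC.card]; simp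
  obtain ⟨hdet, hdetT⟩ := det_lifts (κ := Fin 4) hC (by simp) ⟨2, by simp⟩
  have hRM : R ≤ Cfsg.Geo.subgroupNormalizer R ⊓ Cfsg.Geo.specialLinear (Fin 8) F := fun r hr =>
    ⟨Subgroup.le_normalizer hr, CfsgLib.GeomClasses.mem_specialLinear.2 (hdet r hr)⟩
  have hTM : HasT R i (Cfsg.Geo.subgroupNormalizer R ⊓ Cfsg.Geo.specialLinear (Fin 8) F) := by
    intro s hs hs1 hs2
    obtain ⟨t, ht⟩ := exists_isT hC hs2
    refine ⟨t, ⟨ht.mem_normalizer hC hs2 hs, CfsgLib.GeomClasses.mem_specialLinear.2 ?_⟩, ht⟩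
    rw [show ((t : Matrix (Fin 8) (Fin 8) F)).det = (mt t).det from rfl, hdetT s hs hs1 hs2 t ht, Fintype.card_fin,
      i_pow_four hC]
  -- core
  have core : ∀ X : Subgroup (GL (Fin 8) F), HasT R i X → R ≤ X → ¬ X ≤ Subgroup.normalizer (R : Set (GL (Fin 8) F)) →
      Cfsg.Geo.specialLinear (Fin 8) F ≤ X := by
    intro X hT hRX hX
    have hcc : ¬ CentCtrl R X := fun h => hX (le_normalizer_of_centCtrl hC (by simp) hT hRX h)
    unfold CentCtrl at hcc
    push Not at hcc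
    obtain ⟨u, hu, hu1, x, hx, hxu, hxN⟩ := hcc
    obtain ⟨a, ha, hau, ha2⟩ := hC.exists_lift_one hu
    have ha1 : pg a ≠ 1 := hau ▸ hu1
    obtain ⟨x', hx', hxa, hxN'⟩ : ∃ x' ∈ X, x' * a = a * x' ∧ x' ∉ Subgroup.normalizer (R : Set (GL (Fin 8) F)) := by
      rcases hC.sign_of_pg_commute (Or.inl ha2) (g := x) (by rw [hau]; exact hxu) with h | h
      · exact ⟨x, hx, h, hxN⟩
      · obtain ⟨b, hb, hab⟩ := hC.exists_anti ha1
        have h' := hC.mul_bt ha hb
        rw [hab, neg_one_smul] at h'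
        refine ⟨x * b, X.mul_mem hx (hRX hb), Units.ext ?_, fun hn => hxN ?_⟩
        · simp only [Units.val_mul]
          show mt x * mt b * mt a = mt a * (mt x * mt b)
          rw [mul_assoc, show mt b * mt a = -(mt a * mt b) by rw [h', neg_neg], mul_neg, ← mul_assoc, h, neg_mul,
            neg_neg, mul_assoc]
        · have := mul_mem hn (inv_mem (Subgroup.le_normalizer hb))
          rwa [mul_inv_cancel_right] at this
    obtain ⟨a', x'', hgood⟩ := exists_good hC hW.ge hT hRX ha ha1 ha2 hx' hxa hxN'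
    have ⟨ha', ha'1, ha'2, _⟩ := hgood
    obtain ⟨b₀, hb₀, hab₀⟩ := hC.exists_anti ha'1
    obtain ⟨b', hb', hbe, hb2⟩ := hC.exists_lift_one hb₀
    have hab' : bt a' b' = -1 := by rw [hC.bt_congr ha' ha' hb' hb₀ rfl hbe, hab₀]
    obtain ⟨Φ, hΦdet, S⟩ := exists_std (κ := Fin 4) hC (by simp) ha' hb' ha'2 hb2 hab'
    have hT' : HasT (R.map (glMap Φ).toMonoidHom) i (X.map (glMap Φ).toMonoidHom) := by
      rintro _ ⟨s, hs, rfl⟩ hs1 hs2
      obtain ⟨t, ht, hts⟩ := hT s hs (fun e => hs1 (by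
          show pg (glMap Φ s) = 1
          rw [← map_one (pg (ι := Fin 4 ⊕ Fin 4) (F := F)), ← map_one (glMap Φ), pg_glMap_eq_iff, e, map_one]))
        (Φ.injective (by rw [map_mul, map_one]; exact hs2))
      refine ⟨glMap Φ t, ⟨t, ht, rfl⟩, ?_⟩
      show mt (glMap Φ t) = Tm i (mt (glMap Φ s))
      rw [mt_glMap, mt_glMap, show mt t = _ from hts, Tm, Tm, map_add, map_smul, map_smul, map_one]
    have hle := specialLinear_le_std p (by rw [Nat.card_eq_fintype_card, hF]) S (hgood.map Φ) hT' (Subgroup.map_mono hRX)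
    intro g hg
    have h1 : glMap Φ g ∈ X.map (glMap Φ).toMonoidHom := hle (CfsgLib.GeomClasses.mem_specialLinear.2 (by
      show (mt (glMap Φ g)).det = 1
      rw [mt_glMap, hΦdet]; exact CfsgLib.GeomClasses.mem_specialLinear.1 hg))
    obtain ⟨g', hg', e⟩ := h1
    exact (glMap Φ).injective e ▸ hg'
  refine ⟨lt_of_le_of_ne inf_le_right fun heq => ?_, fun X hX hXK => ?_⟩
  · -- properness
    obtain ⟨a₀, ha₀, ha₀1⟩ : ∃ r ∈ R, pg r ≠ 1 := by
      by_contra hall
      push Not at hall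
      have h1 : Nat.card (Wbar R) ≤ 1 := by
        rw [Finite.card_le_one_iff_subsingleton]
        refine ⟨fun u v => Subtype.ext ?_⟩
        obtain ⟨r, hr, e⟩ := u.2
        obtain ⟨r', hr', e'⟩ := v.2
        rw [← e, ← e', hall r hr, hall r' hr']
      omega
    obtain ⟨a, ha, hae, ha2⟩ := hC.exists_lift_one ha₀
    obtain ⟨b₀, hb₀, hab₀⟩ := hC.exists_anti (a := a) (hae ▸ ha₀1)
    obtain ⟨b, hb, hbe, hb2⟩ := hC.exists_lift_one hb₀
    obtain ⟨Φ, hΦdet, S⟩ := exists_std (κ := Fin 4) hC (by simp) ha hb ha2 hb2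
      (by rw [hC.bt_congr ha ha hb hb₀ rfl hbe, hab₀])
    let E : Matrix (Fin 4) (Fin 4) F := Matrix.single 0 1 1
    let T : Matrix (Fin 4 ⊕ Fin 4) (Fin 4 ⊕ Fin 4) F := fromBlocks 1 E 0 1
    have hTd : T.det = 1 := by simp [T]
    let g : GL (Fin 4 ⊕ Fin 4) F := Matrix.GeneralLinearGroup.mkOfDetNeZero T (by rw [hTd]; exact one_ne_zero)
    obtain ⟨g₀, hg₀⟩ := (glMap Φ).surjective g
    have hg₀S : g₀ ∈ Cfsg.Geo.specialLinear (Fin 8) F := CfsgLib.GeomClasses.mem_specialLinear.2 (by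
      rw [← hΦdet, ← mt_glMap, hg₀]; exact hTd)
    rw [← heq] at hg₀S
    have hmem : glMap Φ (g₀ * a * g₀⁻¹) ∈ R.map (glMap Φ).toMonoidHom :=
      ⟨_, (Subgroup.mem_normalizer_iff.1 hg₀S.1 a).1 ha, rfl⟩
    rw [map_mul, map_mul, map_inv, hg₀] at hmem
    set a' := g * glMap Φ a * g⁻¹ with ha'
    have hga : g * glMap Φ a = a' * g := by rw [ha', inv_mul_cancel_right]
    have hv : mt a' = fromBlocks 1 (-((2 : F) • E)) 0 (-1) := by
      have h1 := congrArg mt hga
      rw [mt, Units.val_mul, mt, Units.val_mul, show ((glMap Φ a : GL (Fin 4 ⊕ Fin 4) F) : Matrix (Fin 4 ⊕ Fin 4) (Fin 4 ⊕ Fin 4) F) = _ from S.aval] at h1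
      have h3 : (fromBlocks 1 (-((2 : F) • E)) 0 (-1)) * T = T * fromBlocks 1 0 0 (-1) := by
        simp [T, fromBlocks_multiply, two_smul]
      have h4 : mt a' * T = fromBlocks 1 (-((2 : F) • E)) 0 (-1) * T := by rw [h3]; exact h1.symm
      exact g.isUnit.mul_right_cancel h4
    have hprod : mt (glMap Φ a * a') = fromBlocks 1 (-((2 : F) • E)) 0 1 := by
      show (glMap Φ a : GL (Fin 4 ⊕ Fin 4) F).val * a'.val = _
      rw [show ((glMap Φ a : GL (Fin 4 ⊕ Fin 4) F) : Matrix (Fin 4 ⊕ Fin 4) (Fin 4 ⊕ Fin 4) F) = _ from S.aval, show (a' : Matrix (Fin 4 ⊕ Fin 4) (Fin 4 ⊕ Fin 4) F) = _ from hv]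
      simp [fromBlocks_multiply]
    rcases S.cliff.sq _ ((R.map (glMap Φ).toMonoidHom).mul_mem S.aR hmem) with h | h <;>
      rw [hprod, fromBlocks_multiply, ← fromBlocks_one] at h
    · have h' := congrFun (congrFun (fromBlocks_inj.1 h).2.1 0) 1
      simp [E, ← two_mul, h2] at h'
    · rw [fromBlocks_neg] at h
      have h' := congrFun (congrFun (fromBlocks_inj.1 h).2.1 0) 1
      simp [E, ← two_mul, h2] at h'
  · by_cases hXN : X ≤ Subgroup.normalizer (R : Set (GL (Fin 8) F))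
    · exact Or.inl (le_antisymm (le_inf hXN hXK) hX)
    · refine Or.inr (le_antisymm hXK (core X (fun s hs hs1 hs2 => ?_) (hRM.trans hX) hXN))
      obtain ⟨t, ht, hts⟩ := hTM s hs hs1 hs2
      exact ⟨t, hX ht, hts⟩

end CfsgLib.CliffMax93.Eight
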