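import Cfsg.Agent.Lib.CliffMax93.Basic

/-!
A group containing a Clifford-type group and its transvection lifts, in which the centralisers of the non-central
elements of the Clifford group normalise it, normalises it.
-/

set_option autoImplicit false
set_option linter.unusedSectionVars false

namespace CfsgLib.CliffMax93

open Cfsg Cfsg.Geo Matrix
open scoped MatrixGroups

/-- Two involutions generate a dihedral group. -/
theorem dihedral_pair {G : Type*} [Group G] [Finite G] {x y : G} (hx : x * x = 1) (hy : y * y = 1) :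
    (∃ d, d * x * d⁻¹ = y ∧ ∀ k : G, k * x = x * k → k * y = y * k → k * d = d * k) ∨
    (∃ c, c ≠ 1 ∧ c * c = 1 ∧ c * x = x * c ∧ c * y = y * c ∧
      (∀ k : G, k * x = x * k → k * y = y * k → k * c = c * k) ∧
      (((∃ d, d * x * d⁻¹ = y * c) ∧ ∃ d, d * y * d⁻¹ = x * c) ∨ ∃ d, d * x * d⁻¹ = x * c)) := by
  set p := x * y with hp
  have hxi : x⁻¹ = x := inv_eq_of_mul_eq_one_right hx
  have hyi : y⁻¹ = y := inv_eq_of_mul_eq_one_right hy
  have hxp : ∀ j : ℕ, x * p ^ j = (p ^ j)⁻¹ * x := by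
    intro j
    have h1 : x * p * x⁻¹ = p⁻¹ := by rw [hp, _root_.mul_inv_rev, hxi, hyi, ← mul_assoc, hx, one_mul]
    have h2 : x * p ^ j * x⁻¹ = (p ^ j)⁻¹ := by rw [← conj_pow, h1, inv_pow]
    rw [← h2, inv_mul_cancel_right]
  have hkey : ∀ j : ℕ, (p ^ j)⁻¹ * x * ((p ^ j)⁻¹)⁻¹ = x * p ^ (j + j) := by
    intro j
    rw [inv_inv, ← hxp j, mul_assoc, ← pow_add]
  have hk : ∀ k : G, k * x = x * k → k * y = y * k → Commute k p := fun k h1 h2 => Commute.mul_right h1 h2
  rcases Nat.even_or_odd (orderOf p) with ⟨l, hl⟩ | ⟨j, hj⟩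
  · right
    have hl0 : 0 < l := by have := orderOf_pos p; omega
    have hc2 : p ^ l * p ^ l = 1 := by rw [← pow_add, ← hl, pow_orderOf_eq_one]
    refine ⟨p ^ l, fun h => ?_, hc2, ?_, ?_, fun k h1 h2 => (hk k h1 h2).pow_right l, ?_⟩
    · have := Nat.le_of_dvd hl0 (orderOf_dvd_of_pow_eq_one h); omega
    · rw [hxp l, inv_eq_of_mul_eq_one_right hc2]
    · have hy' : y = x * p := by rw [hp, ← mul_assoc, hx, one_mul]
      rw [hy', ← mul_assoc, show p ^ l * x = x * p ^ l by rw [hxp l, inv_eq_of_mul_eq_one_right hc2], mul_assoc,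
        mul_assoc, ← pow_succ, ← pow_succ']
    · rcases Nat.even_or_odd l with ⟨a, ha⟩ | ⟨a, ha⟩
      · exact Or.inr ⟨(p ^ a)⁻¹, by rw [hkey, ← ha]⟩
      · have hy' : y = x * p := by rw [hp, ← mul_assoc, hx, one_mul]
        refine Or.inl ⟨⟨(p ^ (a + 1))⁻¹, ?_⟩, ⟨(p ^ a)⁻¹, ?_⟩⟩
        · rw [hkey, hy', mul_assoc, ← pow_succ']; congr 2; omega
        · rw [hy', show (p ^ a)⁻¹ * (x * p) * ((p ^ a)⁻¹)⁻¹ = (p ^ a)⁻¹ * x * ((p ^ a)⁻¹)⁻¹ * p by
            rw [inv_inv, ← mul_assoc, mul_assoc _ p, ← pow_succ', mul_assoc _ (p ^ a) p, ← pow_succ], hkey,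
            mul_assoc, ← pow_succ]
          congr 2; omega
  · left
    refine ⟨(p ^ (j + 1))⁻¹, ?_, fun k h1 h2 => ((hk k h1 h2).pow_right _).inv_right⟩
    rw [hkey, show j + 1 + (j + 1) = orderOf p + 1 by omega, pow_succ, pow_orderOf_eq_one, one_mul, hp, ← mul_assoc,
      hx, one_mul]

/-- The fusion argument. -/
theorem mem_normalizer_of_fusion {G : Type*} [Group G] [Finite G] (W : Subgroup G)
    (hab : ∀ a ∈ W, ∀ b ∈ W, a * b = b * a) (hsq : ∀ a ∈ W, a * a = 1)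
    (htrans : ∀ u ∈ W, u ≠ 1 → ∀ v ∈ W, v ≠ 1 → ∃ m ∈ Subgroup.normalizer (W : Set G), m * u * m⁻¹ = v)
    (hcent : ∀ u ∈ W, u ≠ 1 → ∀ x : G, x * u = u * x → x ∈ Subgroup.normalizer (W : Set G))
    (hclosed : ∀ g : G, ∀ u ∈ W, u ≠ 1 → g * u * g⁻¹ ∈ Subgroup.normalizer (W : Set G) → g * u * g⁻¹ ∈ W)
    {z s v : G} (hz : z ∈ Subgroup.normalizer (W : Set G)) (hzW : z ∉ W) (hz2 : z * z = 1)
    (hs : s ∈ W) (hs1 : s ≠ 1) (hv : v ∈ W) (hv1 : v ≠ 1) (hzs : z * s = s * z) (hzv : z * v = v * z)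
    (hsep : ∀ w ∈ W, z * w = w * z → ∀ m ∈ Subgroup.normalizer (W : Set G),
      m * (z * w) = z * w * m → m * s * m⁻¹ ≠ v)
    (g : G) : g ∈ Subgroup.normalizer (W : Set G) := by
  set M := Subgroup.normalizer (W : Set G) with hMdef
  have hWM : W ≤ M := Subgroup.le_normalizer
  have hconj : ∀ m ∈ M, ∀ u ∈ W, m * u * m⁻¹ ∈ W := fun m hm u hu => (Subgroup.mem_normalizer_iff.1 hm u).1 hu
  have hTI : ∀ k : G, ∀ u ∈ W, u ≠ 1 → k * u * k⁻¹ ∈ W → k ∈ M := by
    intro k u hu hu1 h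
    obtain ⟨m, hm, hmu⟩ := htrans u hu hu1 _ h (fun e => hu1 (by simpa using e))
    have h1 : m⁻¹ * k ∈ M := hcent u hu hu1 _ (by
      have := congrArg (fun x => m⁻¹ * x * k) hmu
      simpa [mul_assoc] using this.symm)
    have := M.mul_mem hm h1
    rwa [mul_inv_cancel_left] at this
  -- an involution with centraliser in `M` lies in no other conjugate of `M`
  have hA : ∀ c : G, c * c = 1 → c ∈ M → (∀ x, x * c = c * x → x ∈ M) → ∀ k, k⁻¹ * c * k ∈ M → k ∈ M := by
    intro c hc hcM hcC k hk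
    set c' := k⁻¹ * c * k with hc'
    clear_value c'
    have hc'2 : c' * c' = 1 := by
      rw [hc', show k⁻¹ * c * k * (k⁻¹ * c * k) = k⁻¹ * (c * c) * k by group, hc, mul_one, inv_mul_cancel]
    obtain ⟨u, hu, hu1, hcu⟩ : ∃ u ∈ W, u ≠ 1 ∧ c' * u = u * c' := by
      have h1 : c'⁻¹ = c' := inv_eq_of_mul_eq_one_right hc'2
      have hs' : c' * s * c' ∈ W := by
        have := hconj c' hk s hs
        rwa [h1] at this
      by_cases h : c' * s * c' = s
      · exact ⟨s, hs, hs1, by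
          calc c' * s = c' * s * (c' * c') := by rw [hc'2, mul_one]
            _ = c' * s * c' * c' := by rw [← mul_assoc]
            _ = s * c' := by rw [h]⟩
      · refine ⟨c' * s * c' * s, W.mul_mem hs' hs, fun e => h ?_, ?_⟩
        · have := congrArg (fun x => x * s) e
          simpa [mul_assoc, hsq s hs] using this
        · have e1 : c' * (c' * s * c' * s) = s * c' * s := by
            rw [← mul_assoc, ← mul_assoc, ← mul_assoc, hc'2, one_mul]
          have e2 : c' * s * c' * s * c' = s * c' * s := by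
            have hcm := hab _ hs' s hs
            calc c' * s * c' * s * c' = s * (c' * s * c') * c' := by rw [hcm]
              _ = s * c' * s * (c' * c') := by group
              _ = _ := by rw [hc'2, mul_one]
          rw [e1, e2]
    have h2 : k * u * k⁻¹ * c = c * (k * u * k⁻¹) := by
      have := congrArg (fun x => k * x * k⁻¹) hcu
      simpa [hc', mul_assoc] using this.symm
    exact hTI k u hu hu1 (hclosed k u hu hu1 (hcC _ h2))
  -- the centraliser lemma
  have hB : ∀ w ∈ W, z * w = w * z → ∀ k, k * (z * w) = z * w * k → k ∈ M := by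
    intro w hw hzw k hk
    by_contra hkM
    have hcz : ∀ e ∈ W, z * e = e * z → (z * w) * e = e * (z * w) := fun e he h => by
      rw [mul_assoc, hab w hw e he, ← mul_assoc, h, mul_assoc]
    have hv' : k * v * k⁻¹ ∉ M := fun h => hkM (hTI k v hv hv1 (hclosed k v hv hv1 h))
    have hv'z : z * w * (k * v * k⁻¹) = k * v * k⁻¹ * (z * w) := by
      calc z * w * (k * v * k⁻¹) = (z * w * k) * v * k⁻¹ := by group
        _ = k * ((z * w) * v) * k⁻¹ := by rw [← hk]; group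
        _ = k * v * ((z * w) * k⁻¹) := by rw [hcz v hv hzv]; group
        _ = k * v * (k⁻¹ * (k * (z * w)) * k⁻¹) := by group
        _ = k * v * (k⁻¹ * (z * w * k) * k⁻¹) := by rw [hk]
        _ = _ := by group
    have hv'2 : k * v * k⁻¹ * (k * v * k⁻¹) = 1 := by
      rw [show k * v * k⁻¹ * (k * v * k⁻¹) = k * (v * v) * k⁻¹ by group, hsq v hv, mul_one, mul_inv_cancel]
    rcases dihedral_pair (hsq s hs) hv'2 with ⟨d, hd, hdk⟩ | ⟨c, hc1, hc2, hcs, hcv, -, hcase⟩
    · have hdz := hdk (z * w) (hcz s hs hzs) hv'z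
      have hh : (k⁻¹ * d) * s * (k⁻¹ * d)⁻¹ = v := by
        rw [show (k⁻¹ * d) * s * (k⁻¹ * d)⁻¹ = k⁻¹ * (d * s * d⁻¹) * k by group, hd]; group
      have hcom : (k⁻¹ * d) * (z * w) = z * w * (k⁻¹ * d) := by
        rw [mul_assoc, ← hdz, ← mul_assoc, show k⁻¹ * (z * w) = z * w * k⁻¹ by
          rw [eq_mul_inv_iff_mul_eq, mul_assoc, inv_mul_eq_iff_eq_mul, hk], mul_assoc]
      exact hsep w hw hzw _ (hTI _ s hs hs1 (by rw [hh]; exact hv)) hcom hh
    · have hcM : c ∈ M := hcent s hs hs1 c hcs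
      have hscW : s * c ∈ W := by
        have hscM : s * c ∈ M := M.mul_mem (hWM hs) hcM
        obtain ⟨d, u, hu, hu1, he⟩ : ∃ d u, u ∈ W ∧ u ≠ 1 ∧ d * u * d⁻¹ = s * c := by
          rcases hcase with ⟨-, d, hd⟩ | ⟨d, hd⟩
          · exact ⟨d * k, v, hv, hv1, by rw [← hd]; group⟩
          · exact ⟨d, s, hs, hs1, hd⟩
        exact he ▸ hclosed d u hu hu1 (he ▸ hscM)
      have hcW : c ∈ W := by
        have := W.mul_mem (W.inv_mem hs) hscW
        rwa [inv_mul_cancel_left] at this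
      exact hv' (hcent c hcW hc1 _ hcv.symm)
  have hCz : ∀ k, k * z = z * k → k ∈ M := fun k hk => hB 1 W.one_mem (by simp) k (by simpa using hk)
  by_contra hgM
  have hxM : g * s * g⁻¹ ∉ M := fun h => hgM (hTI g s hs hs1 (hclosed g s hs hs1 h))
  have hx2 : g * s * g⁻¹ * (g * s * g⁻¹) = 1 := by
    rw [show g * s * g⁻¹ * (g * s * g⁻¹) = g * (s * s) * g⁻¹ by group, hsq s hs, mul_one, mul_inv_cancel]
  rcases dihedral_pair hx2 hz2 with ⟨d, hd, -⟩ | ⟨c, hc1, hc2, hcx, hcz', -, hcase⟩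
  · refine hzW ?_
    have h1 : (d * g) * s * (d * g)⁻¹ = z := by rw [← hd]; group
    exact h1 ▸ hclosed _ s hs hs1 (h1 ▸ hz)
  · have hcM : c ∈ M := hCz c hcz'
    have hgc : g⁻¹ * c * g ∈ M := hcent s hs hs1 _ (by
      have := congrArg (fun x => g⁻¹ * x * g) hcx
      simpa [mul_assoc] using this)
    rcases hcase with ⟨⟨d, hd⟩, -⟩ | ⟨d, hd⟩
    · have h1 : (d * g) * s * (d * g)⁻¹ = z * c := by rw [← hd]; group
      have hwW : z * c ∈ W := h1 ▸ hclosed _ s hs hs1 (h1 ▸ M.mul_mem hz hcM)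
      have hzzc : z * (z * c) = c := by rw [← mul_assoc, hz2, one_mul]
      have hzw : z * (z * c) = (z * c) * z := by rw [hzzc, mul_assoc, hcz', ← mul_assoc, hz2, one_mul]
      exact hgM (hA c hc2 hcM (fun x hx => hB _ hwW hzw x (by rw [hzzc]; exact hx)) g hgc)
    · have h1 : (g⁻¹ * d * g) * s * (g⁻¹ * d * g)⁻¹ = s * (g⁻¹ * c * g) := by
        calc _ = g⁻¹ * (d * (g * s * g⁻¹) * d⁻¹) * g := by group
          _ = _ := by rw [hd]; group
      have hW' : s * (g⁻¹ * c * g) ∈ W := h1 ▸ hclosed _ s hs hs1 (h1 ▸ M.mul_mem (hWM hs) hgc)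
      have hcW : g⁻¹ * c * g ∈ W := by
        have := W.mul_mem (W.inv_mem hs) hW'
        rwa [inv_mul_cancel_left] at this
      have hne : g⁻¹ * c * g ≠ 1 := fun e => hc1 (by
        have := congrArg (fun x => g * x * g⁻¹) e
        simpa [mul_assoc] using this)
      refine hgM (hA z hz2 hz hCz g (hcent _ hcW hne _ ?_))
      have := congrArg (fun x => g⁻¹ * x * g) hcz'
      simpa [mul_assoc] using this.symm

end CfsgLib.CliffMax93
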