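import Cfsg.Agent.Lib.CliffMax93.Control

/-!
The gate: an element centralising a non-central element of the Clifford group and outside its normaliser
produces one whose projection to an eigenspace leaves the smaller normaliser.
-/

set_option autoImplicit false
set_option linter.unusedSectionVars false

namespace CfsgLib.CliffMax93

open Cfsg Cfsg.Geo Matrix
open scoped MatrixGroups

variable {ι : Type} [Fintype ι] [DecidableEq ι] {F : Type*} [Field F] {R : Subgroup (GL ι F)} {i : F}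
  {X : Subgroup (GL ι F)}

/-- The projection to the fixed space of an involution. -/
noncomputable def Pr (a : GL ι F) : Matrix ι ι F := (1 / 2 : F) • (1 + mt a)

/-- The projection to the negated space. -/
noncomputable def Pm (a : GL ι F) : Matrix ι ι F := (1 / 2 : F) • (1 - mt a)

/-- The projection of `x` to the fixed space of `a` does not normalise the smaller group. -/
def Good (R X : Subgroup (GL ι F)) (a x : GL ι F) : Prop :=
  a ∈ R ∧ pg a ≠ 1 ∧ mt a * mt a = 1 ∧ x ∈ X ∧ x * a = a * x ∧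
    ∃ r ∈ R, r * a = a * r ∧ ∀ r' ∈ R, r' * a = a * r' → ∀ c : F, mt (x * r * x⁻¹) * Pr a ≠ c • (mt r' * Pr a)

theorem Pr_add_Pm (hC : Cliff R i) (a : GL ι F) : Pr a + Pm a = 1 := by
  unfold Pr Pm
  rw [← smul_add, show (1 + mt a) + (1 - mt a) = (2 : F) • (1 : Matrix ι ι F) by rw [two_smul]; abel, smul_smul,
    one_div, inv_mul_cancel₀ hC.two, one_smul]

theorem Pr_mul_Pr (hC : Cliff R i) {a : GL ι F} (ha : mt a * mt a = 1) : Pr a * Pr a = Pr a := by
  have h2 := hC.two
  unfold Pr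
  rw [smul_mul_smul_comm]
  simp only [add_mul, mul_add, one_mul, mul_one, ha]
  rw [show (1 : Matrix ι ι F) + mt a + (mt a + 1) = (2 : F) • ((1 : Matrix ι ι F) + mt a) by rw [two_smul]; abel, smul_smul]
  congr 1; field_simp

theorem Pr_mul_Pm {a : GL ι F} (ha : mt a * mt a = 1) : Pr a * Pm a = 0 := by
  unfold Pr Pm
  rw [smul_mul_smul_comm]
  simp only [add_mul, mul_sub, one_mul, mul_one, ha]; simp [add_comm]

theorem Pm_mul_Pr {a : GL ι F} (ha : mt a * mt a = 1) : Pm a * Pr a = 0 := by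
  unfold Pr Pm
  rw [smul_mul_smul_comm]
  simp only [sub_mul, mul_add, one_mul, mul_one, ha]; simp [add_comm]

theorem comm_mt {g a : GL ι F} (h : g * a = a * g) : mt g * mt a = mt a * mt g := by
  simp only [mt, ← Units.val_mul, h]

theorem Pr_comm {g a : GL ι F} (h : g * a = a * g) : mt g * Pr a = Pr a * mt g := by
  unfold Pr
  rw [mul_smul_comm, smul_mul_assoc, mul_add, add_mul, mul_one, one_mul, comm_mt h]

theorem Pr_anti {g a : GL ι F} (h : mt a * mt g = -(mt g * mt a)) : mt g * Pr a = Pm a * mt g := by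
  unfold Pr Pm
  rw [mul_smul_comm, smul_mul_assoc, mul_add, sub_mul, mul_one, one_mul, h, sub_neg_eq_add]

theorem Pr_ne_zero (hC : Cliff R i) {a : GL ι F} (ha : a ∈ R) (ha1 : pg a ≠ 1) : Pr a ≠ 0 := by
  intro h
  have := congrArg Matrix.trace h
  rw [Pr, Matrix.trace_smul, Matrix.trace_add, Matrix.trace_one, hC.trace_eq_zero ha ha1, Matrix.trace_zero,
    add_zero, smul_eq_mul, mul_eq_zero, one_div, inv_eq_zero] at this
  exact this.elim hC.two hC.card0

theorem Pr_mul_Pr_ne_zero (hC : Cliff R i) {a s : GL ι F} (ha : a ∈ R) (ha1 : pg a ≠ 1) (hs : s ∈ R) (hs1 : pg s ≠ 1)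
    (hne : pg s ≠ pg a) : Pr a * Pr s ≠ 0 := by
  intro h
  have hne' : pg (a * s) ≠ 1 := fun e => hne (by
    rw [map_mul] at e
    exact (mul_left_cancel ((hC.pg_sq ha).trans e.symm)).symm)
  have h1 := congrArg Matrix.trace h
  rw [Pr, Pr, smul_mul_smul_comm, Matrix.trace_smul] at h1
  simp only [add_mul, mul_add, one_mul, mul_one] at h1
  rw [Matrix.trace_add,
    Matrix.trace_add, Matrix.trace_add, Matrix.trace_one, hC.trace_eq_zero ha ha1, hC.trace_eq_zero hs hs1,
    ← show mt (a * s) = mt a * mt s from Units.val_mul a s, hC.trace_eq_zero (R.mul_mem ha hs) hne', Matrix.trace_zero,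
    smul_eq_mul] at h1
  simp only [add_zero, mul_eq_zero, one_div, inv_eq_zero] at h1
  rcases h1 with (h1 | h1) | h1
  exacts [hC.two h1, hC.two h1, hC.card0 h1]

/-- A sign pattern: commute with `a`, anticommute with `r`. -/
theorem exists_signs (hC : Cliff R i) {a r : GL ι F} (ha : a ∈ R) (hr : r ∈ R) (hr1 : pg r ≠ 1)
    (hne : pg r ≠ pg a) : ∃ v ∈ R, bt a v = 1 ∧ bt r v = -1 := by
  have har : pg (a * r) ≠ 1 := fun e => hne (by
    rw [map_mul] at e
    exact (mul_left_cancel ((hC.pg_sq ha).trans e.symm)).symm)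
  obtain ⟨v₃, hv₃, h₃⟩ := hC.exists_anti har
  rw [bt_mul_left hC ha hr hv₃] at h₃
  rcases bt_pm a v₃ with e | e
  · exact ⟨v₃, hv₃, e, by rwa [e, one_mul] at h₃⟩
  · have e' : bt r v₃ = 1 := by rw [e, neg_one_mul] at h₃; exact neg_inj.1 h₃
    obtain ⟨v₁, hv₁, h₁⟩ := hC.exists_anti hr1
    rcases bt_pm a v₁ with f | f
    · exact ⟨v₁, hv₁, f, h₁⟩
    · exact ⟨v₁ * v₃, R.mul_mem hv₁ hv₃, by rw [bt_mul_right hC hv₁ hv₃ ha, f, e, neg_mul_neg, one_mul],
        by rw [bt_mul_right hC hv₁ hv₃ hr, h₁, e', mul_one]⟩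

/-- A sign pattern: commute with `a` and `s`, anticommute with `r`. -/
theorem exists_signs₂ (hC : Cliff R i) {a s r : GL ι F} (ha : a ∈ R) (hs : s ∈ R) (hr : r ∈ R) (hr1 : pg r ≠ 1)
    (hra : pg r ≠ pg a) (hrs : pg r ≠ pg s) (hras : pg r ≠ pg a * pg s) :
    ∃ v ∈ R, bt a v = 1 ∧ bt s v = 1 ∧ bt r v = -1 := by
  obtain ⟨v₁, hv₁, e₁, f₁⟩ := exists_signs hC ha hr hr1 hra
  rcases bt_pm s v₁ with h | h
  · exact ⟨v₁, hv₁, e₁, h, f₁⟩
  have hrs1 : pg (r * s) ≠ 1 := fun e => hrs (by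
    rw [map_mul] at e
    exact (eq_inv_of_mul_eq_one_left e).trans (inv_eq_of_mul_eq_one_right (hC.pg_sq hs)))
  obtain ⟨v', hv', e', f'⟩ := exists_signs hC ha (R.mul_mem hr hs) hrs1 (fun e => hras (by
    rw [← e, map_mul, mul_assoc, hC.pg_sq hs, mul_one]))
  rw [bt_mul_left hC hr hs hv'] at f'
  rcases bt_pm s v' with g | g
  · exact ⟨v', hv', e', g, by rwa [g, mul_one] at f'⟩
  · have gr : bt r v' = 1 := by rw [g, mul_neg_one] at f'; exact neg_inj.1 f'
    exact ⟨v₁ * v', R.mul_mem hv₁ hv', by rw [bt_mul_right hC hv₁ hv' ha, e₁, e', one_mul],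
      by rw [bt_mul_right hC hv₁ hv' hs, h, g, neg_mul_neg, one_mul], by rw [bt_mul_right hC hv₁ hv' hr, f₁, gr, mul_one]⟩

/-- An element of the group acting on a fixed space as a scalar. -/
theorem pg_of_mul_Pr (hC : Cliff R i) {a r : GL ι F} (ha : a ∈ R) (hr : r ∈ R) (ha1 : pg a ≠ 1) (hra : r * a = a * r)
    {c : F} (h : mt r * Pr a = c • Pr a) : pg r = 1 ∨ pg r = pg a := by
  by_contra hall
  push Not at hall
  obtain ⟨v, hv, e, f⟩ := exists_signs hC ha hr hall.1 hall.2
  have hvP := Pr_comm ((bt_comm_iff hC a v).1 e).symm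
  have hvr := hC.mul_bt hr hv
  rw [f, neg_one_smul] at hvr
  have h1 : mt r * (mt v * Pr a) = -(c • (mt v * Pr a)) := by
    rw [← mul_assoc, hvr, neg_mul, mul_assoc, h, mul_smul_comm]
  rw [hvP, ← mul_assoc, h, smul_mul_assoc] at h1
  have h2 : ((2 : F) * c) • (Pr a * mt v) = 0 := by
    rw [mul_smul, two_smul]; nth_rw 1 [h1]; exact neg_add_cancel _
  have hne : Pr a * mt v ≠ 0 := fun h0 => Pr_ne_zero hC ha ha1 (by
    have := congrArg (fun M => M * ((v⁻¹ : GL ι F) : Matrix ι ι F)) h0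
    simpa [mul_assoc] using this)
  have hc : c = 0 := ((mul_eq_zero.1 ((smul_eq_zero.1 h2).resolve_right hne)).resolve_left hC.two)
  rw [hc, zero_smul] at h
  exact Pr_ne_zero hC ha ha1 (by
    have := congrArg (fun M => ((r⁻¹ : GL ι F) : Matrix ι ι F) * M) h
    simpa [← mul_assoc] using this)

/-- An element of the group acting on a common fixed space as a scalar. -/
theorem pg_of_mul_Pr₂ (hC : Cliff R i) {a s r : GL ι F} (ha : a ∈ R) (hs : s ∈ R) (hr : r ∈ R) (ha1 : pg a ≠ 1)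
    (hs1 : pg s ≠ 1) (hsa : pg s ≠ pg a) (hra : r * a = a * r) (hrs : r * s = s * r)
    {c : F} (h : mt r * (Pr a * Pr s) = c • (Pr a * Pr s)) :
    pg r = 1 ∨ pg r = pg a ∨ pg r = pg s ∨ pg r = pg a * pg s := by
  by_contra hall
  push Not at hall
  obtain ⟨v, hv, e, e', f⟩ := exists_signs₂ hC ha hs hr hall.1 hall.2.1 hall.2.2.1 hall.2.2.2
  have hQv : mt v * (Pr a * Pr s) = Pr a * Pr s * mt v := by
    rw [← mul_assoc, Pr_comm ((bt_comm_iff hC a v).1 e).symm, mul_assoc, Pr_comm ((bt_comm_iff hC s v).1 e').symm,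
      mul_assoc]
  have hvr := hC.mul_bt hr hv
  rw [f, neg_one_smul] at hvr
  set Q := Pr a * Pr s with hQ
  have hQ0 : Q ≠ 0 := Pr_mul_Pr_ne_zero hC ha ha1 hs hs1 hsa
  have h1 : mt r * (mt v * Q) = -(c • (mt v * Q)) := by
    rw [← mul_assoc, hvr, neg_mul, mul_assoc, h, mul_smul_comm]
  rw [hQv, ← mul_assoc, h, smul_mul_assoc] at h1
  have h2 : ((2 : F) * c) • (Q * mt v) = 0 := by
    rw [mul_smul, two_smul]; nth_rw 1 [h1]; exact neg_add_cancel _
  have hne : Q * mt v ≠ 0 := fun h0 => hQ0 (by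
    have := congrArg (fun M => M * ((v⁻¹ : GL ι F) : Matrix ι ι F)) h0
    simpa [mul_assoc] using this)
  have hc : c = 0 := ((mul_eq_zero.1 ((smul_eq_zero.1 h2).resolve_right hne)).resolve_left hC.two)
  rw [hc, zero_smul] at h
  exact hQ0 (by
    have := congrArg (fun M => ((r⁻¹ : GL ι F) : Matrix ι ι F) * M) h
    simpa [← mul_assoc] using this)

variable [Finite F]

/-- Two reflections of the fixed-space data give a gate. -/
theorem good_of_two (hC : Cliff R i) (hbig : 64 ≤ Nat.card (Wbar R)) (hRX : R ≤ X) {a : GL ι F} (ha : a ∈ R)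
    (ha1 : pg a ≠ 1) (ha2 : mt a * mt a = 1) {σ σ' t t' : GL ι F} (hσ : σ ∈ R) (hσ' : σ' ∈ R)
    (hσa : σ * a = a * σ) (hσ'a : σ' * a = a * σ') (hσ2 : mt σ * mt σ = 1) (hσ'2 : mt σ' * mt σ' = 1)
    (hσ1 : pg σ ≠ 1) (hσ'1 : pg σ' ≠ 1) (hσne : pg σ ≠ pg a) (hσ'ne : pg σ' ≠ pg a) (hd : pg σ' ≠ pg σ)
    (hd' : pg σ' ≠ pg σ * pg a) (ht : IsT i t σ) (ht' : IsT i t' σ') {x : GL ι F} (hx : x ∈ X)
    (hxv : mt x = Pr a + mt (t⁻¹ * t') * Pm a) : ∃ a' x', Good R X a' x' := by
  have hta : t * a = a * t := (ht.comm (g := a) hσa.symm).symm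
  have ht'a : t' * a = a * t' := (ht'.comm (g := a) hσ'a.symm).symm
  have hka : (t⁻¹ * t') * a = a * (t⁻¹ * t') := by
    have h1 : Commute a t := hta.symm
    have h2 : Commute a t' := ht'a.symm
    exact (h1.inv_right.mul_right h2).symm
  -- choose the new centre and the test element
  obtain ⟨s, u, hs, hu, hs1, hsa, hs2, hsne, hua, hus, hcs, hcs', hout⟩ : ∃ s u : GL ι F, s ∈ R ∧ u ∈ R ∧ pg s ≠ 1 ∧
      s * a = a * s ∧ mt s * mt s = 1 ∧ pg s ≠ pg a ∧ u * a = a * u ∧ u * s = s * u ∧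
      s * σ = σ * s ∧ s * σ' = σ' * s ∧
      ∃ e : GL ι F, e ∈ R ∧ e * a = a * e ∧ e * s = s * e ∧
        pg (t⁻¹ * t' * u * (t⁻¹ * t')⁻¹) = pg u * pg e ∧
        pg e ≠ 1 ∧ pg e ≠ pg a ∧ pg e ≠ pg s ∧ pg e ≠ pg a * pg s := by
    rcases bt_pm σ σ' with hb | hb
    · have hc := (bt_comm_iff hC σ σ').1 hb
      obtain ⟨u, hu, eu1, eu2, eu3⟩ := exists_signs₂ hC ha hσ hσ' hσ'1 hσ'ne hd (by
        rw [hC.pg_comm ha hσ]; exact hd')
      have hcu : u * σ = σ * u := ((bt_comm_iff hC σ u).1 eu2).symm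
      refine ⟨σ, u, hσ, hu, hσ1, hσa, hσ2, hσne, ((bt_comm_iff hC a u).1 eu1).symm, hcu, rfl, hc, σ', hσ', hσ'a, hc.symm,
        ?_, hσ'1, hσ'ne, hd, by rw [hC.pg_comm ha hσ]; exact hd'⟩
      have h1 := (ht'.pg_conj hC hσ'2 hσ' hu).2 eu3
      have h2 : t⁻¹ * (u * σ') * t = u * σ' := by
        have h3 : Commute (u * σ') σ := Commute.mul_left hcu hc.symm
        rw [mul_assoc, ht.comm (g := u * σ') h3, inv_mul_cancel_left]
      calc pg (t⁻¹ * t' * u * (t⁻¹ * t')⁻¹) = (pg t)⁻¹ * pg (t' * u * t'⁻¹) * pg t := by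
            simp only [map_mul, map_inv]; group
        _ = pg (t⁻¹ * (u * σ') * t) := by rw [h1]; simp only [map_mul, map_inv]
        _ = pg u * pg σ' := by rw [h2, map_mul]
    · obtain ⟨s₀, hs₀, hs₀out, es₀, es₀', es₀a⟩ : ∃ s₀ ∈ R, pg s₀ ∉ Subgroup.zpowers (pg a) ∧
          bt σ s₀ = 1 ∧ bt σ' s₀ = 1 ∧ bt a s₀ = 1 := by
        classical
        haveI := Fintype.ofFinite F
        haveI : Finite (PG ι F) := Quotient.finite _
        have hhom : ∀ p : GL ι F, p ∈ R → ∃ H : Subgroup (PG ι F), (∀ r ∈ R, pg r ∈ H ↔ bt p r = 1) := by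
          intro p hp
          refine ⟨{ carrier := {w | ∀ r ∈ R, pg r = w → bt p r = 1} ∩ Wbar R
                    one_mem' := ⟨fun r hr e => (bt_comm_iff hC p r).2 (by
                      obtain ⟨c, hc⟩ := (pg_eq_one_iff r).1 e
                      exact Units.ext (by rw [Units.val_mul, Units.val_mul _ p, show (r : Matrix ι ι F) = _ from hc]; simp)),
                      one_mem _⟩
                    mul_mem' := fun {w w'} hw hw' => ⟨fun r hr e => by
                      obtain ⟨r₁, hr₁, e₁⟩ := hw.2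
                      obtain ⟨r₂, hr₂, e₂⟩ := hw'.2
                      rw [hC.bt_congr hp hp hr (R.mul_mem hr₁ hr₂) rfl (by rw [map_mul, e₁, e₂, e]),
                        bt_mul_right hC hr₁ hr₂ hp, hw.1 r₁ hr₁ e₁, hw'.1 r₂ hr₂ e₂, one_mul], mul_mem hw.2 hw'.2⟩
                    inv_mem' := fun {w} hw => by
                      obtain ⟨r, hr, e⟩ := hw.2
                      have : w⁻¹ = w := by rw [← e]; exact inv_eq_of_mul_eq_one_right (hC.pg_sq hr)
                      rwa [this] }, fun r hr => ⟨fun h => h.1 r hr rfl, fun h => ⟨fun r' hr' e => by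
                        rw [hC.bt_congr hp hp hr' hr rfl e]; exact h, ⟨r, hr, rfl⟩⟩⟩⟩
        obtain ⟨K₁, hK₁⟩ := hhom σ hσ
        obtain ⟨K₂, hK₂⟩ := hhom σ' hσ'
        obtain ⟨K₃, hK₃⟩ := hhom a ha
        have hhalf : ∀ (p : GL ι F), p ∈ R → ∀ K : Subgroup (PG ι F), (∀ r ∈ R, pg r ∈ K ↔ bt p r = 1) →
            ∀ L : Subgroup (PG ι F), L ≤ Wbar R → Nat.card L ≤ 2 * Nat.card (L ⊓ K : Subgroup (PG ι F)) := by
          intro p hp K hK L hL
          by_cases hall : L ≤ K
          · rw [inf_eq_left.2 hall]; omega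
          obtain ⟨l, hl, hlK⟩ := SetLike.not_le_iff_exists.1 hall
          have hsub : (L : Set (PG ι F)) ⊆ ((L ⊓ K : Subgroup (PG ι F)) : Set (PG ι F)) ∪
              (fun h => l * h) '' ((L ⊓ K : Subgroup (PG ι F)) : Set (PG ι F)) := by
            intro w hw
            by_cases hwK : w ∈ K
            · exact Or.inl ⟨hw, hwK⟩
            · refine Or.inr ⟨l⁻¹ * w, ⟨L.mul_mem (L.inv_mem hl) hw, ?_⟩, mul_inv_cancel_left l w⟩
              obtain ⟨r₁, hr₁, rfl⟩ := hL hl
              obtain ⟨r₂, hr₂, rfl⟩ := hL hw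
              rw [← map_inv, ← map_mul]
              refine (hK _ (R.mul_mem (R.inv_mem hr₁) hr₂)).2 ?_
              have n1 := (bt_pm p r₁).resolve_left (fun e => hlK ((hK r₁ hr₁).2 e))
              have n2 := (bt_pm p r₂).resolve_left (fun e => hwK ((hK r₂ hr₂).2 e))
              rw [hC.bt_congr hp hp (R.mul_mem (R.inv_mem hr₁) hr₂) (R.mul_mem hr₁ hr₂) rfl (by
                rw [map_mul, map_mul, map_inv, inv_eq_of_mul_eq_one_right (hC.pg_sq hr₁)]),
                bt_mul_right hC hr₁ hr₂ hp, n1, n2, neg_mul_neg, one_mul]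
          have h1 := (Set.ncard_le_ncard hsub (Set.toFinite _)).trans (Set.ncard_union_le _ _)
          rw [Set.ncard_image_of_injective _ (mul_right_injective l)] at h1
          simp only [← Nat.card_coe_set_eq, SetLike.coe_sort_coe] at h1
          omega
        have c1 := hhalf σ hσ K₁ hK₁ (Wbar R) le_rfl
        have c2 := hhalf σ' hσ' K₂ hK₂ (Wbar R ⊓ K₁) inf_le_left
        have c3 := hhalf a ha K₃ hK₃ (Wbar R ⊓ K₁ ⊓ K₂) (inf_le_left.trans inf_le_left)
        obtain ⟨w, hw, hwa⟩ : ∃ w ∈ Wbar R ⊓ K₁ ⊓ K₂ ⊓ K₃, w ∉ Subgroup.zpowers (pg a) := by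
          by_contra hall
          push Not at hall
          have h1 := Subgroup.card_le_of_le (show Wbar R ⊓ K₁ ⊓ K₂ ⊓ K₃ ≤ Subgroup.zpowers (pg a) from hall)
          rw [Nat.card_zpowers, orderOf_eq_prime (by rw [pow_two, hC.pg_sq ha]) ha1] at h1
          omega
        obtain ⟨r, hr, rfl⟩ := hw.1.1.1
        exact ⟨r, hr, hwa, (hK₁ r hr).1 hw.1.1.2, (hK₂ r hr).1 hw.1.2, (hK₃ r hr).1 hw.2⟩
      obtain ⟨s, hs, hss, hs2⟩ := hC.exists_lift_one hs₀
      have es : bt σ s = 1 := by rw [hC.bt_congr hσ hσ hs hs₀ rfl hss]; exact es₀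
      have es' : bt σ' s = 1 := by rw [hC.bt_congr hσ' hσ' hs hs₀ rfl hss]; exact es₀'
      have esa : bt a s = 1 := by rw [hC.bt_congr ha ha hs hs₀ rfl hss]; exact es₀a
      have hc1 := (bt_comm_iff hC σ s).1 es
      have hc2 := (bt_comm_iff hC σ' s).1 es'
      have hnb : ∀ p, bt σ p = 1 → pg (σ * σ') ≠ pg p ∨ p ∉ R := fun p hp => by
        by_cases hpR : p ∈ R
        · refine Or.inl fun e => hC.neg_one_ne_one ?_
          have h3 : bt σ (σ * σ') = -1 := by rw [bt_mul_right hC hσ hσ' hσ, bt_self, hb, one_mul]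
          rw [← h3, hC.bt_congr hσ hσ (R.mul_mem hσ hσ') hpR rfl e, hp]
        · exact Or.inr hpR
      refine ⟨s, σ, hs, hσ, fun e => hs₀out (by rw [← hss, e]; exact one_mem _),
        ((bt_comm_iff hC a s).1 esa).symm, hs2, fun e => hs₀out (by rw [← hss, e]; exact Subgroup.mem_zpowers _),
        hσa, hc1, hc1.symm, hc2.symm, σ * σ', R.mul_mem hσ hσ', Commute.mul_left hσa hσ'a, Commute.mul_left hc1 hc2,
        ?_, ?_, ?_, ?_, ?_⟩
      · have h1 := (ht'.pg_conj hC hσ'2 hσ' hσ).2 (by rw [bt_symm]; exact hb)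
        have h2 := (ht.pg_conj hC hσ2 hσ hσ').2 hb
        have h3 : pg (t⁻¹ * (σ * σ') * t) = pg σ' := by
          have hts : Commute (pg t) (pg σ) := (map_mul pg t σ).symm.trans
            ((congrArg pg (ht.comm (g := σ) rfl).symm).trans (map_mul pg σ t))
          have e1 : pg t * pg σ' * (pg t)⁻¹ = pg σ' * pg σ := by simpa only [map_mul, map_inv] using h2
          simp only [map_mul, map_inv]
          calc (pg t)⁻¹ * (pg σ * pg σ') * pg t = (pg t)⁻¹ * (pg σ' * pg σ) * pg t := by rw [hC.pg_comm hσ hσ']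
            _ = (pg t)⁻¹ * (pg t * pg σ' * (pg t)⁻¹) * pg t := by rw [e1]
            _ = _ := by group
        calc pg (t⁻¹ * t' * σ * (t⁻¹ * t')⁻¹) = (pg t)⁻¹ * pg (t' * σ * t'⁻¹) * pg t := by
              simp only [map_mul, map_inv]; group
          _ = pg (t⁻¹ * (σ * σ') * t) := by rw [h1]; simp only [map_mul, map_inv]
          _ = pg σ' := h3
          _ = pg σ * pg (σ * σ') := by rw [map_mul, ← mul_assoc, hC.pg_sq hσ, one_mul]
      · have h5 := (hnb 1 (by simp [bt])).resolve_right (not_not.2 R.one_mem)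
        rwa [map_one] at h5
      · exact (hnb a ((bt_comm_iff hC σ a).2 hσa)).resolve_right (not_not.2 ha)
      · exact (hnb s es).resolve_right (not_not.2 hs)
      · have h5 := (hnb (a * s) (by rw [bt_mul_right hC ha hs hσ, es, (bt_comm_iff hC σ a).2 hσa, one_mul])).resolve_right
          (not_not.2 (R.mul_mem ha hs))
        rwa [map_mul pg a s] at h5
  obtain ⟨e, he, hea, hes, hpg, he1, he2, he3, he4⟩ := hout
  have hks : (t⁻¹ * t') * s = s * (t⁻¹ * t') :=
    ((show Commute s t from ht.comm hcs).inv_right.mul_right (show Commute s t' from ht'.comm hcs')).symm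
  set k := t⁻¹ * t' with hk
  have hPm : Pm a = 1 - Pr a := eq_sub_of_add_eq' (Pr_add_Pm hC a)
  have hxs : x * s = s * x := by
    apply Units.ext
    rw [Units.val_mul, Units.val_mul]
    change mt x * mt s = mt s * mt x
    have e1 := Pr_comm (g := s) (a := a) hsa
    have e2 := comm_mt hks
    rw [hxv, hPm, add_mul, mul_add, e1, mul_sub, mul_one, mul_sub, ← mul_assoc, ← e2, sub_mul, mul_assoc (mt k) _ (mt s),
      ← e1, ← mul_assoc]
  refine ⟨s, x, hs, hs1, hs2, hx, hxs, u, hu, hus, fun r' hr' hr's c hc => ?_⟩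
  have hxinv : x * u = x * u := rfl
  have hxP : Pr a * mt x = Pr a := by
    rw [hxv, mul_add, Pr_mul_Pr hC ha2, ← mul_assoc, ← Pr_comm hka, mul_assoc, Pr_mul_Pm ha2, mul_zero, add_zero]
  have hxM : Pm a * mt x = mt k * Pm a := by
    have h1 : Pm a * mt k = mt k * Pm a := by
      rw [hPm, sub_mul, mul_sub, one_mul, mul_one, Pr_comm hka]
    rw [hxv, mul_add, Pm_mul_Pr ha2, zero_add, ← mul_assoc, h1, mul_assoc]
    congr 1
    rw [hPm]; simp only [sub_mul, mul_sub, one_mul, mul_one, Pr_mul_Pr hC ha2]; abel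
  have hxP' : Pr a * ((x⁻¹ : GL ι F) : Matrix ι ι F) = Pr a := by
    calc Pr a * ((x⁻¹ : GL ι F) : Matrix ι ι F) = Pr a * mt x * ((x⁻¹ : GL ι F) : Matrix ι ι F) := by rw [hxP]
      _ = Pr a := by rw [mul_assoc, Units.mul_inv, mul_one]
  have hxM' : Pm a * ((x⁻¹ : GL ι F) : Matrix ι ι F) = ((k⁻¹ : GL ι F) : Matrix ι ι F) * Pm a := by
    have h2 := congrArg (fun M => ((k⁻¹ : GL ι F) : Matrix ι ι F) * M * ((x⁻¹ : GL ι F) : Matrix ι ι F)) hxM
    simp only [mul_assoc, Units.mul_inv, mul_one] at h2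
    rw [← mul_assoc ((k⁻¹ : GL ι F) : Matrix ι ι F) (mt k), Units.inv_mul, one_mul] at h2
    exact h2.symm
  have huP := Pr_comm (g := u) (a := a) hua
  have hku : Commute (k * u * k⁻¹) a :=
    ((show Commute k a from hka).mul_left hua).mul_left (show Commute k a from hka).inv_left
  have hconj : mt (x * u * x⁻¹) = mt u * Pr a + mt (k * u * k⁻¹) * Pm a := by
    rw [mt_conj]
    calc mt x * mt u * ((x⁻¹ : GL ι F) : Matrix ι ι F)
        = (Pr a + mt k * Pm a) * mt u * ((x⁻¹ : GL ι F) : Matrix ι ι F) := by rw [hxv]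
      _ = mt u * (Pr a * ((x⁻¹ : GL ι F) : Matrix ι ι F)) +
            mt k * mt u * (Pm a * ((x⁻¹ : GL ι F) : Matrix ι ι F)) := by
          rw [hPm, add_mul, add_mul, mul_assoc (mt k) (1 - Pr a) (mt u), sub_mul, one_mul, ← huP]
          simp only [mul_sub, mul_one, sub_mul, ← mul_assoc, one_mul]
      _ = _ := by rw [hxP', hxM', mt_conj]; simp only [mul_assoc]
  rw [hconj] at hc
  set k' := k * u * k⁻¹ with hk'
  rcases hC.comm r' hr' a ha with hra | hra
  · -- compare on both parts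
    have hp : mt u * (Pr a * Pr s) = c • (mt r' * (Pr a * Pr s)) := by
      have h1 := congrArg (fun M => Pr a * M) hc
      simp only [add_mul, mul_add, mul_smul_comm] at h1
      rw [← mul_assoc (Pr a) (mt u * Pr a), ← mul_assoc (Pr a) (mt u) (Pr a), ← huP, mul_assoc (mt u),
        Pr_mul_Pr hC ha2, ← mul_assoc (Pr a) (mt k' * Pm a), ← mul_assoc (Pr a) (mt k') (Pm a), ← Pr_comm hku,
        mul_assoc (mt k'), Pr_mul_Pm ha2, mul_zero, zero_mul, add_zero, ← mul_assoc (Pr a) (mt r'), ← Pr_comm hra] at h1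
      simpa only [mul_assoc] using h1
    have hm : mt k' * (Pm a * Pr s) = c • (mt r' * (Pm a * Pr s)) := by
      rw [add_mul] at hc
      have hsplit : c • (mt r' * Pr s) = c • (mt r' * (Pm a * Pr s)) + c • (mt r' * (Pr a * Pr s)) := by
        rw [← smul_add, ← mul_add, ← add_mul, add_comm (Pm a), Pr_add_Pm hC, one_mul]
      rw [mul_assoc, mul_assoc, add_comm, hp, hsplit] at hc
      exact add_right_cancel hc
    have hc0 : c ≠ 0 := by
      rintro rfl
      rw [zero_smul] at hp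
      exact Pr_mul_Pr_ne_zero hC ha ha1 hs hs1 hsne (by
        have := congrArg (fun M => ((u⁻¹ : GL ι F) : Matrix ι ι F) * M) hp
        simpa [← mul_assoc] using this)
    have hpu : mt (r'⁻¹ * u) * (Pr a * Pr s) = c • (Pr a * Pr s) := by
      rw [mt, Units.val_mul, mul_assoc, show (u : Matrix ι ι F) * (Pr a * Pr s) = _ from hp, mul_smul_comm, ← mul_assoc,
        Units.inv_mul, one_mul]
    have hru : r'⁻¹ * u ∈ R := R.mul_mem (R.inv_mem hr') hu
    have cra : Commute r' a := hra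
    have crs : Commute r' s := hr's
    have k1 := pg_of_mul_Pr₂ hC ha hs hru ha1 hs1 hsne (cra.inv_left.mul_left hua) (crs.inv_left.mul_left hus) hpu
    -- the conjugate lifted into the group
    obtain ⟨d, hd0⟩ := (pg_eq_iff k' (u * e)).1 (by rw [hpg, map_mul])
    have hd00 : d ≠ 0 := fun h0 => by have := hC.nonempty; exact mt_ne_zero k' (by rw [hd0, h0, zero_smul])
    have hue : u * e ∈ R := R.mul_mem hu he
    -- transfer the second part to the fixed space by a swapping element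
    obtain ⟨b, hb, hba, hbs⟩ := exists_signs hC hs ha ha1 (fun h => hsne h.symm)
    have hbas : mt b * (Pm a * Pr s) = Pr a * Pr s * mt b := by
      have hab : mt a * mt b = -(mt b * mt a) := by
        have := hC.mul_bt ha hb; rwa [hbs, neg_one_smul] at this
      have hbm : mt b * Pm a = Pr a * mt b := by
        unfold Pm Pr
        rw [mul_smul_comm, smul_mul_assoc, mul_sub, add_mul, mul_one, one_mul, hab, ← sub_eq_add_neg]
      rw [← mul_assoc, hbm, mul_assoc, Pr_comm ((bt_comm_iff hC s b).1 hba).symm, mul_assoc]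
    have hm' : mt (r'⁻¹ * (u * e)) * (Pm a * Pr s) = (d⁻¹ * c) • (Pm a * Pr s) := by
      have h4 : mt (u * e) * (Pm a * Pr s) = (d⁻¹ * c) • (mt r' * (Pm a * Pr s)) := by
        rw [hd0, smul_mul_assoc] at hm
        rw [mul_smul, ← hm, smul_smul, inv_mul_cancel₀ hd00, one_smul]
      rw [mt, Units.val_mul, mul_assoc, show ((u * e : GL ι F) : Matrix ι ι F) * (Pm a * Pr s) = _ from h4,
        mul_smul_comm, ← mul_assoc, Units.inv_mul, one_mul]
    set q := r'⁻¹ * (u * e) with hq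
    have hqR : q ∈ R := R.mul_mem (R.inv_mem hr') hue
    have hq' : mt (b * q * b⁻¹) * (Pr a * Pr s) = (d⁻¹ * c) • (Pr a * Pr s) := by
      have h5 : Pr a * Pr s = mt b * (Pm a * Pr s) * ((b⁻¹ : GL ι F) : Matrix ι ι F) := by
        rw [hbas, mul_assoc, Units.mul_inv, mul_one]
      rw [mt_conj, h5]
      calc mt b * mt q * ((b⁻¹ : GL ι F) : Matrix ι ι F) * (mt b * (Pm a * Pr s) * ((b⁻¹ : GL ι F) : Matrix ι ι F))
          = mt b * mt q * (((b⁻¹ : GL ι F) : Matrix ι ι F) * mt b) * (Pm a * Pr s) *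
              ((b⁻¹ : GL ι F) : Matrix ι ι F) := by simp only [mul_assoc]
        _ = mt b * (mt q * (Pm a * Pr s)) * ((b⁻¹ : GL ι F) : Matrix ι ι F) := by
            rw [Units.inv_mul, mul_one]; simp only [mul_assoc]
        _ = _ := by rw [hm', mul_smul_comm, smul_mul_assoc]
    have cua : Commute u a := hua
    have cus : Commute u s := hus
    have cqa : Commute q a := cra.inv_left.mul_left (cua.mul_left hea)
    have cqs : Commute q s := crs.inv_left.mul_left (cus.mul_left hes)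
    have hbqR : b * q * b⁻¹ ∈ R := R.mul_mem (R.mul_mem hb hqR) (R.inv_mem hb)
    have hpgbq : pg (b * q * b⁻¹) = pg q := by
      rw [map_mul, map_mul, map_inv, hC.pg_comm hb hqR, mul_inv_cancel_right]
    have k2 := pg_of_mul_Pr₂ hC ha hs hbqR ha1 hs1 hsne
      ((bt_comm_iff hC _ a).1 (by rw [hC.bt_congr hbqR hqR ha ha hpgbq rfl]; exact (bt_comm_iff hC q a).2 cqa))
      ((bt_comm_iff hC _ s).1 (by rw [hC.bt_congr hbqR hqR hs hs hpgbq rfl]; exact (bt_comm_iff hC q s).2 cqs))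
      hq'
    rw [hpgbq] at k2
    have hqe : pg q = pg (r'⁻¹ * u) * pg e := by rw [hq, map_mul, map_mul, map_mul, mul_assoc]
    rw [hqe] at k2
    have hA := hC.pg_sq ha
    have hS := hC.pg_sq hs
    have hAS := hC.pg_comm ha hs
    rcases k1 with h | h | h | h <;> rw [h] at k2
    · simp only [one_mul] at k2
      exact k2.elim he1 (fun k => k.elim he2 (fun k => k.elim he3 he4))
    · rcases k2 with g | g | g | g
      · exact he2 ((eq_inv_of_mul_eq_one_right g).trans (inv_eq_of_mul_eq_one_right hA))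
      · exact he1 (mul_eq_left.1 g)
      · exact he4 (mul_left_cancel (g.trans (by rw [← mul_assoc, hA, one_mul])))
      · exact he3 (mul_left_cancel g)
    · rcases k2 with g | g | g | g
      · exact he3 ((eq_inv_of_mul_eq_one_right g).trans (inv_eq_of_mul_eq_one_right hS))
      · exact he4 (mul_left_cancel (g.trans (by rw [hAS, ← mul_assoc, hS, one_mul])))
      · exact he1 (mul_eq_left.1 g)
      · exact he2 (mul_left_cancel (g.trans hAS))
    · rcases k2 with g | g | g | g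
      · exact he4 ((eq_inv_of_mul_eq_one_right g).trans (by
          rw [_root_.mul_inv_rev, inv_eq_of_mul_eq_one_right hS, inv_eq_of_mul_eq_one_right hA, hAS]))
      · exact he3 (mul_left_cancel (g.trans (by rw [mul_assoc, hS, mul_one])))
      · exact he2 (mul_left_cancel (g.trans (by rw [hAS, mul_assoc, hA, mul_one])))
      · exact he1 (mul_eq_left.1 g)
  · -- anticommuting: the first part vanishes
    have h1 := congrArg (fun M => Pr a * (M * Pr a)) hc
    have eS : Pr s * Pr a = Pr a * Pr s := by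
      unfold Pr
      rw [smul_mul_smul_comm, smul_mul_smul_comm, add_mul, add_mul, mul_add, mul_add, mul_add, mul_add, comm_mt hsa]
      simp only [one_mul, mul_one]; abel_nf
    have hra' : mt a * mt r' = -(mt r' * mt a) := by rw [hra, neg_neg]
    have L : Pr a * ((mt u * Pr a + mt k' * Pm a) * Pr s * Pr a) = mt u * (Pr a * Pr s) := by
      rw [mul_assoc _ (Pr s) (Pr a), eS, ← mul_assoc, mul_add, ← mul_assoc (Pr a) (mt u) (Pr a), ← huP, mul_assoc (mt u),
        Pr_mul_Pr hC ha2, ← mul_assoc (Pr a) (mt k') (Pm a), ← Pr_comm hku, mul_assoc (mt k'), Pr_mul_Pm ha2, mul_zero,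
        add_zero, mul_assoc (mt u), ← mul_assoc (Pr a) (Pr a), Pr_mul_Pr hC ha2]
    have Rz : Pr a * (c • (mt r' * Pr s) * Pr a) = 0 := by
      rw [smul_mul_assoc, mul_smul_comm, mul_assoc, eS, ← mul_assoc (mt r'), Pr_anti hra', mul_assoc (Pm a),
        ← mul_assoc (Pr a) (Pm a), Pr_mul_Pm ha2, zero_mul, smul_zero]
    rw [show Pr a * ((mt u * Pr a + mt k' * Pm a) * Pr s * Pr a) = Pr a * (c • (mt r' * Pr s) * Pr a) from h1] at L
    rw [Rz] at L
    exact Pr_mul_Pr_ne_zero hC ha ha1 hs hs1 hsne (by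
      have := congrArg (fun M => ((u⁻¹ : GL ι F) : Matrix ι ι F) * M) L.symm
      simpa [← mul_assoc] using this)

end CfsgLib.CliffMax93
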