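import Cfsg.Agent.Lib.CliffMax93.Block
import Cfsg.Agent.Lib.CliffMax93.Control
import Cfsg.Agent.Lib.PrimeElusive.SymplType

/-!
Consequences of the Clifford structure: absolute irreducibility, determinants, recognition as symplectic-type data,
and rigidity of the normaliser.
-/

set_option autoImplicit false
set_option linter.unusedSectionVars false

namespace CfsgLib.CliffMax93

open Cfsg Cfsg.Geo Matrix
open scoped MatrixGroups

variable {ι : Type} [Fintype ι] [DecidableEq ι] {F : Type*} [Field F] [Finite F] {R : Subgroup (GL ι F)} {i : F}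

/-- A Clifford group is absolutely irreducible. -/
theorem Cliff.absIrr (hC : Cliff R i) : ActsAbsolutelyIrreducibly (matrixSet R) := by
  classical
  have := hC.nonempty
  haveI : Finite (PG ι F) := Quotient.finite _
  haveI : Fintype (Wbar R) := Fintype.ofFinite _
  have hl : ∀ w : Wbar R, ∃ r ∈ R, pg r = (w : PG ι F) := fun w => w.2
  choose r hr hrw using hl
  refine ⟨fun W hW => ?_, fun M hM => hC.irr M fun a ha => hM _ ⟨a, ha, rfl⟩⟩
  by_cases hW0 : W = ⊥
  · exact Or.inl hW0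
  right
  obtain ⟨v, hv, hv0⟩ := (Submodule.ne_bot_iff W).1 hW0
  obtain ⟨k, hk⟩ := Function.ne_iff.1 hv0
  have hli : LinearIndependent F fun w => mt (r w) :=
    linearIndependent_of_signs r (fun a : R => (a : GL ι F)) (fun a w => bt (a : GL ι F) (r w))
      (fun a w => mt_conj_bt hC a.2 (hr w)) fun w w' hne => by
        by_contra hall
        push Not at hall
        have hd : r w * (r w')⁻¹ ∈ R := R.mul_mem (hr w) (R.inv_mem (hr w'))
        have h1 : pg (r w * (r w')⁻¹) = 1 := hC.pg_eq_one_of_comm fun b hb => (bt_comm_iff hC _ _).1 (by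
          have e : bt b (r w) = bt b (r w * (r w')⁻¹) * bt b (r w') := by
            rw [← bt_mul_right hC hd (hr w') hb, inv_mul_cancel_right]
          rw [hall ⟨b, hb⟩] at e
          have hne0 : bt b (r w') ≠ 0 := fun z => by
            have := bt_sq b (r w'); rw [z, zero_mul] at this; exact zero_ne_one this
          rw [bt_symm]
          exact (mul_eq_right₀ hne0).1 e.symm)
        rw [map_mul, map_inv, mul_inv_eq_one, hrw, hrw] at h1
        exact hne (Subtype.ext h1)
  have hspan := hli.span_eq_top_of_card_eq_finrank' (by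
    rw [Module.finrank_matrix, Module.finrank_self, mul_one, ← Nat.card_eq_fintype_card, hC.card, pow_two])
  have hM : ∀ M : Matrix ι ι F, M *ᵥ v ∈ W := fun M => by
    have hle : Submodule.span F (Set.range fun w => mt (r w)) ≤
        W.comap ((Matrix.mulVecBilin F F).flip v) := by
      rw [Submodule.span_le]
      rintro _ ⟨w, rfl⟩
      have := hW _ ⟨r w, hr w, rfl⟩ ⟨v, hv, Matrix.toLin'_apply _ _⟩
      simpa using this
    rw [hspan] at hle
    simpa using hle (Submodule.mem_top (x := M))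
  rw [Submodule.eq_top_iff']
  intro u
  have := hM (vecMulVec u (Pi.single k (v k)⁻¹))
  rw [vecMulVec_mulVec, single_dotProduct, inv_mul_cancel₀ hk] at this
  simpa using this

theorem i_pow_four (hC : Cliff R i) : i ^ 4 = 1 := by
  rw [show i ^ 4 = (i * i) * (i * i) by ring, hC.hi]; ring

/-- Determinants in even dimension divisible by four. -/
theorem det_lifts {κ : Type} [Fintype κ] [DecidableEq κ] (hC : Cliff R i)
    (hκ : Fintype.card ι = 2 * Fintype.card κ) (heven : Even (Fintype.card κ)) :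
    (∀ r ∈ R, (mt r).det = 1) ∧
      ∀ s ∈ R, pg s ≠ 1 → mt s * mt s = 1 → ∀ t, IsT i t s → (mt t).det = i ^ Fintype.card κ := by
  have hinv : ∀ s ∈ R, pg s ≠ 1 → mt s * mt s = 1 →
      (mt s).det = 1 ∧ (Tm i (mt s)).det = i ^ Fintype.card κ := by
    intro s hs hs1 hs2
    obtain ⟨b, hb, hsb⟩ := hC.exists_anti hs1
    obtain ⟨b', hb', hbb, hb2⟩ := hC.exists_lift_one hb
    have hsb' : bt s b' = -1 := by rw [hC.bt_congr hs hs hb' hb rfl hbb, hsb]
    obtain ⟨Φ, hdet, S⟩ := exists_std (κ := κ) hC hκ hs hb' hs2 hb2 hsb'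
    have e : Φ (mt s) = fromBlocks 1 0 0 (-1) := S.aval
    constructor
    · rw [← hdet, e, det_fromBlocks_zero₂₁, det_one, one_mul, det_neg, det_one, mul_one, heven.neg_one_pow]
    · rw [← hdet, Tm, map_add, map_smul, map_smul, map_one, e, ← fromBlocks_one, fromBlocks_smul, fromBlocks_smul,
        fromBlocks_add, smul_zero, smul_zero, add_zero, det_fromBlocks_zero₂₁, ← add_smul, det_smul, det_one, mul_one,
        smul_neg, ← sub_eq_add_neg, ← sub_smul, det_smul, det_one, mul_one, ← mul_pow]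
      have h2 := hC.two
      congr 1
      field_simp
      ring
  have hscal : ∀ c : F, c ^ 4 = 1 → c ^ Fintype.card ι = 1 := by
    intro c hc
    obtain ⟨j, hj⟩ := heven
    rw [hκ, hj, show 2 * (j + j) = 4 * j by ring, pow_mul, hc, one_pow]
  refine ⟨fun r hr => ?_, fun s hs hs1 hs2 t ht => by rw [show mt t = _ from ht]; exact (hinv s hs hs1 hs2).2⟩
  obtain ⟨s, hs, hsr, hs2⟩ := hC.exists_lift_one hr
  obtain ⟨c, hc⟩ := (pg_eq_iff r s).1 hsr.symm
  have := hC.nonempty
  have hcc : c * c = 1 ∨ c * c = -1 := by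
    have h1 : (c * c) • mt (1 : GL ι F) = mt r * mt r := by
      rw [hc, smul_mul_smul_comm, hs2]; simp [mt]
    rcases hC.sq r hr with h | h <;> rw [h] at h1
    · exact Or.inl (smul_inj_mt (g := (1 : GL ι F)) (by rw [h1, one_smul]; simp [mt]))
    · exact Or.inr (smul_inj_mt (g := (1 : GL ι F)) (by rw [h1, neg_one_smul]; simp [mt]))
  have hc4 : c ^ 4 = 1 := by
    rcases hcc with h | h <;> rw [show c ^ 4 = (c * c) * (c * c) by ring, h] <;> ring
  by_cases hs1 : pg s = 1
  · obtain ⟨d, hd⟩ := (pg_eq_one_iff s).1 hs1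
    have hd2 : d * d = 1 := smul_inj_mt (g := (1 : GL ι F)) (by
      rw [one_smul]
      simp only [mt, Units.val_one]
      rw [hd, smul_mul_smul_comm, one_mul] at hs2
      exact hs2)
    rw [hc, hd, smul_smul, det_smul, det_one, mul_one]
    refine hscal _ ?_
    rw [mul_pow, hc4, show d ^ 4 = (d * d) * (d * d) by ring, hd2]; ring
  · rw [hc, det_smul, (hinv s hs hs1 hs2).1, hscal c hc4, mul_one]

/-- In dimension four a Clifford group is symplectic-type data. -/
theorem Cliff.data (hC : Cliff R i) (h4 : Fintype.card ι = 4) : CfsgLib.PrimeElusive.SymplType.Data R 4 := by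
  have := hC.nonempty
  haveI : Finite R := Subtype.finite
  obtain ⟨z, hz, hzi⟩ := hC.scal
  let zz : R := ⟨z, hz⟩
  have hzp : ∀ k : ℕ, mt ((zz ^ k : R) : GL ι F) = (i ^ k) • 1 := fun k => by
    rw [Subgroup.coe_pow, mt, Units.val_pow_eq_pow_val, show (z : Matrix ι ι F) = _ from hzi, smul_pow, one_pow]
  have hord : orderOf zz = 2 ^ (1 + 1) := by
    refine orderOf_eq_prime_pow ?_ ?_
    · intro e
      have h1 := hzp (2 ^ 1)
      rw [e] at h1
      refine hC.neg_one_ne_one (smul_inj_mt (g := (1 : GL ι F)) ?_)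
      rw [one_smul, ← hC.hi]
      simp only [pow_one, pow_two] at h1
      simpa [mt] using h1.symm
    · refine Subtype.ext (Units.ext ?_)
      show mt ((zz ^ (2 ^ (1 + 1)) : R) : GL ι F) = _
      rw [hzp, show 2 ^ (1 + 1) = 4 from rfl, i_pow_four hC, one_smul]; rfl
  have hcen : Subgroup.center R = Subgroup.zpowers zz := by
    refine le_antisymm (fun g hg => ?_) ?_
    · obtain ⟨c, hc⟩ := (pg_eq_one_iff (g : GL ι F)).1 (hC.pg_eq_one_of_comm fun b hb =>
        congrArg Subtype.val (Subgroup.mem_center_iff.1 hg ⟨b, hb⟩).symm)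
      have hcc : c * c = 1 ∨ c * c = -1 := by
        rcases hC.sq _ g.2 with h | h <;> rw [hc, smul_mul_smul_comm, one_mul] at h
        · exact Or.inl (smul_inj_mt (g := (1 : GL ι F)) (by simpa [mt] using h))
        · exact Or.inr (smul_inj_mt (g := (1 : GL ι F)) (by simpa [mt] using h))
      have : ∃ k : ℕ, c = i ^ k := by
        rcases hcc with h | h
        · rcases mul_self_eq_one_iff.1 h with rfl | rfl
          · exact ⟨0, by rw [pow_zero]⟩
          · exact ⟨2, by rw [pow_two, hC.hi]⟩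
        · rcases mul_self_eq_mul_self_iff.1 (show c * c = i * i by rw [h, hC.hi]) with rfl | rfl
          · exact ⟨1, by rw [pow_one]⟩
          · exact ⟨3, by rw [pow_succ, pow_two, hC.hi, neg_one_mul]⟩
      obtain ⟨k, rfl⟩ := this
      rw [show g = zz ^ k from Subtype.ext (Units.ext (show mt (g : GL ι F) = mt ((zz ^ k : R) : GL ι F) by
        rw [hzp, hc]))]
      exact pow_mem (Subgroup.mem_zpowers zz) k
    · rw [Subgroup.zpowers_le, Subgroup.mem_center_iff]
      intro g
      refine Subtype.ext (Units.ext ?_)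
      show (g : GL ι F).val * (z : GL ι F).val = (z : GL ι F).val * (g : GL ι F).val
      rw [show (z : Matrix ι ι F) = _ from hzi]; simp
  have hcard4 : Nat.card (Subgroup.center R) = 4 := by rw [hcen, Nat.card_zpowers, hord]; norm_num
  refine ⟨h4, hC.two, hC.absIrr, hC.comm, hC.sq, ?_, hcard4, by norm_num⟩
  let φ : R →* PG ι F := (pg (ι := ι) (F := F)).comp R.subtype
  have hker : φ.ker = Subgroup.center R := by
    ext x
    rw [MonoidHom.mem_ker]
    refine ⟨fun h => ?_, fun h => hC.pg_eq_one_of_comm fun b hb =>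
      congrArg Subtype.val (Subgroup.mem_center_iff.1 h ⟨b, hb⟩).symm⟩
    obtain ⟨c, hc⟩ := (pg_eq_one_iff (x : GL ι F)).1 h
    rw [Subgroup.mem_center_iff]
    intro g
    refine Subtype.ext (Units.ext ?_)
    show (g : GL ι F).val * (x : GL ι F).val = (x : GL ι F).val * (g : GL ι F).val
    rw [show ((x : GL ι F) : Matrix ι ι F) = _ from hc]; simp
  have hrange : φ.range = R.map pg := by rw [MonoidHom.range_comp, Subgroup.range_subtype]
  have h3 := Subgroup.card_eq_card_quotient_mul_card_subgroup φ.ker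
  rw [Nat.card_congr (QuotientGroup.quotientKerEquivRange φ).toEquiv, hrange, hker, hcard4, hC.card, h4] at h3
  rw [h3]; norm_num

/-- An element conjugating the group and all its lifts into the normaliser normalises the group. -/
theorem mem_normalizer_of_conj_mem (hC : Cliff R i) (hne : ∃ r ∈ R, pg r ≠ 1) {A : GL ι F}
    (hN : ∀ w ∈ Subgroup.normalizer (R : Set (GL ι F)), A⁻¹ * w * A ∈ Subgroup.normalizer (R : Set (GL ι F)))
    (hR : ∀ r ∈ R, A * r * A⁻¹ ∈ Subgroup.normalizer (R : Set (GL ι F))) :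
    A ∈ Subgroup.normalizer (R : Set (GL ι F)) := by
  classical
  haveI : Finite (PG ι F) := Quotient.finite _
  have hT : HasT R i (Subgroup.normalizer (R : Set (GL ι F))) := fun s hs _ hs2 => by
    obtain ⟨t, ht⟩ := exists_isT hC hs2
    exact ⟨t, ht.mem_normalizer hC hs2 hs, ht⟩
  by_cases hno : ∃ r₀ ∈ R, pg r₀ ≠ 1 ∧ pg (A * r₀ * A⁻¹) ∈ Wbar R
  · obtain ⟨r₀, hr₀, hr1, v, hv, hve⟩ := hno
    have hv1 : pg v ≠ 1 := fun e => hr1 (by
      rw [e, map_mul, map_mul, map_inv, eq_comm, conj_eq_one_iff] at hve; exact hve)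
    have hinv : A⁻¹ ∈ Subgroup.normalizer (R : Set (GL ι F)) := by
      refine mem_normalizer_of_conj fun v' hv' => ?_
      rw [inv_inv]
      by_cases hv1' : pg v' = 1
      · obtain ⟨c, hc⟩ := (pg_eq_one_iff v').1 hv1'
        rw [show A⁻¹ * v' * A = v' from Units.ext (by
          simp only [Units.val_mul, show (v' : Matrix ι ι F) = _ from hc]; simp)]
        exact hv'
      obtain ⟨m, hm, -, hmv⟩ := transitive hC hT hv hv' hv1 hv1'
      have hr₁ : A⁻¹ * m * A * r₀ * (A⁻¹ * m * A)⁻¹ ∈ R := (Subgroup.mem_normalizer_iff.1 (hN m hm) _).1 hr₀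
      have e : pg (A⁻¹ * v' * A) = pg (A⁻¹ * m * A * r₀ * (A⁻¹ * m * A)⁻¹) := by
        simp only [map_mul, map_inv] at hmv hve ⊢
        rw [← hmv, hve]
        group
      refine hC.mem_of_pg_eq hr₁ e ?_
      have := hC.lift_mem_sq (g := A⁻¹) hv'
      rwa [inv_inv] at this
    simpa using inv_mem hinv
  · exfalso
    push Not at hno
    obtain ⟨r₀, hr₀, hr1⟩ := hne
    refine hno r₀ hr₀ hr1 (hC.pg_mem_of_centralizes fun w hw => ?_)
    obtain ⟨v, hv, rfl⟩ := hw
    have hc : v * (A * r₀ * A⁻¹) * v⁻¹ * (A * r₀ * A⁻¹)⁻¹ ∈ R := by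
      rw [show v * (A * r₀ * A⁻¹) * v⁻¹ * (A * r₀ * A⁻¹)⁻¹ =
        v * ((A * r₀ * A⁻¹) * v⁻¹ * (A * r₀ * A⁻¹)⁻¹) by group]
      exact R.mul_mem hv ((Subgroup.mem_normalizer_iff.1 (hR r₀ hr₀) _).1 (R.inv_mem hv))
    have hr₁ : A⁻¹ * v * A * r₀ * (A⁻¹ * v * A)⁻¹ * r₀⁻¹ ∈ R :=
      R.mul_mem ((Subgroup.mem_normalizer_iff.1 (hN v (Subgroup.le_normalizer hv)) _).1 hr₀) (R.inv_mem hr₀)
    have e : v * (A * r₀ * A⁻¹) * v⁻¹ * (A * r₀ * A⁻¹)⁻¹ =
        A * (A⁻¹ * v * A * r₀ * (A⁻¹ * v * A)⁻¹ * r₀⁻¹) * A⁻¹ := by group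
    rw [e] at hc
    have h1 : pg (A⁻¹ * v * A * r₀ * (A⁻¹ * v * A)⁻¹ * r₀⁻¹) = 1 := by
      by_contra h1
      exact hno _ hr₁ h1 ⟨_, hc, rfl⟩
    have h2 : pg (v * (A * r₀ * A⁻¹) * v⁻¹ * (A * r₀ * A⁻¹)⁻¹) = 1 := by
      rw [e, map_mul, map_mul, h1, mul_one, ← map_mul, mul_inv_cancel, map_one]
    simp only [map_mul, map_inv] at h2 ⊢
    exact (mul_inv_eq_iff_eq_mul.1 (mul_inv_eq_one.1 h2)).symm

/-- Good elements transport. -/
theorem Good.map {ι' : Type} [Fintype ι'] [DecidableEq ι'] {X : Subgroup (GL ι F)} {a x : GL ι F}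
    (h : Good R X a x) (Φ : Matrix ι ι F ≃ₐ[F] Matrix ι' ι' F) :
    Good (R.map (glMap Φ).toMonoidHom) (X.map (glMap Φ).toMonoidHom) (glMap Φ a) (glMap Φ x) := by
  obtain ⟨ha, ha1, ha2, hx, hxa, r, hr, hra, hbad⟩ := h
  have hPr : Pr (glMap Φ a) = Φ (Pr a) := by
    rw [Pr, Pr, map_smul, map_add, map_one, mt_glMap]
  refine ⟨⟨a, ha, rfl⟩, ?_, ?_, ⟨x, hx, rfl⟩, by rw [← map_mul, hxa, map_mul], glMap Φ r, ⟨r, hr, rfl⟩,
    by rw [← map_mul, hra, map_mul], ?_⟩
  · intro e
    rw [← map_one (pg (ι := ι') (F := F)), ← map_one (glMap Φ), pg_glMap_eq_iff, map_one] at e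
    exact ha1 e
  · rw [mt_glMap, ← map_mul, ha2, map_one]
  · rintro _ ⟨r', hr', rfl⟩ hr'a c e
    refine hbad r' hr' ((glMap Φ).injective (by
      rw [map_mul, map_mul]; exact hr'a)) c (Φ.injective ?_)
    rw [map_mul, ← mt_glMap, map_mul, map_mul, map_inv, map_smul, map_mul, ← mt_glMap, ← hPr]
    exact e

end CfsgLib.CliffMax93
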